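import Mathlib
import Cfsg.Agent.H83.ChevInv
import Cfsg.Agent.H91.E6Fix

/-!
Kernel checks for the graph automorphism of `E₆` in characteristic 2 (helper78), used in `H78.E6Gr`.
-/

set_option autoImplicit false

namespace Cfsg.Agent.H78.E6Gr

open Cfsg.Lie Cfsg.Agent.ChevalleyStructure Cfsg.Agent.H83.ChevInv
open Cfsg.Agent.H91.E6Fix (rho rho_lt)

/-- the symmetry of the diagram -/
def p6 : Equiv.Perm (Fin 6) where
  toFun := ![5, 1, 4, 3, 2, 0]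
  invFun := ![5, 1, 4, 3, 2, 0]
  left_inv := by decide
  right_inv := by decide

theorem vec_rho : ∀ r < 72, ∀ i : Fin 6, RootVec.rt chevE6 (rho r) i = RootVec.rt chevE6 r (p6 i) := by
  decide +kernel

theorem eps_pm : ∀ r : Fin 72, TwE6Basic.epsE r = 1 ∨ TwE6Basic.epsE r = -1 := by decide +kernel

/-- `r + s` is not a root -/
def noSum (r s : ℕ) : Bool := decide (s ≠ r) && decide (s ≠ chevE6.neg r) && decide (chevE6.commTerms r s = [])

/-- `r + s = c` -/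
def sumIs (r s c : ℕ) : Bool := decide (s ≠ r) && decide (s ≠ chevE6.neg r) &&
  (decide (chevE6.commTerms r s = [(c, 1, 1, 1)]) || decide (chevE6.commTerms r s = [(c, -1, 1, 1)]))

/-- `(r, s, a, b)` : `a + ρ a = r - s`, `b = a + s` -/
def tab : List (ℕ × ℕ × ℕ × ℕ) := [
  (0, 11, 21, 3), (0, 27, 10, 4), (0, 32, 9, 7), (0, 39, 7, 9), (0, 44, 4, 10), (0, 60, 3, 21), (1, 8, 28, 3), (1,
  20, 13, 4), (1, 24, 12, 7), (1, 47, 7, 12), (1, 51, 4, 13), (1, 63, 3, 28), (2, 6, 29, 3), (2, 18, 14, 4), (2,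
  25, 12, 9), (2, 46, 9, 12), (2, 53, 4, 14), (2, 65, 3, 29), (6, 2, 37, 3), (6, 18, 15, 7), (6, 25, 13, 10), (6,
  46, 10, 13), (6, 53, 7, 15), (6, 69, 3, 37), (8, 1, 40, 3), (8, 20, 15, 9), (8, 24, 14, 10), (8, 47, 10, 14),
  (8, 51, 9, 15), (8, 70, 3, 40), (11, 0, 48, 3), (11, 27, 15, 12), (11, 32, 14, 13), (11, 39, 13, 14), (11, 44,
  12, 15), (11, 71, 3, 48), (18, 2, 38, 4), (18, 6, 36, 7), (18, 25, 28, 21), (18, 46, 21, 28), (18, 65, 7, 36),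
  (18, 69, 4, 38), (20, 1, 41, 4), (20, 8, 36, 9), (20, 24, 29, 21), (20, 47, 21, 29), (20, 63, 9, 36), (20, 70,
  4, 41), (24, 1, 45, 7), (24, 8, 38, 10), (24, 20, 37, 21), (24, 51, 21, 37), (24, 63, 10, 38), (24, 70, 7, 45),
  (25, 2, 45, 9), (25, 6, 41, 10), (25, 18, 40, 21), (25, 53, 21, 40), (25, 65, 10, 41), (25, 69, 9, 45), (27, 0,
  49, 4), (27, 11, 36, 12), (27, 32, 29, 28), (27, 39, 28, 29), (27, 60, 12, 36), (27, 71, 4, 49), (32, 0, 52, 7),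
  (32, 11, 38, 13), (32, 27, 37, 28), (32, 44, 28, 37), (32, 60, 13, 38), (32, 71, 7, 52), (39, 0, 54, 9), (39,
  11, 41, 14), (39, 27, 40, 29), (39, 44, 29, 40), (39, 60, 14, 41), (39, 71, 9, 54), (44, 0, 55, 10), (44, 11,
  45, 15), (44, 32, 40, 37), (44, 39, 37, 40), (44, 60, 15, 45), (44, 71, 10, 55), (46, 2, 52, 12), (46, 6, 49,
  13), (46, 18, 48, 28), (46, 53, 28, 48), (46, 65, 13, 49), (46, 69, 12, 52), (47, 1, 54, 12), (47, 8, 49, 14),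
  (47, 20, 48, 29), (47, 51, 29, 48), (47, 63, 14, 49), (47, 70, 12, 54), (51, 1, 55, 13), (51, 8, 52, 15), (51,
  24, 48, 37), (51, 47, 37, 48), (51, 63, 15, 52), (51, 70, 13, 55), (53, 2, 55, 14), (53, 6, 54, 15), (53, 25,
  48, 40), (53, 46, 40, 48), (53, 65, 15, 54), (53, 69, 14, 55), (60, 0, 66, 21), (60, 27, 45, 36), (60, 32, 41,
  38), (60, 39, 38, 41), (60, 44, 36, 45), (60, 71, 21, 66), (63, 1, 66, 28), (63, 20, 52, 36), (63, 24, 49, 38),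
  (63, 47, 38, 49), (63, 51, 36, 52), (63, 70, 28, 66), (65, 2, 66, 29), (65, 18, 54, 36), (65, 25, 49, 41), (65,
  46, 41, 49), (65, 53, 36, 54), (65, 69, 29, 66), (69, 6, 66, 37), (69, 18, 55, 38), (69, 25, 52, 45), (69, 46,
  45, 52), (69, 53, 38, 55), (69, 65, 37, 66), (70, 8, 66, 40), (70, 20, 55, 41), (70, 24, 54, 45), (70, 47, 45,
  54), (70, 51, 41, 55), (70, 63, 40, 66), (71, 11, 66, 48), (71, 27, 55, 49), (71, 32, 54, 52), (71, 39, 52, 54),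
  (71, 44, 49, 55), (71, 60, 48, 66)]

/-- the relations used in `red` -/
def chk (e : ℕ × ℕ × ℕ × ℕ) : Bool :=
  let r := e.1; let s := e.2.1; let a := e.2.2.1; let b := e.2.2.2
  decide (r < 72) && decide (s < 72) && decide (a < 72) && decide (b < 72) && noSum a (rho a) && noSum b (rho b) &&
  sumIs (rho a) s (rho b) && sumIs a s b && sumIs a (rho b) r && noSum a r && noSum (rho a) r && noSum b s &&
  noSum r b && noSum r (rho b) && noSum a b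

theorem chk_tab : tab.all chk = true := by decide +kernel

theorem mem_tab : ∀ r < 72, rho r = r → ∀ s < 72, rho s = s → Orth chevE6 r s →
    (tab.any fun e => e.1 == r && e.2.1 == s) = true := by decide +kernel

theorem orth_tab : ∀ e ∈ tab, ∀ t < 72, rho t = t → Orth chevE6 e.1 t → Orth chevE6 e.2.1 t →
    Orth chevE6 e.2.2.1 t ∧ Orth chevE6 (rho e.2.2.1) t ∧ Orth chevE6 e.2.2.2 t ∧ Orth chevE6 (rho e.2.2.2) t := by
  decide +kernel

/-- the relative fundamental reflections on the roots -/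
def actJ (k r : ℕ) : ℕ :=
  if k = 0 then chevE6.reflectRoot 1 r else if k = 1 then chevE6.reflectRoot 3 r
  else if k = 2 then chevE6.reflectRoot 2 (chevE6.reflectRoot 4 r)
  else chevE6.reflectRoot 0 (chevE6.reflectRoot 5 r)

/-- words moving the fixed roots to the highest root -/
def words : List (ℕ × List ℕ) := [
  (0, [0, 1, 2, 1, 0, 3, 2, 1, 0, 2, 1, 3, 2, 1, 0]), (1, [0, 1, 2, 1, 0, 3, 2, 1, 0, 2, 1, 3, 2, 1]), (2, [0, 1,
  2, 1, 0, 3, 2, 1, 0, 2, 1, 3, 2]), (6, [0, 1, 2, 1, 0, 3, 2, 1, 0, 2, 1, 3]), (8, [0, 1, 2, 1, 0, 3, 2, 1, 0, 2,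
  3]), (11, [0, 1, 2, 1, 0, 3, 2, 1, 2, 3]), (18, [0, 1, 2, 1, 0, 3, 2, 1, 0, 2, 1]), (20, [0, 1, 2, 1, 0, 3, 2,
  1, 0, 2]), (24, [0, 1, 2, 1, 0, 3, 2, 1, 0]), (25, [0, 1, 2, 1, 3, 2, 1, 0]), (27, [0, 1, 2, 1, 0, 3, 2, 1, 2]),
  (32, [0, 1, 2, 1, 0, 3, 2, 1]), (39, [0, 1, 2, 1, 0, 3, 2]), (44, [0, 1, 2, 1, 0, 3]), (46, [0, 1, 2, 1, 3, 2,
  1]), (47, [0, 1, 2, 1, 3, 2]), (51, [0, 1, 2, 1, 3]), (53, [0, 1, 2, 3]), (60, [0, 1, 2, 1, 0]), (63, [0, 1, 2,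
  1]), (65, [0, 1, 2]), (69, [0, 1]), (70, [0]), (71, [])]

theorem words_ok : ∀ r < 72, rho r = r → (words.any fun e => e.1 == r && e.2.foldr actJ e.1 == 71) = true := by
  decide +kernel


end Cfsg.Agent.H78.E6Gr
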