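import Mathlib
import Cfsg.Agent.H78.TwDisp
import Cfsg.Agent.H83.ChevInv
import Cfsg.Agent.KFacts.RgdDiag

/-!
Twisted involutions of the Chevalley groups `D.group K` in characteristic 2 for a graph automorphism `γ` with
`γ (x_r(t)) = x_{ρ r}(t)`, `ρ` coming from a symmetry of order (at most) 2 of the Cartan matrix (helper78).

* `exists_orthT` : every `g ∈ D.group K` with `g * γ g = 1` is twisted conjugate (`z * g * (γ z)⁻¹`) to a product of root
  elements `x_r(1)` over a list of pairwise orthogonal roots `r` with `ρ r = r`.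
-/

set_option autoImplicit false
set_option linter.unusedSectionVars false

namespace Cfsg.Agent.H78.GrInv

open CoxeterSystem Cfsg.Agent.ChevalleyStructure.CoxeterGeom Cfsg.Agent.Tits.Roots Cfsg.Agent.Tits.Core
  Cfsg.Agent.Nodes.Reps Cfsg.Agent.Nodes.BNOf Cfsg.Agent.Nodes.RGDChev Cfsg.Agent.Nodes.Bruhat
open Cfsg.Lie Cfsg.Agent.ChevalleyStructure.Elts Cfsg.Agent.ChevalleyStructure.RootCombGood
open Cfsg.Agent.ChevalleyStructure Cfsg.Agent.ChevalleyStructure.CoxeterGeomTypes Cfsg.Agent.H83.ChevInv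
open Cfsg.Agent.H78.TwDisp Cfsg.Agent.KFacts.RgdDiag

universe u

variable {D : ChevalleyDatum} {l : ℕ} {M : CoxeterMatrix (Fin l)} (hp : IsType D l M)
  {W : Type*} [Group W] (cs : CoxeterSystem M W) {K : Type u} [Field K]

/-- A graph symmetry of order 2: `γ (x_r(t)) = x_{ρ r}(t)`. -/
structure GS (hp : IsType D l M) (K : Type u) [Field K] (γ : GL D.Idx K →* GL D.Idx K) (ρ : ℕ → ℕ)
    (π : Equiv.Perm (Fin l)) : Prop where
  inv2 : ∀ i, π (π i) = i
  mat : ∀ i j, M (π i) (π j) = M i j
  car : ∀ i j, cartanOf D l (π i) (π j) = cartanOf D l i j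
  lt : ∀ r < D.nroots, ρ r < D.nroots
  vec : ∀ r < D.nroots, vec D l (ρ r) = pm π (vec D l r)
  x : ∀ r < D.nroots, ∀ t : K, γ (xG hp.inList r t) = xG hp.inList (ρ r) t
  tor : ∀ g ∈ D.diagonalSubgroup K, γ g ∈ D.diagonalSubgroup K

section

variable {γ : GL D.Idx K →* GL D.Idx K} {ρ : ℕ → ℕ} {π : Equiv.Perm (Fin l)} (E : GS hp K γ ρ π)

include E

theorem rho_rho {r : ℕ} (hr : r < D.nroots) : ρ (ρ r) = r := by
  apply vec_inj hp (E.lt _ (E.lt r hr)) hr
  rw [E.vec _ (E.lt r hr), E.vec r hr, pm_pm E.inv2]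

theorem rho_neg {r : ℕ} (hr : r < D.nroots) : ρ (D.neg r) = D.neg (ρ r) := by
  have hn := NPerm.neg_lt hp.inList hr
  apply vec_inj hp (E.lt _ hn) (NPerm.neg_lt hp.inList (E.lt r hr))
  rw [E.vec _ hn, vec_neg hp hr, vec_neg hp (E.lt r hr), E.vec r hr, map_neg]

theorem rho_simple (i : Fin l) : ρ (D.simple i) = D.simple (π i) := by
  have h1 := NPerm.simple_lt hp.inList (lt_rank hp i)
  apply vec_inj hp (E.lt _ h1) (NPerm.simple_lt hp.inList (lt_rank hp (π i)))
  rw [E.vec _ h1, vec_simple hp, vec_simple hp, pm_sr E.inv2]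

theorem gam_n [CharP K 2] {r : ℕ} (hr : r < D.nroots) :
    γ (nG hp.inList r (1 : K)) = nG hp.inList (ρ r) 1 := by
  rw [nG_eq, nG_eq, map_mul, map_mul, E.x r hr, E.x _ (NPerm.neg_lt hp.inList hr), rho_neg hp E hr]

theorem gam_mem {g : GL D.Idx K} (hg : g ∈ D.group K) : γ g ∈ D.group K := by
  have : D.group K ≤ (D.group K).comap γ := by
    rw [group_le_iff hp.inList]
    intro r hr t
    show γ (xG hp.inList r t) ∈ D.group K
    rw [E.x r hr]
    exact xG_mem_group hp.inList _ _
  exact this hg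

theorem gam_gam {g : GL D.Idx K} (hg : g ∈ D.group K) : γ (γ g) = g := by
  have : D.group K ≤ MonoidHom.eqLocus (γ.comp γ) (MonoidHom.id _) := by
    rw [group_le_iff hp.inList]
    intro r hr t
    show γ (γ (xG hp.inList r t)) = xG hp.inList r t
    rw [E.x r hr, E.x _ (E.lt r hr), rho_rho hp E hr]
  exact this hg

theorem gam_PX {L : List ℕ} (hL : ∀ r ∈ L, r < D.nroots ∧ ρ r = r) : γ (PX hp.inList K L) = PX hp.inList K L := by
  induction L with
  | nil => rw [PX_nil, map_one]
  | cons r L ih =>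
    have h1 := hL r (by simp)
    rw [PX_cons, map_mul, E.x r h1.1, h1.2, ih fun s hs => hL s (by simp [hs])]

theorem gam_PN [CharP K 2] {L : List ℕ} (hL : ∀ r ∈ L, r < D.nroots ∧ ρ r = r) :
    γ (PN hp.inList K L) = PN hp.inList K L := by
  induction L with
  | nil => rw [PN_nil, map_one]
  | cons r L ih =>
    have h1 := hL r (by simp)
    rw [PN_cons, map_mul, gam_n hp E h1.1, h1.2, ih fun s hs => hL s (by simp [hs])]

omit E in
theorem GG_eq : GG cs hp.isCartan (D.diagonalSubgroup K) (XV D l K) = D.group K := by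
  apply le_antisymm
  · refine sup_le (diagonal_le_group hp.inList K) ?_
    refine iSup_le fun x => ?_
    exact XV_le_group hp x.1
  · rw [group_le_iff hp.inList]
    intro r hr t
    have h1 : xG hp.inList r t ∈ XV D l K (vec D l r) := by
      rw [XV_vec hp K hr]; exact xG_mem_rootSubgroup hp.inList r t
    exact X_le_GG (isRoot_vec hp cs hr) h1

/-- the twisting data for `TwDisp` -/
theorem toTw [Finite K] [CharP K 2] [Fact (Nat.Prime 2)] :
    Tw (rgd_GL (K := K) hp cs 2) γ π (hat cs π E.mat) where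
  inv2 := E.inv2
  simple := hat_simple π E.mat
  rep_ht w x := by
    have h1 := rep_hat (cs := cs) (h := hp.isCartan) E.mat E.car w x
    have h2 : ∀ x : Fin l → ℤ, x ∘ π.symm = pm π x := by
      intro x
      funext i
      show x (π.symm i) = x (π i)
      congr 1
      rw [Equiv.symm_apply_eq, E.inv2]
    rwa [h2, h2] at h1
  invol g hg := by
    rw [GG_eq hp cs] at hg
    exact gam_gam hp E hg
  root x hx y hy := by
    obtain ⟨r, hr, rfl⟩ := (isRoot_iff hp cs x).1 hx
    rw [XV_vec hp K hr] at hy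
    obtain ⟨t, rfl⟩ := (mem_rootSubgroup_iff hp.inList r y).1 hy
    rw [E.x r hr, ← E.vec r hr, XV_vec hp K (E.lt r hr)]
    exact xG_mem_rootSubgroup hp.inList _ _
  rp w k hk := by
    obtain ⟨ω, rfl⟩ := cs.wordProd_surjective w
    induction ω generalizing k with
    | nil =>
      rw [wordProd_nil] at hk ⊢
      rw [map_one]
      exact rp_of_mem (E.tor k hk.mem_of_one)
    | cons i ω ih =>
      rw [wordProd_cons] at hk ⊢
      have h1 : Rp cs (rgd_GL (K := K) hp cs 2).nsys (cs.wordProd ω) ((nn hp K i)⁻¹ * k) := by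
        have := (rp_simple cs (rgd_GL (K := K) hp cs 2).nsys i).inv.mul hk
        rwa [inv_mul_cancel_left] at this
      have h3 : γ (nn hp K i) = nn hp K (π i) := by
        show γ (nG hp.inList (D.simple i) 1) = nG hp.inList (D.simple (π i)) 1
        rw [gam_n hp E (NPerm.simple_lt hp.inList (lt_rank hp i)), rho_simple hp E]
      have h2 := (rp_simple cs (rgd_GL (K := K) hp cs 2).nsys (π i)).mul (ih _ h1)
      rw [map_mul, map_inv, h3, mul_inv_cancel_left] at h2
      rwa [map_mul, hat_simple]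

/-! ### the form -/

theorem form_pm [Fintype W] (x y : Fin l → ℤ) :
    form cs hp.isCartan (pm π x) (pm π y) = form cs hp.isCartan x y := by
  have h2 : ∀ x : Fin l → ℤ, x ∘ π.symm = pm π x := by
    intro x
    funext i
    show x (π.symm i) = x (π i)
    congr 1
    rw [Equiv.symm_apply_eq, E.inv2]
  have hrep : ∀ (w : W) (x : Fin l → ℤ),
      rep cs hp.isCartan w (pm π x) = pm π (rep cs hp.isCartan (hat cs π E.mat w) x) := by
    intro w x
    have h1 := rep_hat (cs := cs) (h := hp.isCartan) E.mat E.car w (pm π x)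
    rw [h2, h2, pm_pm E.inv2] at h1
    rw [h1, pm_pm E.inv2]
  have hinv : ∀ w : W, hat cs π E.mat (hat cs π E.mat w) = w := by
    have : (hat cs π E.mat).comp (hat cs π E.mat) = MonoidHom.id W := by
      apply cs.ext_simple
      intro i
      rw [MonoidHom.comp_apply, hat_simple, hat_simple, E.inv2]
      rfl
    exact fun w => DFunLike.congr_fun this w
  unfold form
  refine Fintype.sum_equiv (Equiv.mk (hat cs π E.mat) (hat cs π E.mat) hinv hinv) _ _ fun w => ?_
  show ∑ b, (rep cs hp.isCartan w (pm π x)) b * (rep cs hp.isCartan w (pm π y)) b =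
    ∑ b, (rep cs hp.isCartan (hat cs π E.mat w) x) b * (rep cs hp.isCartan (hat cs π E.mat w) y) b
  rw [hrep, hrep]
  exact Fintype.sum_equiv π _ _ fun b => rfl

omit E in
theorem orth_of_form [Fintype W] : ∀ r < D.nroots, ∀ s < D.nroots,
    form cs hp.isCartan (vec D l r) (vec D l s) = 0 → Orth D r s := by
  have hD := hp.inList
  have G := RootComb.good_of_mem hD
  refine RootWord.root_induction G (P := fun r => ∀ s < D.nroots,
    form cs hp.isCartan (vec D l r) (vec D l s) = 0 → Orth D r s) ?_ ?_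
  · intro i hi s hs hf
    have hil : i < l := by rw [← hp.rank_eq]; exact hi
    have h1 := two_form cs hp.isCartan (⟨i, hil⟩ : Fin l) (vec D l s)
    rw [← vec_simple hp, form_comm, hf, mul_zero, vec_simple hp, pairing_vec hp _ hs] at h1
    rcases mul_eq_zero.1 h1.symm with h4 | h4
    · show car D (D.simple i) s = 0
      rw [RootWord.car_simple G hi]
      exact h4
    · exact absurd h4 (form_pos cs hp.isCartan (sr_ne_zero _)).ne'
  · intro i hi r hr ih s hs hf
    have hil : i < l := by rw [← hp.rank_eq]; exact hi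
    have h1 : vec D l (D.reflectRoot i r) = rep cs hp.isCartan (cs.simple (⟨i, hil⟩ : Fin l)) (vec D l r) :=
      (rep_vec hp cs (⟨i, hil⟩ : Fin l) hr).symm
    have h2 : rep cs hp.isCartan (cs.simple (⟨i, hil⟩ : Fin l)) (vec D l (D.reflectRoot i s)) = vec D l s := by
      rw [rep_vec hp cs _ (G.reflect_lt hi hs), G.reflect_reflect hi hs]
    rw [h1, ← h2, form_rep] at hf
    have h3 := ih _ (G.reflect_lt hi hs) hf
    have h4 := (orth_reflect hD hi hr (G.reflect_lt hi hs)).2 h3
    rwa [G.reflect_reflect hi hs] at h4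

end

/-! ### lifts of elements of `W` -/

/-- `y` acts on the root elements as `v` does on the roots -/
def Act (hp : IsType D l M) (cs : CoxeterSystem M W) (K : Type u) [Field K] (v : W) (y : GL D.Idx K) : Prop :=
  y ∈ D.group K ∧ Rp cs (nsys (K := K) hp) v y ∧ ∀ r < D.nroots, ∀ r' < D.nroots,
    vec D l r' = rep cs hp.isCartan v (vec D l r) → ∀ t : K, y * xG hp.inList r t * y⁻¹ = xG hp.inList r' t

theorem Act.one : Act hp cs K (1 : W) 1 := by
  refine ⟨one_mem _, rp_one, fun r hr r' hr' h t => ?_⟩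
  rw [map_one] at h
  rw [vec_inj hp hr' hr h]
  group

theorem Act.cons [CharP K 2] {v : W} {y : GL D.Idx K} (h : Act hp cs K v y) (i : Fin l) :
    Act hp cs K (cs.simple i * v) (nn hp K i * y) := by
  have G := RootComb.good_of_mem hp.inList
  refine ⟨mul_mem (nn_mem_group hp i) h.1, (rp_simple cs _ i).mul h.2.1, fun r hr r' hr' e t => ?_⟩
  obtain ⟨r₁, hr₁, e₁⟩ := (isRoot_iff hp cs _).1 ((isRoot_vec hp cs hr).act v)
  have h1 := h.2.2 r hr r₁ hr₁ e₁ t
  rw [rep_mul_apply, ← e₁, rep_vec hp cs i hr₁] at e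
  have h2 := vec_inj hp hr' (G.reflect_lt (lt_rank hp i) hr₁) e
  have h3 := n_conj hp.inList (lt_rank hp i) hr₁ t
  rw [h2, ← h3, ← h1]
  show nn hp K i * y * xG hp.inList r t * (nn hp K i * y)⁻¹ = nn hp K i * (y * xG hp.inList r t * y⁻¹) * (nn hp K i)⁻¹
  group

theorem Act.n [CharP K 2] {v : W} {y : GL D.Idx K} (h : Act hp cs K v y) {r r' : ℕ} (hr : r < D.nroots)
    (hr' : r' < D.nroots) (e : vec D l r' = rep cs hp.isCartan v (vec D l r)) :
    y * nG hp.inList r 1 * y⁻¹ = nG hp.inList r' 1 := by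
  have h1 := h.2.2 r hr r' hr' e 1
  have h2 := h.2.2 (D.neg r) (NPerm.neg_lt hp.inList hr) (D.neg r') (NPerm.neg_lt hp.inList hr')
    (by rw [vec_neg hp hr, vec_neg hp hr', e, map_neg]) 1
  rw [nG_eq, nG_eq, ← h1, ← h2]
  group

section

variable {γ : GL D.Idx K →* GL D.Idx K} {ρ : ℕ → ℕ} {π : Equiv.Perm (Fin l)} (E : GS hp K γ ρ π)

include E

omit E in
/-- `s_j` fixes the vectors orthogonal to `α_j` -/
theorem rep_simple_orth [Fintype W] {j : Fin l} {y : Fin l → ℤ} (hy : form cs hp.isCartan y (sr j) = 0) :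
    rep cs hp.isCartan (cs.simple j) y = y := by
  have h1 := two_form cs hp.isCartan j y
  rw [hy, mul_zero] at h1
  rcases mul_eq_zero.1 h1.symm with h4 | h4
  · rw [rep_simple_eq, h4, zero_smul, sub_zero]
  · exact absurd h4 (form_pos cs hp.isCartan (sr_ne_zero j)).ne'

variable (K) in
theorem exists_listT [Fintype W] [CharP K 2] : ∀ (k : ℕ) (w : W), cs.length w ≤ k → w * hat cs π E.mat w = 1 →
    ∃ (v wL : W) (y : GL D.Idx K) (L : List ℕ), Act hp cs K v y ∧ OL D L ∧ (∀ r ∈ L, ρ r = r) ∧
      (∀ r ∈ L, rep cs hp.isCartan wL (vec D l r) = - vec D l r) ∧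
      (∀ x : Fin l → ℤ, (∀ r ∈ L, form cs hp.isCartan x (vec D l r) = 0) →
        rep cs hp.isCartan wL x = x) ∧
      Rp cs (nsys (K := K) hp) wL (PN hp.inList K L) ∧ w = v * wL * (hat cs π E.mat v)⁻¹ := by
  have hD := hp.inList
  have G := RootComb.good_of_mem hD
  obtain ⟨ht, hht⟩ : ∃ ht : W →* W, ht = hat cs π E.mat := ⟨_, rfl⟩
  rw [← hht]
  have hs : ∀ i, ht (cs.simple i) = cs.simple (π i) := by rw [hht]; exact hat_simple π E.mat
  have hrep : ∀ (w : W) (x : Fin l → ℤ), rep cs hp.isCartan (ht w) (pm π x) = pm π (rep cs hp.isCartan w x) := by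
    intro w x
    have h1 := rep_hat (cs := cs) (h := hp.isCartan) E.mat E.car w x
    have h2 : ∀ x : Fin l → ℤ, x ∘ π.symm = pm π x := by
      intro x
      funext i
      show x (π.symm i) = x (π i)
      congr 1
      rw [Equiv.symm_apply_eq, E.inv2]
    rw [h2, h2] at h1
    rw [hht]
    exact h1
  have hpf : ∀ x y : Fin l → ℤ, form cs hp.isCartan (pm π x) (pm π y) = form cs hp.isCartan x y :=
    form_pm hp cs E
  intro k
  induction k with
  | zero =>
    intro w hk _
    have hw : w = 1 := cs.length_eq_zero_iff.1 (Nat.le_zero.1 hk)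
    subst hw
    exact ⟨1, 1, 1, [], Act.one hp cs, OL.nil, by simp, by simp, fun x _ => by rw [map_one]; rfl, rp_one, by simp⟩
  | succ k ih =>
    intro w hk hww
    by_cases hw1 : w = 1
    · subst hw1
      exact ⟨1, 1, 1, [], Act.one hp cs, OL.nil, by simp, by simp, fun x _ => by rw [map_one]; rfl, rp_one, by simp⟩
    obtain ⟨i, hi⟩ := cs.exists_rightDescent_of_ne_one hw1
    have hi' : cs.length (w * cs.simple i) < cs.length w := hi
    have hneg : rep cs hp.isCartan w (sr i) ≤ 0 := nonpos_of_lt cs hp.isCartan w i hi'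
    have hwinv : w⁻¹ = ht w := inv_eq_of_mul_eq_one_right hww
    obtain ⟨j, hj⟩ : ∃ j, j = π i := ⟨_, rfl⟩
    have hji : π j = i := by rw [hj, E.inv2]
    by_cases hA : rep cs hp.isCartan w (sr i) = - sr j
    · -- `w π α_j = - α_j`
      have hsw : cs.simple j * w = w * cs.simple i := by
        apply rep_injective cs hp.isCartan
        apply LinearMap.ext
        intro y
        show rep cs hp.isCartan (cs.simple j * w) y = rep cs hp.isCartan (w * cs.simple i) y
        have h1 : pairing (cartanOf D l) j (rep cs hp.isCartan w y) = - pairing (cartanOf D l) i y := by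
          have h2 := two_form cs hp.isCartan j (rep cs hp.isCartan w y)
          have h5 : (sr j : Fin l → ℤ) = - rep cs hp.isCartan w (sr i) := by rw [hA, neg_neg]
          have h3 : form cs hp.isCartan (rep cs hp.isCartan w y) (sr j) = - form cs hp.isCartan y (sr i) := by
            conv_lhs => rw [h5]
            rw [form_neg_right, form_rep]
          have h4 : form cs hp.isCartan (sr j) (sr j) = form cs hp.isCartan (sr i) (sr i) := by
            conv_lhs => rw [h5]
            rw [form_neg_right, form_neg_left, neg_neg, form_rep]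
          rw [h3, mul_neg, two_form cs hp.isCartan i y, ← neg_mul, h4] at h2
          exact (mul_right_cancel₀ (form_pos cs hp.isCartan (sr_ne_zero i)).ne' h2).symm
        rw [rep_mul_apply, rep_mul_apply, rep_simple_eq, rep_simple_eq, map_sub, map_smul, hA, h1, smul_neg, neg_smul]
      have hw2 : cs.simple j * w * ht (cs.simple j * w) = 1 := by
        rw [map_mul, hs, hji, hsw]
        calc w * cs.simple i * (cs.simple i * ht w) = w * (cs.simple i * cs.simple i) * ht w := by group
          _ = 1 := by rw [cs.simple_mul_simple_self, mul_one, hww]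
      obtain ⟨v, wL, y, L, hy, hL, hρ, hLn, hLf, hLp, hw⟩ := ih (cs.simple j * w) (by rw [hsw]; omega) hw2
      -- the root `r = v⁻¹ α_j`
      obtain ⟨r, hr, er⟩ := (isRoot_iff hp cs _).1 ((isRoot_sr cs hp.isCartan j).act v⁻¹)
      have er' : rep cs hp.isCartan v (vec D l r) = sr j := by rw [er, rep_apply_inv]
      have ew : w = cs.simple j * (v * wL * (ht v)⁻¹) := by
        rw [← hw, ← mul_assoc, cs.simple_mul_simple_self, one_mul]
      -- `wL π r = r`
      have hfix : rep cs hp.isCartan wL (pm π (vec D l r)) = vec D l r := by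
        apply rep_injective_apply cs hp.isCartan v
        have h1 : rep cs hp.isCartan (cs.simple j * w) (pm π (sr j)) = sr j := by
          rw [pm_sr E.inv2, hji, rep_mul_apply, hA, map_neg, rep_simple_sr, neg_neg]
        rw [← rep_mul_apply, er']
        rw [hw] at h1
        rw [← er', ← hrep, ← rep_mul_apply, inv_mul_cancel_right, er'] at h1
        exact h1
      have hperp : ∀ s ∈ L, form cs hp.isCartan (vec D l r) (vec D l s) = 0 := by
        intro s hs'
        have h1 : pm π (vec D l s) = vec D l s := by rw [← E.vec s (hL.lt s hs'), hρ s hs']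
        have h2 : form cs hp.isCartan (vec D l r) (vec D l s) = - form cs hp.isCartan (vec D l r) (vec D l s) := by
          conv_lhs => rw [← hpf, ← form_rep cs hp.isCartan wL, hfix, h1, hLn s hs', form_neg_right]
        linarith
      have hrfix : pm π (vec D l r) = vec D l r := by
        have h1 := hLf (pm π (vec D l r)) (fun s hs' => by
          have h1 : pm π (vec D l s) = vec D l s := by rw [← E.vec s (hL.lt s hs'), hρ s hs']
          conv_lhs => rw [← h1]
          exact (hpf _ _).trans (hperp s hs'))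
        rw [← h1, hfix]
      have hρr : ρ r = r := by
        apply vec_inj hp (E.lt r hr) hr
        rw [E.vec r hr, hrfix]
      have hOL : OL D (r :: L) := hL.cons hr fun s hs' => orth_of_form hp cs r hr s (hL.lt s hs') (hperp s hs')
      -- the reflection `v⁻¹ s_j v`
      have hsr : ∀ x, form cs hp.isCartan x (vec D l r) = 0 →
          rep cs hp.isCartan (v⁻¹ * cs.simple j * v) x = x := by
        intro x hx
        have h1 : form cs hp.isCartan (rep cs hp.isCartan v x) (sr j) = 0 := by
          rw [← er', form_rep]; exact hx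
        rw [rep_mul_apply, rep_mul_apply, rep_simple_orth hp cs h1, rep_inv_apply]
      have hsr' : rep cs hp.isCartan (v⁻¹ * cs.simple j * v) (vec D l r) = - vec D l r := by
        rw [rep_mul_apply, rep_mul_apply, er', rep_simple_sr, map_neg, ← er]
      have hny : y * nG hD r 1 * y⁻¹ = nn hp K j := by
        have h1 := hy.n hp cs hr (NPerm.simple_lt hD (lt_rank hp j)) (by rw [vec_simple hp, er'])
        exact h1
      have hRr : Rp cs (nsys (K := K) hp) (v⁻¹ * cs.simple j * v) (nG hD r 1) := by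
        have h1 := (hy.2.1.inv.mul (rp_simple cs (nsys (K := K) hp) j)).mul hy.2.1
        rw [← hny] at h1
        have e1 : y⁻¹ * (y * nG hD r 1 * y⁻¹) * y = nG hD r 1 := by group
        rwa [e1] at h1
      refine ⟨v, v⁻¹ * cs.simple j * v * wL, y, r :: L, hy, hOL, ?_, ?_, ?_, ?_, ?_⟩
      · intro s hs'
        rcases List.mem_cons.1 hs' with rfl | hs'
        · exact hρr
        · exact hρ s hs'
      · intro s hs'
        rcases List.mem_cons.1 hs' with rfl | hs'
        · rw [rep_mul_apply, hLf _ hperp, hsr']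
        · rw [rep_mul_apply, hLn s hs', map_neg, hsr _ (by rw [form_comm]; exact hperp s hs')]
      · intro x hx
        rw [rep_mul_apply, hLf x fun s hs' => hx s (by simp [hs']), hsr x (hx r (by simp))]
      · rw [PN_cons]
        exact hRr.mul hLp
      · rw [ew]; group
    · -- conjugate
      have hroot := ((isRoot_sr cs hp.isCartan i).act w).neg
      have h1 : rep cs hp.isCartan (cs.simple j * w) (sr i) ≤ 0 := by
        have h2 := hroot.simple_nonneg (neg_nonneg.2 hneg) j (fun h => hA (neg_eq_iff_eq_neg.1 h))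
        rw [map_neg, neg_nonneg] at h2
        rw [rep_mul_apply]
        exact h2
      have h2 : cs.length (cs.simple j * w * cs.simple i) < cs.length (cs.simple j * w) := by
        rw [lt_iff cs hp.isCartan]; exact h1
      have h3 : cs.length (cs.simple j * w) < cs.length w := by
        have h5 : rep cs hp.isCartan w⁻¹ (sr j) ≤ 0 := by
          rw [hwinv, hj, ← pm_sr E.inv2, hrep]
          exact pm_nonpos hneg
        have h6 := (lt_iff cs hp.isCartan w⁻¹ j).2 h5
        have h7 : (cs.simple j * w)⁻¹ = w⁻¹ * cs.simple j := by rw [mul_inv_rev, cs.inv_simple]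
        rwa [← h7, cs.length_inv, cs.length_inv] at h6
      obtain ⟨v, wL, y, L, hy, hL, hρ, hLn, hLf, hLp, hw⟩ := ih (cs.simple j * w * cs.simple i) (by omega) (by
        rw [map_mul, map_mul, hs, hs, hji, ← hj]
        calc cs.simple j * w * cs.simple i * (cs.simple i * ht w * cs.simple j)
            = cs.simple j * w * (cs.simple i * cs.simple i) * ht w * cs.simple j := by group
          _ = cs.simple j * (w * ht w) * cs.simple j := by rw [cs.simple_mul_simple_self]; group
          _ = 1 := by rw [hww, mul_one, cs.simple_mul_simple_self])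
      refine ⟨cs.simple j * v, wL, nn hp K j * y, L, hy.cons hp cs j, hL, hρ, hLn, hLf, hLp, ?_⟩
      have h4 : w = cs.simple j * (cs.simple j * w * cs.simple i) * cs.simple i := by
        calc w = (cs.simple j * cs.simple j) * w * (cs.simple i * cs.simple i) := by
              rw [cs.simple_mul_simple_self, cs.simple_mul_simple_self]; group
          _ = _ := by group
      rw [h4, hw, map_mul, hs, hji, mul_inv_rev, cs.inv_simple]
      group

/-- **Twisted involutions of a Chevalley group in characteristic 2** are twisted conjugate to products of root elements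
`x_r(1)` over pairwise orthogonal roots `r` with `ρ r = r`. -/
theorem exists_orthT [Finite K] [CharP K 2] {g : GL D.Idx K} (hg : g ∈ D.group K) (h2 : g * γ g = 1) :
    ∃ z ∈ D.group K, ∃ L, OL D L ∧ (∀ r ∈ L, ρ r = r) ∧ z * g * (γ z)⁻¹ = PX hp.inList K L := by
  have hD := hp.inList
  let cs : CoxeterSystem M M.Group := M.toCoxeterSystem
  have hW : Finite M.Group := finite_W hp cs
  let _ : Fintype M.Group := Fintype.ofFinite _
  have hpr : Fact (Nat.Prime 2) := ⟨Nat.prime_two⟩
  have T := toTw hp cs E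
  have hGG := GG_eq hp cs (K := K)
  obtain ⟨y₀, hy₀, w, -, hww, hw⟩ := TwDisp.exists_conj_rp T (t := g) (by rw [hGG]; exact hg) h2
  obtain ⟨v, wL, y, L, hy, hL, hρ, -, -, hLp, hwe⟩ := exists_listT hp cs K E (cs.length w) w le_rfl hww
  have hLr : ∀ r ∈ L, r < D.nroots ∧ ρ r = r := fun r hr => ⟨hL.lt r hr, hρ r hr⟩
  rw [hGG] at hy₀
  have h3 : (y₀ * g * (γ y₀)⁻¹) * γ (y₀ * g * (γ y₀)⁻¹) = 1 := by
    apply TwDisp.inv_conj T h2
    rw [hGG]; exact hy₀
  have h4 : Rp cs (nsys (K := K) hp) w (y * PN hD K L * (γ y)⁻¹) := by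
    rw [hwe]
    exact (hy.2.1.mul hLp).mul (T.rp _ _ hy.2.1).inv
  have h5 : (y * PN hD K L * (γ y)⁻¹) * γ (y * PN hD K L * (γ y)⁻¹) = 1 := by
    apply TwDisp.inv_conj T
    · rw [gam_PN hp E hLr, PN_sq hL]
    · rw [hGG]; exact hy.1
  obtain ⟨s, hs, hs'⟩ := TwDisp.conj_of_rp (γ := γ) (tcop hp 2) hw h4 h3 h5
  have hsG := diagonal_le_group hD K hs
  refine ⟨PX hD K L * y⁻¹ * s * y₀, ?_, L.map D.neg, hL.map_neg hD, ?_, ?_⟩
  · exact mul_mem (mul_mem (mul_mem (PX_mem hD K L) (inv_mem hy.1)) hsG) hy₀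
  · intro r hr
    obtain ⟨s, hs, rfl⟩ := List.mem_map.1 hr
    rw [rho_neg hp E (hL.lt s hs), hρ s hs]
  · rw [← conj_PN hL]
    have h6 : PN hD K L = y⁻¹ * (s * (y₀ * g * (γ y₀)⁻¹) * (γ s)⁻¹) * γ y := by rw [hs']; group
    rw [h6, map_mul, map_mul, map_mul, map_inv, gam_PX hp E hLr]
    group

end

end Cfsg.Agent.H78.GrInv
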