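import Mathlib
import Cfsg.Agent.H78.GrInv
import Cfsg.Agent.H78.E6Tab
import Cfsg.Agent.H91.E6Fix
import Cfsg.Agent.Nodes.KindE

/-!
Involutions in the coset of the graph automorphism of `E₆(K)`, `K` finite of characteristic 2 (helper78).

* `gam K` : the graph automorphism on `GL chevE6.Idx K` (`= sg (RingHom.id K)`), `gs` : it is a `GrInv.GS`;
* `exists_one` : `g * γ g = 1` implies `z * g * (γ z)⁻¹ = 1` or `= x_71(1)` (71 the highest root) for some `z ∈ E₆(K)`.
-/

set_option autoImplicit false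
set_option linter.unusedSectionVars false

namespace Cfsg.Agent.H78.E6Gr

open Cfsg.Agent.ChevalleyStructure.CoxeterGeom
open Cfsg.Agent.Nodes.Reps Cfsg.Agent.Nodes.BNOf Cfsg.Agent.Nodes.RGDChev Cfsg.Agent.Nodes.Bruhat
open Cfsg.Lie Cfsg.Agent.ChevalleyStructure.Elts Cfsg.Agent.ChevalleyStructure.RootCombGood
open Cfsg.Agent.ChevalleyStructure Cfsg.Agent.H83.ChevInv
open Cfsg.Agent.H78.TwDisp Cfsg.Agent.H78.GrInv
open Cfsg.Agent.ChevalleyStructure.TwistedE6U (X)
open Cfsg.Agent.H91.E6Fix (rho rho_lt)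

universe u

abbrev isType6 : IsType chevE6 6 CoxeterMatrix.E₆ := Cfsg.Agent.Nodes.KindE.isType6

/-- the graph automorphism -/
noncomputable abbrev gam (K : Type u) [Field K] : GL chevE6.Idx K →* GL chevE6.Idx K := TwE6Basic.sg (RingHom.id K)

section

variable {K : Type u} [Field K]

theorem gam_x [CharP K 2] {r : ℕ} (hr : r < 72) (t : K) : gam K (X r t) = X (rho r) t := by
  have h1 := H91.E6Fix.sg_xG (RingHom.id K) hr t
  have h2 : ((TwE6Basic.epsE ⟨r, hr⟩ : ℤ) : K) = 1 := by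
    rcases eps_pm ⟨r, hr⟩ with h | h
    · rw [h, Int.cast_one]
    · rw [h, Int.cast_neg, Int.cast_one, CharTwo.neg_eq]
  rw [h2, one_mul] at h1
  exact h1

variable (K) in
theorem gs [CharP K 2] : GS isType6 K (gam K) rho p6 where
  inv2 := by decide
  mat := by
    intro i j
    fin_cases i <;> fin_cases j <;> rfl
  car := by decide +kernel
  lt := rho_lt
  vec r hr := by
    funext i
    exact vec_rho r hr i
  x r hr t := gam_x hr t
  tor g hg := H91.E6Fix.sg_diag (RingHom.id K) hg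

/-! ### commutator relations -/

theorem comm_of_noSum {r s : ℕ} (hr : r < 72) (hs : s < 72) (h : noSum r s = true) (t u : K) :
    X r t * X s u = X s u * X r t := by
  unfold noSum at h
  simp only [Bool.and_eq_true, decide_eq_true_eq] at h
  exact TwistedE6U.commute_of_nil hr hs h.1.1 h.1.2 h.2 t u

variable [CharP K 2]

theorem X_sq (r : ℕ) (t : K) : X r t * X r t = 1 := xG_sq TwistedE6U.hE6 r t

theorem X_inv (r : ℕ) (t : K) : (X r t)⁻¹ = X r t := xG_inv' TwistedE6U.hE6 r t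

theorem conj_of_sumIs {r s c : ℕ} (hr : r < 72) (hs : s < 72) (h : sumIs r s c = true) :
    X r (1 : K) * X s 1 * X r 1 = X s 1 * X c 1 := by
  unfold sumIs at h
  simp only [Bool.and_eq_true, Bool.or_eq_true, decide_eq_true_eq] at h
  have h1 := TwistedE6U.comm_formula (K := K) hr hs h.1.1 h.1.2 1 1
  have h2 : Elts.wordG TwistedE6U.hE6 (chevE6.commWord K r s 1 1) = X c (1 : K) := by
    unfold ChevalleyDatum.commWord
    rcases h.2 with h3 | h3
    · rw [h3]
      simp [Elts.wordG, CharTwo.neg_eq]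
    · rw [h3]
      simp [Elts.wordG, CharTwo.neg_eq]
  rw [h2] at h1
  calc X r (1 : K) * X s 1 * X r 1 = X r 1 * (X s 1 * X r 1) := by group
    _ = (X r 1 * X r 1) * X s 1 * X c 1 := by rw [h1]; group
    _ = _ := by rw [X_sq, one_mul]

/-! ### the reduction of two orthogonal roots -/

omit [CharP K 2] in
/-- The reduction, in an abstract group. -/
theorem red_abs {G : Type*} [Group G] {xa xa' xb xb' xr xs P : G} (qa : xa * xa = 1) (qa' : xa' * xa' = 1)
    (qb : xb * xb = 1) (qb' : xb' * xb' = 1) (qr : xr * xr = 1) (c1 : xa * xa' = xa' * xa)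
    (h1 : xa' * xs * xa' = xs * xb') (h2 : xa * xs * xa = xs * xb) (h3 : xa * xb' * xa = xb' * xr)
    (c3 : xa * xr = xr * xa) (c4 : xa' * xr = xr * xa') (c5 : xb * xs = xs * xb) (c6 : xr * xb = xb * xr)
    (c7 : xr * xb' = xb' * xr) (c9 : xr * xs = xs * xr) (p1 : xa * P = P * xa) (p2 : xa' * P = P * xa')
    (p4 : xb' * P = P * xb') :
    (xb * (xa * xa')) * (xr * (xs * P)) * (xb' * (xa' * xa))⁻¹ = xs * P := by
  have i1 : xa⁻¹ = xa := inv_eq_of_mul_eq_one_left qa
  have i2 : xa'⁻¹ = xa' := inv_eq_of_mul_eq_one_left qa'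
  have i3 : xb'⁻¹ = xb' := inv_eq_of_mul_eq_one_left qb'
  rw [mul_inv_rev, mul_inv_rev, i1, i2, i3]
  have e1 : xa * xa' * xr = xr * (xa * xa') := by rw [mul_assoc, c4, ← mul_assoc, c3, mul_assoc]
  have e2 : P * (xa * xa') = xa' * xa * P := by rw [← mul_assoc, ← p1, mul_assoc, ← p2, ← mul_assoc, c1]
  have e3 : xa * xa' * xs * (xa' * xa) = xs * xb * xb' * xr := by
    calc xa * xa' * xs * (xa' * xa) = xa * (xa' * xs * xa') * xa := by group
      _ = xa * (xs * xb') * xa := by rw [h1]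
      _ = xa * xs * (xa * xa) * xb' * xa := by rw [qa]; group
      _ = (xa * xs * xa) * (xa * xb' * xa) := by group
      _ = _ := by rw [h2, h3]; group
  calc xb * (xa * xa') * (xr * (xs * P)) * (xa * xa' * xb')
      = xb * (xa * xa' * xr) * xs * (P * (xa * xa')) * xb' := by group
    _ = xb * xr * (xa * xa' * xs * (xa' * xa)) * P * xb' := by rw [e1, e2]; group
    _ = (xb * xr) * xs * xb * xb' * xr * P * xb' := by rw [e3]; group
    _ = xr * (xb * xs) * xb * xb' * xr * P * xb' := by rw [← c6]; group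
    _ = xr * xs * (xb * xb) * xb' * xr * P * xb' := by rw [c5]; group
    _ = xs * (xr * xb') * xr * P * xb' := by rw [qb, c9]; group
    _ = xs * xb' * (xr * xr) * P * xb' := by rw [c7]; group
    _ = xs * (xb' * P) * xb' := by rw [qr]; group
    _ = xs * P * (xb' * xb') := by rw [p4]; group
    _ = xs * P := by rw [qb', mul_one]

theorem red {r s : ℕ} {L : List ℕ} (hL : OL chevE6 (r :: s :: L)) (hρ : ∀ t ∈ (r :: s :: L), rho t = t) :
    ∃ z ∈ chevE6.group K, z * PX TwistedE6U.hE6 K (r :: s :: L) * (gam K z)⁻¹ = PX TwistedE6U.hE6 K (s :: L) := by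
  have hr : r < 72 := hL.lt r (by simp)
  have hs : s < 72 := hL.lt s (by simp)
  have hrs : Orth chevE6 r s := hL.head.2 s (by simp)
  have h1 := mem_tab r hr (hρ r (by simp)) s hs (hρ s (by simp)) hrs
  rw [List.any_eq_true] at h1
  obtain ⟨⟨r', s', a, b⟩, he, h2⟩ := h1
  simp only [Bool.and_eq_true, beq_iff_eq] at h2
  obtain ⟨rfl, rfl⟩ := h2
  have h3 := List.all_eq_true.1 chk_tab _ he
  unfold chk at h3
  simp only [Bool.and_eq_true, decide_eq_true_eq] at h3
  obtain ⟨⟨⟨⟨⟨⟨⟨⟨⟨⟨⟨⟨⟨⟨-, -⟩, ha⟩, hb⟩, k1⟩, k2⟩, k3⟩, k4⟩, k5⟩, k6⟩, k7⟩, k8⟩, k9⟩, k10⟩, k11⟩ := h3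
  have ha' := rho_lt a ha
  have hb' := rho_lt b hb
  have hP : ∀ x < 72, (∀ t ∈ L, Orth chevE6 x t) →
      X x (1 : K) * PX TwistedE6U.hE6 K L = PX TwistedE6U.hE6 K L * X x 1 := by
    intro x hx h
    refine comm_PX fun t ht => ?_
    exact comm_orth TwistedE6U.hE6 hx (hL.lt t (by simp [ht])) (h t ht) 1 1
  have hO : ∀ t ∈ L, Orth chevE6 a t ∧ Orth chevE6 (rho a) t ∧ Orth chevE6 b t ∧ Orth chevE6 (rho b) t := fun t ht =>
    orth_tab _ he t (hL.lt t (by simp [ht])) (hρ t (by simp [ht])) (hL.head.2 t (by simp [ht]))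
      (hL.tail.head.2 t ht)
  refine ⟨X b 1 * (X a 1 * X (rho a) 1), ?_, ?_⟩
  · exact mul_mem (xG_mem_group _ _ _) (mul_mem (xG_mem_group _ _ _) (xG_mem_group _ _ _))
  rw [map_mul, map_mul, gam_x ha, gam_x hb, gam_x ha', H91.E6Fix.rho_rho a ha, PX_cons, PX_cons]
  exact red_abs (X_sq _ _) (X_sq _ _) (X_sq _ _) (X_sq _ _) (X_sq _ _) (comm_of_noSum ha ha' k1 1 1)
    (conj_of_sumIs ha' hs k3) (conj_of_sumIs ha hs k4) (conj_of_sumIs ha hb' k5) (comm_of_noSum ha hr k6 1 1)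
    (comm_of_noSum ha' hr k7 1 1) (comm_of_noSum hb hs k8 1 1) (comm_of_noSum hr hb k9 1 1)
    (comm_of_noSum hr hb' k10 1 1) (comm_orth TwistedE6U.hE6 hr hs hrs 1 1) (hP a ha fun t ht => (hO t ht).1)
    (hP _ ha' fun t ht => (hO t ht).2.1) (hP _ hb' fun t ht => (hO t ht).2.2.2)

/-! ### to the highest root -/

theorem exists_nJ (k : ℕ) : ∃ z ∈ chevE6.group K, gam K z = z ∧ ∀ r < 72, actJ k r < 72 ∧
    ∀ t : K, z * X r t * z⁻¹ = X (actJ k r) t := by
  have hn : ∀ i < 6, ∀ j, rho (chevE6.simple i) = chevE6.simple j →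
      gam K (nG TwistedE6U.hE6 (chevE6.simple i) 1) = nG TwistedE6U.hE6 (chevE6.simple j) 1 := by
    intro i hi j h
    have h1 := gam_n isType6 (gs K) (r := chevE6.simple i) (NPerm.simple_lt TwistedE6U.hE6 hi)
    rw [h] at h1
    exact h1
  have hr1 : rho (chevE6.simple 1) = chevE6.simple 1 ∧ rho (chevE6.simple 3) = chevE6.simple 3 ∧
    rho (chevE6.simple 2) = chevE6.simple 4 ∧ rho (chevE6.simple 4) = chevE6.simple 2 ∧
    rho (chevE6.simple 0) = chevE6.simple 5 ∧ rho (chevE6.simple 5) = chevE6.simple 0 := by decide +kernel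
  have ho : Orth chevE6 (chevE6.simple 2) (chevE6.simple 4) ∧ Orth chevE6 (chevE6.simple 0) (chevE6.simple 5) := by
    decide +kernel
  have hlt : ∀ i < 6, chevE6.simple i < 72 := by decide +kernel
  have G := RootComb.good_of_mem TwistedE6U.hE6
  have hrl : ∀ i < 6, ∀ r < 72, chevE6.reflectRoot i r < 72 := fun i hi r hr => G.reflect_lt hi hr
  unfold actJ
  by_cases h0 : k = 0
  · simp only [if_pos h0]
    refine ⟨nG TwistedE6U.hE6 (chevE6.simple 1) 1, nG_mem_group _ _ _, hn 1 (by decide) 1 hr1.1, fun r hr =>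
      ⟨hrl 1 (by decide) r hr, fun t => n_conj TwistedE6U.hE6 (by decide) hr t⟩⟩
  · simp only [if_neg h0]
    by_cases h1 : k = 1
    · simp only [if_pos h1]
      refine ⟨nG TwistedE6U.hE6 (chevE6.simple 3) 1, nG_mem_group _ _ _, hn 3 (by decide) 3 hr1.2.1, fun r hr =>
        ⟨hrl 3 (by decide) r hr, fun t => n_conj TwistedE6U.hE6 (by decide) hr t⟩⟩
    · simp only [if_neg h1]
      by_cases h2 : k = 2
      · simp only [if_pos h2]
        refine ⟨nG TwistedE6U.hE6 (chevE6.simple 2) 1 * nG TwistedE6U.hE6 (chevE6.simple 4) 1,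
          mul_mem (nG_mem_group _ _ _) (nG_mem_group _ _ _), ?_, fun r hr =>
          ⟨hrl 2 (by decide) _ (hrl 4 (by decide) r hr), fun t => ?_⟩⟩
        · rw [map_mul, hn 2 (by decide) 4 hr1.2.2.1, hn 4 (by decide) 2 hr1.2.2.2.1]
          exact (comm_n_n TwistedE6U.hE6 (hlt 2 (by decide)) (hlt 4 (by decide)) ho.1).symm
        · have e1 := n_conj (K := K) TwistedE6U.hE6 (i := 2) (by decide) (hrl 4 (by decide) r hr) t
          have e2 := n_conj (K := K) TwistedE6U.hE6 (i := 4) (by decide) hr t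
          rw [← e2] at e1
          refine Eq.trans ?_ e1
          group
      · simp only [if_neg h2]
        refine ⟨nG TwistedE6U.hE6 (chevE6.simple 0) 1 * nG TwistedE6U.hE6 (chevE6.simple 5) 1,
          mul_mem (nG_mem_group _ _ _) (nG_mem_group _ _ _), ?_, fun r hr =>
          ⟨hrl 0 (by decide) _ (hrl 5 (by decide) r hr), fun t => ?_⟩⟩
        · rw [map_mul, hn 0 (by decide) 5 hr1.2.2.2.2.1, hn 5 (by decide) 0 hr1.2.2.2.2.2]
          exact (comm_n_n TwistedE6U.hE6 (hlt 0 (by decide)) (hlt 5 (by decide)) ho.2).symm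
        · have e1 := n_conj (K := K) TwistedE6U.hE6 (i := 0) (by decide) (hrl 5 (by decide) r hr) t
          have e2 := n_conj (K := K) TwistedE6U.hE6 (i := 5) (by decide) hr t
          rw [← e2] at e1
          refine Eq.trans ?_ e1
          group

theorem exists_word' (ω : List ℕ) : ∃ z ∈ chevE6.group K, gam K z = z ∧ ∀ r < 72, ω.foldr actJ r < 72 ∧
    ∀ t : K, z * X r t * z⁻¹ = X (ω.foldr actJ r) t := by
  induction ω with
  | nil => exact ⟨1, one_mem _, map_one _, fun r hr => ⟨hr, fun t => by simp⟩⟩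
  | cons k ω ih =>
    obtain ⟨z, hz, hγ, h⟩ := ih
    obtain ⟨y, hy, hγ', h'⟩ := exists_nJ (K := K) k
    refine ⟨y * z, mul_mem hy hz, by rw [map_mul, hγ, hγ'], fun r hr => ?_⟩
    obtain ⟨h1, h2⟩ := h r hr
    obtain ⟨h3, h4⟩ := h' _ h1
    refine ⟨h3, fun t => ?_⟩
    rw [List.foldr_cons, ← h4, ← h2]
    group

/-- A fixed root is moved to the highest root by an element fixed by `γ`. -/
theorem exists_to_high {r : ℕ} (hr : r < 72) (hρ : rho r = r) :
    ∃ z ∈ chevE6.group K, gam K z = z ∧ ∀ t : K, z * X r t * z⁻¹ = X 71 t := by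
  have h1 := words_ok r hr hρ
  rw [List.any_eq_true] at h1
  obtain ⟨⟨r', ω⟩, -, h2⟩ := h1
  simp only [Bool.and_eq_true, beq_iff_eq] at h2
  obtain ⟨rfl, h3⟩ := h2
  obtain ⟨z, hz, hγ, h⟩ := exists_word' (K := K) ω
  refine ⟨z, hz, hγ, fun t => ?_⟩
  rw [(h r' hr).2 t, h3]

/-- **The involutions in the coset of the graph automorphism.** -/
theorem exists_one [Finite K] {g : GL chevE6.Idx K} (hg : g ∈ chevE6.group K) (h2 : g * gam K g = 1) :
    ∃ z ∈ chevE6.group K, z * g * (gam K z)⁻¹ = 1 ∨ z * g * (gam K z)⁻¹ = X 71 1 := by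
  obtain ⟨z₀, hz₀, L, hL, hρ, e⟩ := exists_orthT isType6 (gs K) hg h2
  have key : ∀ (n : ℕ) (L : List ℕ), L.length = n → OL chevE6 L → (∀ r ∈ L, rho r = r) →
      ∃ z ∈ chevE6.group K, z * PX TwistedE6U.hE6 K L * (gam K z)⁻¹ = 1 ∨
        z * PX TwistedE6U.hE6 K L * (gam K z)⁻¹ = X 71 1 := by
    intro n
    induction n with
    | zero =>
      intro L hn _ _
      rw [List.length_eq_zero_iff] at hn
      subst hn
      exact ⟨1, one_mem _, Or.inl (by rw [PX_nil, map_one]; group)⟩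
    | succ n ih =>
      intro L hn hL hρ
      match L, hn, hL, hρ with
      | [r], _, hL, hρ =>
        obtain ⟨z, hz, hγ, h⟩ := exists_to_high (K := K) (hL.lt r (by simp)) (hρ r (by simp))
        refine ⟨z, hz, Or.inr ?_⟩
        rw [hγ, PX_cons, PX_nil, mul_one]
        exact h 1
      | r :: s :: L, hn, hL, hρ =>
        obtain ⟨z, hz, h⟩ := red (K := K) hL hρ
        obtain ⟨y, hy, h'⟩ := ih (s :: L) (by simpa using hn) hL.tail fun t ht => hρ t (by simp [ht])
        refine ⟨y * z, mul_mem hy hz, ?_⟩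
        have e1 : y * z * PX TwistedE6U.hE6 K (r :: s :: L) * (gam K (y * z))⁻¹ =
            y * PX TwistedE6U.hE6 K (s :: L) * (gam K y)⁻¹ := by
          rw [← h, map_mul]; group
        rw [e1]
        exact h'
  obtain ⟨z, hz, h⟩ := key L.length L rfl hL hρ
  refine ⟨z * z₀, mul_mem hz hz₀, ?_⟩
  have e1 : z * z₀ * g * (gam K (z * z₀))⁻¹ = z * PX TwistedE6U.hE6 K L * (gam K z)⁻¹ := by
    have e2 : PX TwistedE6U.hE6 K L = z₀ * g * (gam K z₀)⁻¹ := e.symm
    rw [e2, map_mul]; group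
  rw [e1]
  exact h

end

end Cfsg.Agent.H78.E6Gr
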