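import Mathlib
import Cfsg.Agent.H78.E6Cent
import Cfsg.Agent.H79.DiagAuts
import Cfsg.Agent.H79.OutChev
import Cfsg.Agent.H296.ESixGF
import Cfsg.Agent.S2211
import Cfsg.Agent.S1054
import Cfsg.Agent.CpAut.TwoAbs
import Cfsg.Agent.KFacts.RgdFiltChev
import Cfsg.Agent.KFacts.RgdLieCharP
import Cfsg.Agent.EvenType.CharTwoCent

/-!
The automorphisms of order two of `E₆(F)`, `F` finite of characteristic 2, of pure graph type (helper78).

* `main` : `x = conj a * φ`, `φ` the graph automorphism, `x * x = 1`: `x` is conjugate to `φ` or `C(x)` is of characteristic 2.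
* `comp` : `x a = y * d (g a) * y⁻¹`, `d` diagonal, `g ≠ 1` graph: every component of `fixedSubgroup x` is `F₄(F)`.
-/

set_option autoImplicit false
set_option linter.unusedSectionVars false

namespace Cfsg.Agent.H78.E6Graph

open Cfsg Cfsg.Lie Subgroup
open Cfsg.Agent.ChevalleyStructure Cfsg.Agent.ChevalleyStructure.Elts
open Cfsg.Agent.ChevalleyStructure.TwistedE6U (X hE6)
open Cfsg.Agent.H78.E6Gr Cfsg.Agent.H78.E6Cent
open Cfsg.Agent.CpAut.TwoAbs

universe u v

variable {F : Type u} [Field F] [Finite F] [CharP F 2]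

theorem nontriv (F : Type u) [Field F] [Finite F] : ∃ a b : ↥(chevE6.group F), a * b ≠ b * a := by
  obtain ⟨-, b⟩ := Cfsg.Agent.S1054.result (F := F) chevE6 (by simp)
  by_contra hcon
  push Not at hcon
  exact b ⟨⟨hcon⟩⟩

theorem center_eq_bot (F : Type u) [Field F] [Finite F] : center ↥(chevE6.group F) = ⊥ := by
  obtain ⟨a, b⟩ := Cfsg.Agent.S1054.result (F := F) chevE6 (by simp)
  exact KFacts.RgdLieCharP.center_eq_bot (nontriv F)

theorem charTwo (F : Type u) [Field F] [Finite F] [CharP F 2] : IsCharacteristicTwoType ↥(chevE6.group F) := by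
  obtain ⟨a, b⟩ := Cfsg.Agent.S1054.result (F := F) chevE6 (by simp)
  exact (KFacts.RgdFiltChev.hasFilt_E6 F 2).charTwo (nontriv F)

theorem eq_one_of_conj {G : Type*} [Group G] (hc : center G = ⊥) {g : G} (h : MulAut.conj g = 1) : g = 1 := by
  have h1 : g ∈ center G := by
    rw [mem_center_iff]
    intro y
    have h2 := DFunLike.congr_fun h y
    rw [MulAut.conj_apply] at h2
    have h3 : g * y * g⁻¹ = y := h2
    exact (mul_inv_eq_iff_eq_mul.1 h3).symm
  rwa [hc, mem_bot] at h1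

theorem mul_conj {G : Type*} [Group G] (φ : MulAut G) (a : G) : φ * MulAut.conj a = MulAut.conj (φ a) * φ := by
  ext y
  simp [MulAut.conj_apply]

variable {φ : MulAut ↥(chevE6.group F)}

omit [CharP F 2] in
theorem coe_phi (hφ : chevE6.IsGraphAut φ) (h1 : φ ≠ 1) (g : ↥(chevE6.group F)) :
    ((φ g : ↥(chevE6.group F)) : GL chevE6.Idx F) = gam F g :=
  Cfsg.Agent.S2211.coe_phi φ hφ h1 g

omit [Finite F] [CharP F 2] in
theorem phi_phi' (hco : ∀ g : ↥(chevE6.group F), ((φ g : ↥(chevE6.group F)) : GL chevE6.Idx F) = gam F g) :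
    φ * φ = 1 := by
  refine MulEquiv.ext fun g => Subtype.ext ?_
  show ((φ (φ g) : ↥(chevE6.group F)) : GL chevE6.Idx F) = _
  rw [hco, hco, H91.E6Fix.sg_sg (φ := RingHom.id F) (fun _ => rfl) g.2]
  rfl

omit [CharP F 2] in
theorem phi_phi (hφ : chevE6.IsGraphAut φ) (h1 : φ ≠ 1) : φ * φ = 1 := phi_phi' (coe_phi hφ h1)

/-- the fixed subgroups of conjugate automorphisms -/
def fixedEquiv {G : Type*} [Group G] {x s ζ : MulAut G} (h : x = ζ * s * ζ⁻¹) :
    ↥(fixedSubgroup s) ≃* ↥(fixedSubgroup x) where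
  toFun a := ⟨ζ a, by
    have ha : s a = a := a.2
    show x (ζ a) = ζ a
    rw [h]
    show ζ (s (ζ⁻¹ (ζ a))) = ζ a
    rw [MulAut.inv_apply_self, ha]⟩
  invFun a := ⟨ζ⁻¹ a, by
    have ha : x a = a := a.2
    show s (ζ⁻¹ a) = ζ⁻¹ a
    have h2 : ζ (s (ζ⁻¹ a)) = a := (DFunLike.congr_fun h (a : G)).symm.trans ha
    apply ζ.injective
    rw [h2, MulAut.apply_inv_self]⟩
  left_inv a := Subtype.ext (MulAut.inv_apply_self _ _ _)
  right_inv a := Subtype.ext (MulAut.apply_inv_self _ _ _)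
  map_mul' a b := Subtype.ext (map_mul ζ _ _)

/-- **Automorphisms of order two in the coset of the graph automorphism.** -/
theorem main0 (hco : ∀ g : ↥(chevE6.group F), ((φ g : ↥(chevE6.group F)) : GL chevE6.Idx F) = gam F g)
    {a : ↥(chevE6.group F)} {x : MulAut ↥(chevE6.group F)}
    (hxa : x = MulAut.conj a * φ) (hx : x * x = 1) :
    (∃ z : ↥(chevE6.group F), x = MulAut.conj z * φ * (MulAut.conj z)⁻¹) ∨
      IsOfCharacteristicTwo ↥(fixedSubgroup x) := by
  have hφφ := phi_phi' hco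
  have haa : a * φ a = 1 := by
    apply eq_one_of_conj (center_eq_bot F)
    rw [hxa] at hx
    have h2 : MulAut.conj a * φ * (MulAut.conj a * φ) = MulAut.conj (a * φ a) * (φ * φ) := by
      rw [map_mul]
      calc MulAut.conj a * φ * (MulAut.conj a * φ) = MulAut.conj a * (φ * MulAut.conj a) * φ := by group
        _ = _ := by rw [mul_conj]; group
    rw [h2, hφφ, mul_one] at hx
    exact hx
  have haa' : (a : GL chevE6.Idx F) * gam F a = 1 := by
    rw [← hco]
    exact congrArg Subtype.val haa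
  have hconj : ∀ z : ↥(chevE6.group F), MulAut.conj z * x * (MulAut.conj z)⁻¹ = MulAut.conj (z * a * (φ z)⁻¹) * φ := by
    intro z
    rw [hxa, ← map_inv]
    calc MulAut.conj z * (MulAut.conj a * φ) * MulAut.conj z⁻¹ =
        MulAut.conj z * MulAut.conj a * (φ * MulAut.conj z⁻¹) := by group
      _ = _ := by rw [mul_conj φ z⁻¹, map_mul, map_mul, map_inv φ]; group
  obtain ⟨z, hz, h2⟩ := exists_one (K := F) a.2 haa'
  obtain ⟨w, hw⟩ : ∃ w : ↥(chevE6.group F), w = ⟨z, hz⟩ := ⟨_, rfl⟩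
  have hwz : (w : GL chevE6.Idx F) = z := by rw [hw]
  rw [← hwz] at h2
  clear hwz hw hz z
  rcases h2 with h2 | h2
  · left
    have h3 : w * a * (φ w)⁻¹ = 1 := by
      apply Subtype.ext
      show (w : GL chevE6.Idx F) * a * ((φ w : ↥(chevE6.group F)) : GL chevE6.Idx F)⁻¹ = 1
      rw [hco]
      exact h2
    refine ⟨w⁻¹, ?_⟩
    have h4 := hconj w
    rw [h3, map_one, one_mul] at h4
    rw [← h4, map_inv]
    group
  · right
    obtain ⟨h, hh⟩ : ∃ h : ↥(chevE6.group F), h = w * a * (φ w)⁻¹ := ⟨_, rfl⟩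
    have hX : (h : GL chevE6.Idx F) = X 71 1 := by
      rw [hh]
      show (w : GL chevE6.Idx F) * a * ((φ w : ↥(chevE6.group F)) : GL chevE6.Idx F)⁻¹ = _
      rw [hco]
      exact h2
    obtain ⟨y, hy⟩ : ∃ y, y = MulAut.conj h * φ := ⟨_, rfl⟩
    have hyx : y = MulAut.conj w * x * (MulAut.conj w)⁻¹ := by rw [hconj w, hy, hh]
    -- facts about `h`
    have hX2 : X 71 (1 : F) * X 71 1 = 1 := X_sq 71 1
    have hinv : (X 71 (1 : F))⁻¹ = X 71 1 := inv_eq_of_mul_eq_one_right hX2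
    have hh2 : h * h = 1 := Subtype.ext (by rw [coe_mul, hX]; exact hX2)
    have hh1 : h ≠ 1 := by
      intro h3
      rw [h3] at hX
      exact one_ne_zero ((TwE6Basic.x_eq_one_iff (by decide) (1 : F)).1 hX.symm)
    have hφh : φ h = h := by
      apply Subtype.ext
      rw [hco, hX, gam_x (by decide), rho_high]
    have ho : orderOf h = 2 := orderOf_eq_prime (by rw [pow_two]; exact hh2) hh1
    have hct := Cfsg.Agent.EvenType.CharTwoCent.char2_centralizer (charTwo F) ho
    have hC : ∀ g ∈ centralizer ({h} : Set ↥(chevE6.group F)), φ g ∈ centralizer ({h} : Set ↥(chevE6.group F)) := by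
      intro g hg
      rw [mem_centralizer_singleton_iff] at hg ⊢
      have h3 := congrArg φ hg
      rwa [map_mul, map_mul, hφh] at h3
    have hct2 := ct_subgroupOf_fix hφφ hC hct
    -- the two subgroups
    have key : ∀ g : ↥(chevE6.group F), g ∈ fixedSubgroup y ↔
        φ g = g ∧ g ∈ centralizer ({h} : Set ↥(chevE6.group F)) := by
      intro g
      rw [mem_centralizer_singleton_iff]
      have h3 : g ∈ fixedSubgroup y ↔ h * φ g * h⁻¹ = g := by
        show y g = g ↔ _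
        rw [hy]
        rfl
      rw [h3]
      have hhi : h⁻¹ = h := inv_eq_of_mul_eq_one_right hh2
      constructor
      · intro h4
        have h5 : X 71 1 * gam F g * X 71 1 = (g : GL chevE6.Idx F) := by
          have h6 := congrArg Subtype.val h4
          rw [coe_mul, coe_mul, coe_inv, hX, hinv, hco] at h6
          exact h6
        have : Fintype F := Fintype.ofFinite F
        have h6 := comm_of_fixed g.2 h5
        have h7 : h * g = g * h := Subtype.ext (by rw [coe_mul, coe_mul, hX]; exact h6)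
        refine ⟨?_, h7.symm⟩
        have h8 : φ g = h⁻¹ * g * h := by
          conv_rhs => rw [← h4]
          group
        rw [h8, mul_assoc, ← h7]
        group
      · rintro ⟨h4, h5⟩
        rw [h4, ← h5]
        group
    have e : ↥((centralizer ({h} : Set ↥(chevE6.group F))).subgroupOf (fixedSubgroup φ)) ≃* ↥(fixedSubgroup y) :=
      { toFun := fun g => ⟨g.1.1, (key _).2 ⟨g.1.2, g.2⟩⟩
        invFun := fun g => ⟨⟨g.1, ((key _).1 g.2).1⟩, ((key _).1 g.2).2⟩
        left_inv := fun g => rfl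
        right_inv := fun g => rfl
        map_mul' := fun a b => rfl }
    exact ct_congr (e.trans (fixedEquiv hyx).symm) hct2

/-- **Automorphisms of order two in the coset of the graph automorphism.** -/
theorem main (hφ : chevE6.IsGraphAut φ) (h1 : φ ≠ 1) {a : ↥(chevE6.group F)} {x : MulAut ↥(chevE6.group F)}
    (hxa : x = MulAut.conj a * φ) (hx : x * x = 1) :
    (∃ z : ↥(chevE6.group F), x = MulAut.conj z * φ * (MulAut.conj z)⁻¹) ∨
      IsOfCharacteristicTwo ↥(fixedSubgroup x) := main0 (coe_phi hφ h1) hxa hx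

/-! ### the diagonal part -/

open Cfsg.Agent.H79.OutChev in
theorem isD_pow {c : Fin chevE6.rank → Fˣ} {α : MulAut ↥(chevE6.group F)} (h : IsD hE6 c α) (k : ℕ) :
    IsD hE6 (c ^ k) (α ^ k) := by
  induction k with
  | zero => rw [pow_zero, pow_zero]; exact IsD.one hE6
  | succ k ih => rw [pow_succ, pow_succ]; exact ih.mul h

open Cfsg.Agent.H79.OutChev in
omit [CharP F 2] in
/-- **Removing the diagonal part.** -/
theorem remove [CharP F 2] (hφ : chevE6.IsGraphAut φ) (h1 : φ ≠ 1) {y : ↥(chevE6.group F)}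
    {d x : MulAut ↥(chevE6.group F)} (hd : chevE6.IsDiagonalAut d) (hxy : x = MulAut.conj y * d * φ) (hx : x * x = 1) :
    ∃ (ζ : MulAut ↥(chevE6.group F)) (a : ↥(chevE6.group F)), ζ * x * ζ⁻¹ = MulAut.conj a * φ := by
  have hφφ := phi_phi hφ h1
  obtain ⟨c, hc⟩ := (Cfsg.Agent.H79.DiagAuts.diagFacts hE6 F).exists_c d hd
  obtain ⟨π, hπs, hπ⟩ := isGraphAut_isGr hE6 hφ
  obtain ⟨c', hc'⟩ := IsD.conj_graph (Cfsg.Agent.H79.DiagAuts.diagFacts hE6 F) hπ hc
  obtain ⟨e, he⟩ : ∃ e, e = φ * d * φ⁻¹ := ⟨_, rfl⟩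
  rw [← he] at hc'
  have hde : d * e = e * d := hc.comm hc'
  -- the order of `d`
  obtain ⟨N, hN⟩ : ∃ N, N = Nat.card F - 1 := ⟨_, rfl⟩
  have hcN : c ^ N = 1 := by
    funext i
    rw [Pi.pow_apply, Pi.one_apply, hN, ← Nat.card_units F]
    exact pow_card_eq_one'
  have hdN : d ^ N = 1 := by
    have h2 := isD_pow hc N
    rw [hcN] at h2
    exact h2.unique (IsD.one hE6)
  have hodd : Odd N := by
    have : Fintype F := Fintype.ofFinite F
    obtain ⟨n, hn, hcard⟩ := FiniteField.card F 2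
    rw [hN, Nat.card_eq_fintype_card, hcard]
    have h3 : 2 ∣ 2 ^ (n : ℕ) := dvd_pow_self 2 n.ne_zero
    have h4 : 0 < 2 ^ (n : ℕ) := by positivity
    rw [Nat.odd_iff]
    omega
  obtain ⟨k, hk⟩ := hodd
  -- `d * e` is inner
  have hcj : ∀ (δ : MulAut ↥(chevE6.group F)) (b : ↥(chevE6.group F)), δ * MulAut.conj b = MulAut.conj (δ b) * δ :=
    fun δ b => mul_conj δ b
  have h2 : d * e = MulAut.conj (y * d (φ y))⁻¹ := by
    rw [hxy] at hx
    have h3 : MulAut.conj y * d * φ * (MulAut.conj y * d * φ) = MulAut.conj (y * d (φ y)) * (d * e) * (φ * φ) := by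
      have h4 : e * φ = φ * d := by rw [he]; group
      calc MulAut.conj y * d * φ * (MulAut.conj y * d * φ) = MulAut.conj y * (d * (φ * MulAut.conj y)) * d * φ := by
            group
        _ = MulAut.conj y * (d * MulAut.conj (φ y)) * (φ * d) * φ := by rw [hcj φ y]; group
        _ = MulAut.conj y * MulAut.conj (d (φ y)) * d * (e * φ) * φ := by rw [hcj d (φ y), h4]; group
        _ = _ := by rw [map_mul]; group
    rw [h3, hφφ, mul_one] at hx
    rw [map_inv]
    exact eq_inv_of_mul_eq_one_right hx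
  obtain ⟨w, hw⟩ : ∃ w, w = (y * d (φ y))⁻¹ := ⟨_, rfl⟩
  rw [← hw] at h2
  have hcomm : Commute d e := hde
  have hdk : d ^ (k + 1) * (e ^ k)⁻¹ = MulAut.conj (w ^ k)⁻¹ := by
    have h3 : d ^ k * e ^ k = MulAut.conj (w ^ k) := by rw [← hcomm.mul_pow, h2, map_pow]
    have h4 : (e ^ k)⁻¹ = (MulAut.conj (w ^ k))⁻¹ * d ^ k := by
      rw [← h3]; group
    have h5 : d ^ (k + 1) * d ^ k = 1 := by
      rw [← pow_add, show k + 1 + k = 2 * k + 1 by ring, ← hk]
      exact hdN
    have h6 : e ^ k = (d ^ k)⁻¹ * MulAut.conj (w ^ k) := by rw [← h3]; group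
    have h7 : e ^ k = MulAut.conj (w ^ k) * (d ^ k)⁻¹ := by
      have h8 : d ^ k * e ^ k = e ^ k * d ^ k := (hcomm.pow_pow k k)
      rw [← h3, h8]; group
    rw [h7, mul_inv_rev, inv_inv, map_inv, ← mul_assoc, h5, one_mul]
  refine ⟨d ^ k, (d ^ k) y * (w ^ k)⁻¹, ?_⟩
  have h4 : ∀ m : ℕ, φ * (d ^ m)⁻¹ = (e ^ m)⁻¹ * φ := by
    intro m
    have h5 : e ^ m = φ * d ^ m * φ⁻¹ := by
      rw [he, ← MulAut.conj_apply φ d, ← map_pow, MulAut.conj_apply]
    rw [h5]; group
  calc d ^ k * x * (d ^ k)⁻¹ = (d ^ k * MulAut.conj y) * d * (φ * (d ^ k)⁻¹) := by rw [hxy]; group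
    _ = MulAut.conj ((d ^ k) y) * (d ^ (k + 1) * (e ^ k)⁻¹) * φ := by rw [hcj, h4, pow_succ]; group
    _ = _ := by rw [hdk, map_mul]

/-- `x ∈ Inn · diag · φ`, `x * x = 1`. -/
theorem main' (hφ : chevE6.IsGraphAut φ) (h1 : φ ≠ 1) {y : ↥(chevE6.group F)}
    {d x : MulAut ↥(chevE6.group F)} (hd : chevE6.IsDiagonalAut d) (hxy : x = MulAut.conj y * d * φ) (hx : x * x = 1) :
    (∃ ζ : MulAut ↥(chevE6.group F), x = ζ * φ * ζ⁻¹) ∨ IsOfCharacteristicTwo ↥(fixedSubgroup x) := by
  obtain ⟨ζ, a, ha⟩ := remove hφ h1 hd hxy hx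
  have h2 : ζ * x * ζ⁻¹ * (ζ * x * ζ⁻¹) = 1 := by
    calc ζ * x * ζ⁻¹ * (ζ * x * ζ⁻¹) = ζ * (x * x) * ζ⁻¹ := by group
      _ = 1 := by rw [hx]; group
  rcases main hφ h1 ha h2 with ⟨z, hz⟩ | h3
  · left
    refine ⟨ζ⁻¹ * MulAut.conj z, ?_⟩
    calc x = ζ⁻¹ * (ζ * x * ζ⁻¹) * ζ := by group
      _ = _ := by rw [hz]; group
  · right
    exact ct_congr (fixedEquiv (x := ζ * x * ζ⁻¹) (s := x) rfl).symm h3

/-- the components of a simple group -/
theorem comp_simple {C : Type*} [Group C] [IsSimpleGroup C] {A : Subgroup C} (hA : IsComponent A) : A = ⊤ := by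
  rcases Subgroup.IsSubnormal.eq_bot_or_top_of_isSimpleGroup inferInstance hA.1 with h | h
  · exfalso
    have h5 := hA.2.2
    have h6 : Nontrivial (↥A ⧸ Subgroup.center ↥A) := h5.toNontrivial
    obtain ⟨a, b, hab⟩ := h6.exists_pair_ne
    apply hab
    have h7 : Subsingleton ↥A := by
      rw [h]
      infer_instance
    have h8 : Subsingleton (↥A ⧸ Subgroup.center ↥A) := Quotient.instSubsingletonQuotient _
    exact Subsingleton.elim a b
  · exact h

/-- **The components of the centralizer.** -/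
theorem comp {F : Type u} [Field F] [Fintype F] [CharP F 2] {x : MulAut ↥(chevE6.group F)} (hx : x * x = 1)
    {y : ↥(chevE6.group F)} {d g : MulAut ↥(chevE6.group F)} (hd : chevE6.IsDiagonalAut d)
    (hg : chevE6.IsGraphAut g) (hg1 : g ≠ 1) (hxy : ∀ a, x a = y * d (g a) * y⁻¹)
    (A : Subgroup ↥(fixedSubgroup x)) (hA : IsComponent A) : Nonempty (↥A ≃* ↥(chevF4.group F)) := by
  have hxy' : x = MulAut.conj y * d * g := by
    refine MulEquiv.ext fun a => ?_
    rw [hxy]
    rfl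
  rcases main' hg hg1 hd hxy' hx with ⟨ζ, h⟩ | h
  · obtain ⟨e⟩ := Cfsg.Agent.S2211.result g hg hg1
    have hs : IsSimpleGroup ↥(chevF4.group F) := (Cfsg.Agent.S1054.result (F := F) chevF4 (by simp)).1
    have f : ↥(fixedSubgroup x) ≃* ↥(chevF4.group F) := (fixedEquiv h).symm.trans e
    have hs' : IsSimpleGroup ↥(fixedSubgroup x) := f.isSimpleGroup
    have h2 := comp_simple hA
    exact ⟨((MulEquiv.subgroupCongr h2).trans Subgroup.topEquiv).trans f⟩
  · exact (no_component_of_ct h A hA).elim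

end Cfsg.Agent.H78.E6Graph
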