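import Mathlib
import Cfsg.Agent.CpAut.RgdTwE6

/-!
The automorphisms of order two of `²E₆(q)`, `q` even: reduction to `conj u * st`, `st` the field involution (helper78).
-/

set_option autoImplicit false
set_option linter.unusedSectionVars false
set_option maxHeartbeats 400000

namespace Cfsg.Agent.H78.TeRed

open CoxeterSystem Cfsg.Agent.ChevalleyStructure.CoxeterGeom Cfsg.Agent.Tits.Roots Cfsg.Agent.Tits.Core
  Cfsg.Agent.Tits.Exchange Cfsg.Agent.Nodes.Reps Cfsg.Agent.Nodes.BNOf Cfsg.Agent.Nodes.StabComb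
  Cfsg.Agent.Nodes.Bruhat Cfsg.Agent.Nodes.OppDec Cfsg.Agent.Nodes.RGDTwGen Cfsg.Agent.Nodes.RGDChev
  Cfsg.Agent.Nodes.RGDFold Cfsg.Agent.Nodes.RGDFoldSL
open Cfsg.Agent.KFacts.RgdOpp Cfsg.Agent.KFacts.RgdAut Cfsg.Agent.KFacts.RgdDiag Cfsg.Agent.KFacts.RgdRigid
  Cfsg.Agent.KFacts.RgdField Cfsg.Agent.KFacts.RgdTau Cfsg.Agent.KFacts.RgdNodes
open Cfsg.Lie Cfsg.Agent.ChevalleyStructure Cfsg.Agent.ChevalleyStructure.Elts Cfsg.Agent.ChevStructure.FieldMap
open Cfsg.Agent.ChevalleyStructure.SL2Hom (up lo)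
open Cfsg.Agent.KFacts.TwESix.NodeCoord Cfsg.Agent.KFacts.TwESix.Out Cfsg.Agent.KFacts.TwESix.OutTwo
open Cfsg.Agent.Nodes.RGDTwE6 Cfsg.Agent.Nodes.RGDTwNode.E6
open Cfsg.Agent.ChevalleyStructure.TwE6Basic (hE6 single_mem pair_mem twisted_le_iff exists_frob)
open Cfsg.Agent.CpAut.RgdFix Cfsg.Agent.CpAut.RgdCoh Cfsg.Agent.CpAut.RgdConj Cfsg.Agent.CpAut.RgdSub
  Cfsg.Agent.CpAut.RgdTwStd Cfsg.Agent.CpAut.RgdTwE6

universe u

/-- the automorphism of order two of a field with `q²` elements -/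
theorem eq_frob {K : Type u} [Field K] [Fintype K] {q : ℕ} (hK : Fintype.card K = q ^ 2) {τ : K ≃+* K}
    (hτ : τ ^ 2 = 1) (hτ1 : τ ≠ 1) {φ : K →+* K} (hφ : ∀ a, φ a = a ^ q) (a : K) : τ a = a ^ q := by
  have hk := card_fixF Nat.prime_two hτ hτ1
  have hq : Nat.card ↥(fixF τ) = q := by
    rw [Nat.card_eq_fintype_card, hK] at hk
    exact (Nat.pow_left_injective (n := 2) two_ne_zero hk).symm
  have h1 : ∀ b : K, b ∈ fixF τ → b ^ q = b := by
    intro b hb
    have := Fintype.ofFinite ↥(fixF τ)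
    have h2 := FiniteField.pow_card (⟨b, hb⟩ : ↥(fixF τ))
    rw [← Nat.card_eq_fintype_card, hq] at h2
    exact congrArg Subtype.val h2
  have hττ : ∀ b, τ (τ b) = b := fun b => DFunLike.congr_fun (pow_two τ ▸ hτ : τ * τ = 1) b
  have hs : a + τ a ∈ fixF τ := by
    show τ (a + τ a) = a + τ a
    rw [map_add, hττ, add_comm]
  have hm : a * τ a ∈ fixF τ := by
    show τ (a * τ a) = a * τ a
    rw [map_mul, hττ, mul_comm]
  have h2 := h1 _ hs
  have h3 := h1 _ hm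
  rw [← hφ, map_add, hφ, hφ] at h2
  rw [mul_pow] at h3
  have h4 : (a ^ q - a) * (a ^ q - τ a) = 0 := by
    have h5 : (τ a) ^ q = a + τ a - a ^ q := by rw [← h2]; ring
    rw [h5] at h3
    linear_combination -h3
  rcases mul_eq_zero.1 h4 with h5 | h5
  · -- `a ^ q = a`
    have h6 : a ^ q = a := sub_eq_zero.1 h5
    -- the elements with `a ^ q = a` are the fixed field
    have h7 : (τ a - a) ^ q = τ a - a := by
      rw [← hφ, map_sub, hφ, hφ, h6]
      have h8 : (τ a) ^ q = τ a := by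
        rw [h6] at h2
        exact add_left_cancel h2
      rw [h8]
    have h8 : (τ a) ^ q = τ a := by
      rw [h6] at h2
      exact add_left_cancel h2
    -- counting the roots of `X ^ q - X`
    classical
    have hq1 : 1 < q := by
      rw [← hq]
      exact Finite.one_lt_card
    have hne : (Polynomial.X ^ q - Polynomial.X : Polynomial K) ≠ 0 := FiniteField.X_pow_card_sub_X_ne_zero K hq1
    have hroots : ((fixF τ : Set K).toFinite.toFinset) = (Polynomial.X ^ q - Polynomial.X : Polynomial K).roots.toFinset := by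
      apply Finset.eq_of_subset_of_card_le
      · intro b hb
        rw [Set.Finite.mem_toFinset] at hb
        rw [Multiset.mem_toFinset, Polynomial.mem_roots hne, Polynomial.IsRoot.def]
        simp [h1 b hb]
      · have h9 : ((fixF τ : Set K).toFinite.toFinset).card = q := by
          rw [← hq, ← Set.ncard_eq_toFinset_card (fixF τ : Set K)]
          rfl
        rw [h9]
        calc ((Polynomial.X ^ q - Polynomial.X : Polynomial K).roots.toFinset).card ≤
            Multiset.card (Polynomial.X ^ q - Polynomial.X : Polynomial K).roots := Multiset.toFinset_card_le _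
          _ ≤ (Polynomial.X ^ q - Polynomial.X : Polynomial K).natDegree := Polynomial.card_roots' _
          _ = q := FiniteField.X_pow_card_sub_X_natDegree_eq K hq1
    have h10 : a ∈ ((fixF τ : Set K).toFinite.toFinset) := by
      rw [hroots, Multiset.mem_toFinset, Polynomial.mem_roots hne, Polynomial.IsRoot.def]
      simp [h6]
    rw [Set.Finite.mem_toFinset] at h10
    have h11 : τ a = a := h10
    rw [h11, h6]
  · exact (sub_eq_zero.1 h5).symm

/-- **Automorphisms of order two of `²E₆(q)`.** -/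
theorem red {K : Type} [Field K] [Fintype K] [CharP K 2] {q : ℕ} (hq : IsPrimePow q)
    (hK : Fintype.card K = q ^ 2) {x : MulAut ↥(twistedE6 K q)} (hx : x ^ 2 = 1) :
    (∃ g, x = MulAut.conj g) ∨ ∃ (τ : K ≃+* K) (E : MulAut ↥(twistedE6 K q)) (u : ↥(twistedE6 K q)),
      (∀ a, τ a = a ^ q) ∧ x = E * (MulAut.conj u * st q τ) * E⁻¹ := by
  have : Fact (Nat.Prime 2) := ⟨Nat.prime_two⟩
  obtain ⟨φ, hφ, hqq⟩ := exists_frob hq hK
  have hW : Finite CoxeterMatrix.F₄.Group :=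
    Nodes.RGDFold.finite_W (hp := Nodes.RGDTwE6.hp) CoxeterMatrix.F₄.toCoxeterSystem Nodes.RGDTwE6.isCartan
      Nodes.RGDTwE6.foldData
  obtain ⟨cs, hcs⟩ : ∃ cs : CoxeterSystem CoxeterMatrix.F₄ CoxeterMatrix.F₄.Group, cs = cs := ⟨CoxeterMatrix.F₄.toCoxeterSystem, rfl⟩
  have R := Cfsg.Agent.Nodes.RGDTwE6.rgd cs hφ hqq 2
  have hG1 := G1_top cs hφ hqq
  have hG := GG_eq_top (T := T K q) hG1
  have hτ : ∀ (β : MulAut ↥(twistedE6 K q)) (τ' : ∀ i, KF φ i ≃+* KF φ i),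
      NTau (T K q) (X φ q) (chE hφ hqq) β τ' → β ^ 2 = 1 →
      ∃ τ : K ≃+* K, τ' = rs hφ τ ∧ τ ^ 2 = 1 := by
    intro β τ' S hβ
    obtain ⟨τ, S'⟩ := exists_ftau hφ hqq cs 2 S.diag
    refine ⟨τ, NTau.unique (coordE hφ hqq) S (ntau_of_ftau hφ hqq S'), ?_⟩
    have h2 := ftau_pow hφ hqq S' 2
    rw [hβ] at h2
    exact FTau.unique hφ hqq h2 (FTau.one hφ hqq)
  have hrs1 : rs hφ (1 : K ≃+* K) = 1 := by
    funext i
    ext a
    rfl
  have hCP : ∀ i, CharP (KF φ i) 2 := fun i => inferInstance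
  obtain ⟨g, hg⟩ := exists_fix_U R hG (k := 1) (x := x) (by rw [pow_one]; exact hx)
  obtain ⟨α', hα'⟩ : ∃ α', α' = (MulAut.conj g)⁻¹ * x * MulAut.conj g := ⟨_, rfl⟩
  rw [← hα'] at hg
  have hα'p : α' ^ 2 = 1 := by
    have h1 := pow_conj_eq_one (δ := (MulAut.conj g)⁻¹) hx
    rw [inv_inv] at h1
    rw [hα']; exact h1
  have hαα' : x = MulAut.conj g * α' * (MulAut.conj g)⁻¹ := by rw [hα']; group
  obtain ⟨u, hu, hU, hUN, hpow, σ, D⟩ := exists_frame_pow R hG hg
  obtain ⟨β, hβ⟩ : ∃ β, β = MulAut.conj u * α' := ⟨_, rfl⟩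
  rw [← hβ] at hU hUN hpow D
  have hβp : β ^ 2 = 1 := hpow 2 hα'p
  have hσ1 : σ = 1 := by
    apply perm_F4 σ (D.matrix R)
    intro h3
    have h4 := Diag.card_eq D 0
    rw [h3] at h4
    exact card_ne hφ hqq hK hq.one_lt h4
  subst hσ1
  obtain ⟨τ', S⟩ := exists_ntau (coordE hφ hqq) D
  have hα'β : α' = MulAut.conj u⁻¹ * β := by rw [hβ, map_inv]; group
  obtain ⟨τ, rfl, hτp⟩ := hτ β τ' S hβp
  by_cases hτ1 : τ = 1
  · left
    subst hτ1
    rw [hrs1] at S
    have h1 : β = 1 := NTau.eq_one (coordE hφ hqq) R hG1 (k := 1) S (by rw [pow_one]; exact hβp)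
    refine ⟨g * u⁻¹ * g⁻¹, ?_⟩
    rw [hαα', hα'β, h1, mul_one, map_mul, map_mul, map_inv, map_inv]
  · right
    obtain ⟨e, he⟩ := CpAut.RgdNConj.exists_conj_of_ntau R hG1 (coordE hφ hqq) S (ntau_st hφ hqq τ cs 2) hβp
      (st_pow τ hτp)
    refine ⟨τ, MulAut.conj g * e, e⁻¹ u⁻¹, eq_frob hK hτp hτ1 hφ, ?_⟩
    have h2 : e * MulAut.conj (e⁻¹ u⁻¹) = MulAut.conj u⁻¹ * e := by
      ext y
      simp
    calc x = MulAut.conj g * (MulAut.conj u⁻¹ * e * st q τ * e⁻¹) * (MulAut.conj g)⁻¹ := by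
          rw [hαα', hα'β, he]; group
      _ = _ := by rw [← h2]; group

end Cfsg.Agent.H78.TeRed
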