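import Mathlib
import Cfsg.Agent.H78.TeGraph
import Cfsg.Agent.H78.SixRows
import Cfsg.Agent.S1062
import Cfsg.Agent.S1066

/-!
The involutory automorphisms of `F₄(F)`, `|F| = q²` even; the structure `H829.ExcComp.GraphIn` (helper78, with helper296 and
helper829).

* `graphIn` : all graph types;
* `exc_comp` : the components of the fixed subgroups of involutory automorphisms of the exceptional groups in characteristic
two (no hypothesis left).
-/

set_option autoImplicit false

namespace Cfsg.Agent.H78.TeFour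

open Cfsg Cfsg.Lie Subgroup
open Cfsg.Agent.H829.FieldTwo Cfsg.Agent.H829.ExcComp Cfsg.Agent.H78.TeGraph

theorem two_dvd {F : Type} [Field F] [Fintype F] [CharP F 2] {q : ℕ} (hF : Fintype.card F = q ^ 2) : 2 ∣ q := by
  obtain ⟨n, hn, hcard⟩ := FiniteField.card F 2
  rw [hF] at hcard
  have h1 : 2 ∣ q ^ 2 := by rw [hcard]; exact dvd_pow_self 2 n.ne_zero
  exact Nat.prime_two.dvd_of_dvd_pow h1

theorem noEmb : NoEmb := by
  intro F _ _ _ q hq hF f hf
  have h2 := two_dvd hF
  have h3 : Nat.card ↥(chevF4.group F) ∣ Nat.card ↥(twistedE6 F q) := by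
    have h4 : Nat.card ↥f.range ∣ Nat.card ↥(twistedE6 F q) := Subgroup.card_subgroup_dvd_card _
    rwa [← Nat.card_congr (MonoidHom.ofInjective hf).toEquiv] at h4
  have h4 := Cfsg.Agent.S1062.result (F := F) hF
  have h5 := Cfsg.Agent.S1066.result hq hF
  have hq0 : 0 < q := hq.pos
  have h6 : q ^ 48 ∣ q ^ 36 * ((q ^ 2 - 1) * (q ^ 5 + 1) * (q ^ 6 - 1) * (q ^ 8 - 1) * (q ^ 9 + 1) * (q ^ 12 - 1)) := by
    have h7 : q ^ 48 ∣ Nat.card ↥(chevF4.group F) := by
      rw [h4, ← pow_mul, mul_assoc, mul_assoc, mul_assoc]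
      exact Dvd.intro _ rfl
    have h8 := (h7.trans h3).trans (Dvd.intro_left (Nat.gcd 3 (q + 1)) h5)
    simpa only [mul_assoc] using h8
  rw [show 48 = 36 + 12 by norm_num, pow_add] at h6
  have h7 := Nat.dvd_of_mul_dvd_mul_left (by positivity) h6
  have h8 : 2 ∣ (q ^ 2 - 1) * (q ^ 5 + 1) * (q ^ 6 - 1) * (q ^ 8 - 1) * (q ^ 9 + 1) * (q ^ 12 - 1) :=
    (h2.trans (dvd_pow_self q (by norm_num))).trans h7
  have hm : ∀ a, a ≠ 0 → ¬ 2 ∣ q ^ a - 1 := by
    intro a ha h9
    have h10 : 2 ∣ q ^ a := h2.trans (dvd_pow_self q ha)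
    have h11 : 0 < q ^ a := by positivity
    omega
  have hp : ∀ a, a ≠ 0 → ¬ 2 ∣ q ^ a + 1 := by
    intro a ha h9
    have h10 : 2 ∣ q ^ a := h2.trans (dvd_pow_self q ha)
    omega
  simp only [Nat.prime_two.dvd_mul] at h8
  rcases h8 with ((((h8 | h8) | h8) | h8) | h8) | h8
  · exact hm 2 (by norm_num) h8
  · exact hp 5 (by norm_num) h8
  · exact hm 6 (by norm_num) h8
  · exact hm 8 (by norm_num) h8
  · exact hp 9 (by norm_num) h8
  · exact hm 12 (by norm_num) h8

theorem fFour : FFour := by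
  intro F _ _ _ q hq hF s hs hs1 A hA
  obtain ⟨hsim, hna⟩ := Cfsg.Agent.S1054.result (F := F) chevF4 (by simp)
  have hs2 : s ^ 2 = 1 := by rw [pow_two]; exact hs
  rcases field_F4 hs2 with ⟨g, rfl⟩ | h | h
  · exact (no_comp_inner hna (chev_two ⟨F, inferInstance, inferInstance, inferInstance,
      Or.inr (Or.inl ⟨MulEquiv.refl _⟩)⟩) hs2 hs1 hA).elim
  · obtain ⟨F₀, i1, i2, i3, hc, ho⟩ := field_pair h
    obtain ⟨hs', hna'⟩ := Cfsg.Agent.S1054.result (F := F₀) chevF4 (by simp)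
    refine ⟨F₀, i1, i2, i3, ?_, ho.comp hA⟩
    rw [hF] at hc
    exact (Nat.pow_left_injective (n := 2) two_ne_zero hc).symm
  · exfalso
    obtain ⟨y, d, g, φ, hd, hgr, hφ, e⟩ := Cfsg.Agent.H79.Steinberg.exists_fac isType_F4.inList s
    have hg1 : g ≠ 1 := by
      rintro rfl
      exact Cfsg.Agent.H296.Link.not_graph isType_F4 h hd hφ e
    have : Fact (Nat.Prime 2) := ⟨Nat.prime_two⟩
    have : PerfectRing F 2 := inferInstance
    obtain ⟨m, τ, ζ, hK, -, -⟩ := Cfsg.Agent.H296.FFour.main hs hd hgr hφ hg1 e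
    rw [hF] at hK
    have h1 := congrArg (fun n => n.factorization 2) hK
    simp only [Nat.factorization_pow, Finsupp.smul_apply, Nat.Prime.factorization_self Nat.prime_two,
      smul_eq_mul, mul_one] at h1
    omega

/-- **All graph types.** -/
theorem graphIn : GraphIn where
  f4 := Cfsg.Agent.H296.GraphRows.f4
  e6 := Cfsg.Agent.H78.SixRows.e6
  te6 := te6_of fFour noEmb

/-- **The components of the fixed subgroups of the involutory automorphisms of the exceptional groups in characteristic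
two.** -/
theorem exc_comp {K : Type*} [Group K] [Finite K] [IsSimpleGroup K] (hna : ¬ IsMulCommutative K)
    (hK : IsExceptionalChevChar 2 K ∨ IsTwistedE6D4Char 2 K ∨ IsoSuzuki K ∨ Iso2F4 K) : Row K :=
  Cfsg.Agent.H829.ExcComp.exc_comp graphIn hna hK

end Cfsg.Agent.H78.TeFour
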