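import Mathlib
import Cfsg.Prelude.Def_Blocks
import Cfsg.Agent.H686.CharKit
import Cfsg.Agent.CharDeep.CliffordCorr
import Cfsg.Agent.H678.Constit
import Cfsg.Agent.OddOrderCharacters.PF9.GaloisClifford

/-!
# Degrees divisible by the order of a normal subgroup

`Big V` : every irreducible character of `G` whose kernel does not contain the normal subgroup `V`
has degree divisible by `|V|`.  Then for every subgroup `K ≥ V` and every irreducible character `θ`
of `K` whose kernel does not contain `V`: `|V|` divides `|G : K| θ(1)`.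
-/

set_option autoImplicit false

namespace Cfsg.Agent.H78.CodA

open Cfsg Cfsg.Agent.Characters Cfsg.Agent.H686.CharKit

universe u

variable {G : Type u} [Group G] [Finite G]

/-- Every irreducible character not trivial on `V` has degree divisible by `|V|`. -/
def Big (V : Subgroup G) : Prop :=
  ∀ χ : IrrCharacter G, ¬ V ≤ chKer χ → Nat.card V ∣ charDegree (χ : G → ℂ)

theorem dvd_of_irr {V : Subgroup G} (hB : Big V) {K : Subgroup G} (θ : IrrCharacter K)
    (hθ : ∃ v : K, (v : G) ∈ V ∧ (θ : K → ℂ) v ≠ (θ : K → ℂ) 1) :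
    Nat.card V ∣ K.index * charDegree (θ : K → ℂ) := by
  classical
  have := Core.finite_irr (G := G)
  have := Fintype.ofFinite (IrrCharacter G)
  have := Fintype.ofFinite G
  have := Fintype.ofFinite K
  obtain ⟨c, hc, hc'⟩ := CharDeep.CliffordCorr.exists_nat_coeffs_indFun K
    (Core.isIrr_isCharacter θ.2)
  have h1 := congrFun hc 1
  rw [H678.Constit.indFun_one, Finset.sum_apply] at h1
  have h2 : ((K.index * charDegree (θ : K → ℂ) : ℕ) : ℂ) =
      ((∑ χ : IrrCharacter G, c χ * charDegree (χ : G → ℂ) : ℕ) : ℂ) := by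
    push_cast
    rw [charDegree_irr, h1]
    refine Finset.sum_congr rfl fun χ _ => ?_
    rw [charDegree_irr, Pi.smul_apply, smul_eq_mul]
  have h3 := Nat.cast_injective (R := ℂ) h2
  rw [h3]
  refine Finset.dvd_sum fun χ _ => ?_
  by_cases hχ : V ≤ chKer χ
  · have h4 : c χ = 0 := by
      by_contra h5
      obtain ⟨v, hv, hne⟩ := hθ
      apply hne
      have h6 : classInner (fun k : K => (χ : G → ℂ) k) (θ : K → ℂ) ≠ 0 := by
        rw [← Core.classInner_conj_symm, hc' χ]
        simpa using h5
      refine OddOrderCharacters.PF9.GaloisClifford.ker_of_constituent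
        (Clifford.isCharacter_restrict K (Core.isIrr_isCharacter χ.2)) θ.2 h6 ?_
      exact hχ hv
    rw [h4, zero_mul]
    exact dvd_zero _
  · exact dvd_mul_of_dvd_right (hB χ hχ) _

/-- The version for linear characters. -/
theorem dvd_of_lin {V : Subgroup G} (hB : Big V) {K : Subgroup G} (μ : K →* ℂˣ)
    (hμ : ∃ v : K, (v : G) ∈ V ∧ μ v ≠ 1) : Nat.card V ∣ K.index := by
  have hirr := Linear.isIrrCharacter_hom μ
  have h := dvd_of_irr hB ⟨_, hirr⟩ (by
    obtain ⟨v, hv, hne⟩ := hμ
    refine ⟨v, hv, fun h => hne ?_⟩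
    simp only [map_one] at h
    exact Units.ext h)
  have h1 : charDegree (fun g => ((μ g : ℂˣ) : ℂ)) = 1 := by
    unfold charDegree
    simp
  have h2 : Nat.card V ∣ K.index * charDegree (fun g => ((μ g : ℂˣ) : ℂ)) := h
  rwa [h1, mul_one] at h2

end Cfsg.Agent.H78.CodA
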