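import Mathlib
import Cfsg.Prelude.Def_Blocks
import Cfsg.Agent.H78.CodA
import Cfsg.Agent.H677.CodMain
import Cfsg.Agent.S0188

/-!
# Codegrees: the minimal normal subgroup

`G` finite, `N` a minimal normal subgroup, `G/N` simple non-abelian, and every codegree of `G` is a
codegree of `G/N`.  Then `N` is the unique minimal normal subgroup, `N` is abelian, and every
irreducible character `χ` of `G` not trivial on `N` has degree `|N| ψ(1)` for some nonprincipal
irreducible character `ψ` of `G/N` (theorem `cases`).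
-/

set_option autoImplicit false

namespace Cfsg.Agent.H78.CodB

open Cfsg Cfsg.Agent.Characters Cfsg.Agent.H686.CharKit Cfsg.Agent.H677.CodMultiset
  Cfsg.Agent.H677.CodPrime

universe u v

set_option linter.unusedSectionVars false

variable {G : Type u} [Group G] [Finite G]

/-- Every codegree of `G` is a codegree of `L`. -/
def Sub (G : Type u) [Group G] (L : Type v) [Group L] : Prop :=
  ∀ χ : IrrCharacter G, ∃ ψ : IrrCharacter L, cod χ = cod ψ

theorem cod_mul_of_ker {χ : IrrCharacter G} (h : chKer χ = ⊥) :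
    cod χ * charDegree (χ : G → ℂ) = Nat.card G := by
  rw [cod_eq, h, Subgroup.card_bot, one_mul]
  exact Nat.div_mul_cancel (charDegree_dvd_card χ)

/-- Degrees of faithful characters. -/
theorem degree_eq {L : Type v} [Group L] [Finite L] [IsSimpleGroup L] {n : ℕ}
    (hcard : Nat.card G = n * Nat.card L) (hn : 0 < n) {χ : IrrCharacter G} (hker : chKer χ = ⊥)
    {ψ : IrrCharacter L} (h : cod χ = cod ψ) :
    ψ ≠ one L ∧ charDegree (χ : G → ℂ) = n * charDegree (ψ : L → ℂ) := by
  have h1 := cod_mul_of_ker hker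
  have hL : 1 < Nat.card L := Finite.one_lt_card
  have hG : 1 < Nat.card G := by rw [hcard]; nlinarith
  have : Nontrivial G := Finite.one_lt_card_iff_nontrivial.1 hG
  have hψ : ψ ≠ one L := by
    rintro rfl
    rw [h, cod_one, one_mul] at h1
    have h2 := charDegree_sq_lt χ
    rw [h1] at h2
    nlinarith
  refine ⟨hψ, ?_⟩
  have h2 := cod_mul hψ
  have h3 : 0 < cod ψ := by have := one_lt_cod hψ; omega
  apply Nat.eq_of_mul_eq_mul_left h3
  rw [← h, h1, hcard, ← h2, h]
  ring

/-- A nonprincipal irreducible character exists on a nontrivial group. -/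
theorem exists_ne_one {L : Type v} [Group L] [Finite L] [Nontrivial L] :
    ∃ ψ : IrrCharacter L, ψ ≠ one L := by
  obtain ⟨p, hp, hpL⟩ := Nat.exists_prime_and_dvd (Finite.one_lt_card (α := L)).ne'
  obtain ⟨χ, hχ, _⟩ := exists_not_dvd (G := L) hp hpL
  exact ⟨χ, hχ⟩

theorem deg_pos {L : Type v} [Group L] [Finite L] (ψ : IrrCharacter L) :
    0 < charDegree (ψ : L → ℂ) := charDegree_pos ψ

/-- A nonprincipal irreducible character of least degree. -/
theorem exists_min {L : Type v} [Group L] [Finite L] [Nontrivial L] :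
    ∃ β : IrrCharacter L, β ≠ one L ∧ ∀ ψ : IrrCharacter L, ψ ≠ one L →
      charDegree (β : L → ℂ) ≤ charDegree (ψ : L → ℂ) := by
  classical
  have := Core.finite_irr (G := L)
  have := Fintype.ofFinite (IrrCharacter L)
  obtain ⟨β0, hβ0⟩ := exists_ne_one (L := L)
  obtain ⟨β, hβ, hmin⟩ := Finset.exists_min_image (Finset.univ.erase (one L))
    (fun ψ => charDegree (ψ : L → ℂ)) ⟨β0, Finset.mem_erase.2 ⟨hβ0, Finset.mem_univ _⟩⟩
  exact ⟨β, (Finset.mem_erase.1 hβ).1, fun ψ hψ => hmin ψ (Finset.mem_erase.2 ⟨hψ, Finset.mem_univ _⟩)⟩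

theorem sup_eq_top {N : Subgroup G} [N.Normal] [IsSimpleGroup (G ⧸ N)] {K : Subgroup G} [K.Normal]
    (hK : ¬ K ≤ N) : K ⊔ N = ⊤ := by
  have hmn : (K.map (QuotientGroup.mk' N)).Normal :=
    (inferInstance : K.Normal).map _ (QuotientGroup.mk'_surjective N)
  rcases hmn.eq_bot_or_eq_top with h | h
  · exfalso
    apply hK
    rwa [Subgroup.map_eq_bot_iff, QuotientGroup.ker_mk'] at h
  · have h1 := Subgroup.comap_map_eq (QuotientGroup.mk' N) K
    rw [h, Subgroup.comap_top, QuotientGroup.ker_mk'] at h1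
    exact h1.symm

theorem not_le_of_disj {N K : Subgroup G} (hK : K ≠ ⊥) (hKN : K ⊓ N = ⊥) : ¬ K ≤ N := by
  intro h
  apply hK
  rw [eq_bot_iff, ← hKN]
  exact le_inf le_rfl h

/-- There is no normal subgroup meeting `N` trivially. -/
theorem no_direct {N : Subgroup G} [N.Normal] (hN : N ≠ ⊥) [IsSimpleGroup (G ⧸ N)]
    (hna : ¬ ∀ a b : G ⧸ N, a * b = b * a)
    (hmin : ∀ J : Subgroup G, J.Normal → J ≤ N → J = ⊥ ∨ J = N)
    (hsub : Sub G (G ⧸ N)) {K : Subgroup G} [K.Normal] (hK : K ≠ ⊥) (hKN : K ⊓ N = ⊥) : False := by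
  classical
  -- `K N = G`
  have hKN' : Disjoint K N := disjoint_iff.2 hKN
  have hsup : K ⊔ N = ⊤ := sup_eq_top (not_le_of_disj hK hKN)
  let f : G →* (G ⧸ N) × (G ⧸ K) := (QuotientGroup.mk' N).prod (QuotientGroup.mk' K)
  have hf : Function.Surjective f := by
    rintro ⟨a, b⟩
    obtain ⟨x, rfl⟩ := QuotientGroup.mk_surjective a
    obtain ⟨y, rfl⟩ := QuotientGroup.mk_surjective b
    have hx : x⁻¹ * y ∈ (K ⊔ N : Subgroup G) := by rw [hsup]; trivial
    rw [sup_comm, Subgroup.mem_sup_of_normal_left] at hx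
    obtain ⟨n, hn, k, hk, hxy⟩ := hx
    refine ⟨x * n, ?_⟩
    refine Prod.ext ?_ ?_
    · change ((x * n : G) : G ⧸ N) = (x : G ⧸ N)
      rw [QuotientGroup.eq]
      have : (x * n)⁻¹ * x = n⁻¹ := by group
      rw [this]
      exact N.inv_mem hn
    · change ((x * n : G) : G ⧸ K) = (y : G ⧸ K)
      rw [QuotientGroup.eq]
      have : (x * n)⁻¹ * y = k := by
        calc (x * n)⁻¹ * y = n⁻¹ * (x⁻¹ * y) := by group
          _ = n⁻¹ * (n * k) := by rw [hxy]
          _ = k := by group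
      rw [this]
      exact hk
  have hKt : K ≠ ⊤ := by
    rintro rfl
    apply hN
    rw [eq_bot_iff, ← hKN]
    exact le_inf le_top le_rfl
  have : Nontrivial (G ⧸ K) := QuotientGroup.nontrivial_iff.2 hKt
  obtain ⟨β, hβ, hmin'⟩ := exists_min (L := G ⧸ N)
  obtain ⟨α, hα⟩ := exists_ne_one (L := G ⧸ K)
  let χ : IrrCharacter G := ⟨(fun x : (G ⧸ N) × (G ⧸ K) => (β : G ⧸ N → ℂ) x.1 * (α : G ⧸ K → ℂ) x.2) ∘ f,
    Core.isIrr_comp f hf (S0188.isIrr_outer β.2 α.2)⟩
  have hχ : ∀ g : G, (χ : G → ℂ) g = (β : G ⧸ N → ℂ) g * (α : G ⧸ K → ℂ) g := fun g => rfl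
  have hβ1 := Core.isIrr_apply_one_ne_zero β.2
  have hα1 := Core.isIrr_apply_one_ne_zero α.2
  -- kernel
  have hcardNK : Nat.card G = Nat.card N * Nat.card (G ⧸ N) := by
    rw [Subgroup.card_eq_card_quotient_mul_card_subgroup N, mul_comm]
  have hNcard : Nat.card (G ⧸ K) = Nat.card N := by
    have h1 := Subgroup.card_eq_card_quotient_mul_card_subgroup K
    have h2 : Nat.card (K ⊔ N : Subgroup G) = Nat.card K * Nat.card N := by
      have h3 := Subgroup.card_mul_index (N.subgroupOf (K ⊔ N))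
      have h4 : (N.subgroupOf (K ⊔ N)).index = Nat.card K := by
        have h5 : N.relIndex (K ⊔ N) = N.relIndex K := Subgroup.relIndex_sup_right K N
        change N.relIndex (K ⊔ N) = _
        rw [h5]
        change (N.subgroupOf K).index = _
        have h6 : N.subgroupOf K = ⊥ := by
          rw [Subgroup.subgroupOf_eq_bot]
          exact hKN'.symm
        rw [h6, Subgroup.index_bot]
      rw [h4, Nat.card_congr (Subgroup.subgroupOfEquivOfLe (le_sup_right : N ≤ K ⊔ N)).toEquiv] at h3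
      rw [← h3, mul_comm]
    rw [hsup, Subgroup.card_top] at h2
    rw [h2, mul_comm (Nat.card K)] at h1
    exact (Nat.eq_of_mul_eq_mul_right Nat.card_pos h1).symm
  have hnot : ¬ N ≤ chKer χ := by
    intro hle
    apply hα
    apply eq_one_of_chKer
    rw [eq_top_iff]
    intro x _
    obtain ⟨g, rfl⟩ := QuotientGroup.mk_surjective x
    have hg : g ∈ (K ⊔ N : Subgroup G) := by rw [hsup]; trivial
    rw [Subgroup.mem_sup_of_normal_left] at hg
    obtain ⟨k, hk, n, hn, rfl⟩ := hg
    have h1 : (χ : G → ℂ) n = (χ : G → ℂ) 1 := hle hn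
    rw [hχ, hχ] at h1
    have h2 : ((n : G) : G ⧸ N) = ((1 : G) : G ⧸ N) := by
      rw [QuotientGroup.eq]
      simpa using hn
    rw [h2] at h1
    have h3 := mul_left_cancel₀ hβ1 h1
    rw [mem_chKer]
    have h4 : ((k * n : G) : G ⧸ K) = ((n : G) : G ⧸ K) := by
      rw [QuotientGroup.eq]
      have : (k * n)⁻¹ * n = n⁻¹ * k⁻¹ * n := by group
      rw [this]
      have h5 := (inferInstance : K.Normal).conj_mem k⁻¹ (K.inv_mem hk) n⁻¹
      simpa using h5
    rw [h4]
    exact h3
  have hnot' : ¬ K ≤ chKer χ := by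
    intro hle
    apply hβ
    apply eq_one_of_chKer
    rw [eq_top_iff]
    intro x _
    obtain ⟨g, rfl⟩ := QuotientGroup.mk_surjective x
    have hg : g ∈ (K ⊔ N : Subgroup G) := by rw [hsup]; trivial
    rw [Subgroup.mem_sup_of_normal_left] at hg
    obtain ⟨k, hk, n, hn, rfl⟩ := hg
    have h1 : (χ : G → ℂ) k = (χ : G → ℂ) 1 := hle hk
    rw [hχ, hχ] at h1
    have h2 : ((k : G) : G ⧸ K) = ((1 : G) : G ⧸ K) := by
      rw [QuotientGroup.eq]
      simpa using hk
    rw [h2] at h1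
    have h3 := mul_right_cancel₀ hα1 h1
    rw [mem_chKer]
    have h4 : ((k * n : G) : G ⧸ N) = ((k : G) : G ⧸ N) := by
      rw [QuotientGroup.eq]
      have : (k * n)⁻¹ * k = n⁻¹ := by group
      rw [this]
      exact N.inv_mem hn
    rw [h4]
    exact h3
  -- the kernel is trivial
  have hJN : chKer χ ⊓ N = ⊥ := by
    rcases hmin (chKer χ ⊓ N) inferInstance inf_le_right with h | h
    · exact h
    · exact absurd (inf_eq_right.1 h) hnot
  have hJK : chKer χ ⊓ K = ⊥ := by
    by_contra hne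
    apply hnot'
    have h1 : (chKer χ ⊓ K) ⊓ N = ⊥ := by rw [inf_assoc, hKN, inf_bot_eq]
    have h2 := sup_eq_top (not_le_of_disj hne h1)
    intro k hk
    have h3 : k ∈ ((chKer χ ⊓ K) ⊔ N : Subgroup G) := by rw [h2]; trivial
    rw [Subgroup.mem_sup_of_normal_left] at h3
    obtain ⟨a, ha, b, hb, rfl⟩ := h3
    have h4 : b ∈ K := by
      have := K.mul_mem (K.inv_mem ha.2) hk
      simpa using this
    have h5 : b ∈ K ⊓ N := ⟨h4, hb⟩
    rw [hKN, Subgroup.mem_bot] at h5
    rw [h5, mul_one]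
    exact ha.1
  have hcen : ∀ x ∈ chKer χ, ∀ g : G, x * g = g * x := by
    intro x hx g
    have hg : g ∈ (K ⊔ N : Subgroup G) := by rw [hsup]; trivial
    rw [Subgroup.mem_sup_of_normal_left] at hg
    obtain ⟨k, hk, n, hn, rfl⟩ := hg
    have h1 : Commute x k := Subgroup.commute_of_normal_of_disjoint _ _ inferInstance inferInstance
      (disjoint_iff.2 hJK) x k hx hk
    have h2 : Commute x n := Subgroup.commute_of_normal_of_disjoint _ _ inferInstance inferInstance
      (disjoint_iff.2 hJN) x n hx hn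
    exact h1.mul_right h2
  have hJ : chKer χ = ⊥ := by
    by_contra hne
    have h1 := sup_eq_top (not_le_of_disj hne hJN)
    apply hna
    intro a b
    obtain ⟨x, rfl⟩ := QuotientGroup.mk_surjective a
    obtain ⟨y, rfl⟩ := QuotientGroup.mk_surjective b
    have h3 : x ∈ (chKer χ ⊔ N : Subgroup G) := by rw [h1]; trivial
    rw [Subgroup.mem_sup_of_normal_left] at h3
    obtain ⟨c, hc, d, hd, rfl⟩ := h3
    have h4 : ((c * d : G) : G ⧸ N) = (c : G ⧸ N) := by
      rw [QuotientGroup.eq]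
      have : (c * d)⁻¹ * c = d⁻¹ := by group
      rw [this]
      exact N.inv_mem hd
    rw [h4, ← QuotientGroup.mk_mul, ← QuotientGroup.mk_mul, hcen c hc y]
  obtain ⟨ψ, hψ⟩ := hsub χ
  obtain ⟨hψ1, hdeg⟩ := degree_eq hcardNK Nat.card_pos hJ hψ
  have hβψ := hmin' ψ hψ1
  have h5 : charDegree (χ : G → ℂ) = charDegree (β : G ⧸ N → ℂ) * charDegree (α : G ⧸ K → ℂ) := by
    have h6 : ((charDegree (χ : G → ℂ) : ℕ) : ℂ) =
        ((charDegree (β : G ⧸ N → ℂ) * charDegree (α : G ⧸ K → ℂ) : ℕ) : ℂ) := by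
      push_cast
      rw [charDegree_irr, charDegree_irr, charDegree_irr, hχ]
      rfl
    exact_mod_cast h6
  have h7 := charDegree_sq_lt α
  rw [hNcard] at h7
  have h8 := charDegree_pos β
  rw [h5] at hdeg
  have h9 : Nat.card N ≤ charDegree (α : G ⧸ K → ℂ) := by
    by_contra hlt
    rw [not_le] at hlt
    have h10 : charDegree (β : G ⧸ N → ℂ) * charDegree (α : G ⧸ K → ℂ) <
        charDegree (ψ : G ⧸ N → ℂ) * Nat.card N :=
      Nat.mul_lt_mul_of_le_of_lt hβψ hlt (deg_pos ψ)
    rw [hdeg, mul_comm] at h10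
    exact lt_irrefl _ h10
  have h11 := charDegree_pos α
  nlinarith

/-- A nontrivial constituent of the permutation character on the cosets of a proper subgroup. -/
theorem exists_constituent {X : Subgroup G} (hX : X ≠ ⊤) :
    ∃ χ : IrrCharacter G, (χ : G → ℂ) ≠ 1 ∧ charDegree (χ : G → ℂ) + 1 ≤ X.index ∧
      ∀ [Fintype X], classInner (fun x : X => (χ : G → ℂ) x) (1 : X → ℂ) ≠ 0 := by
  classical
  have := Core.finite_irr (G := G)
  have := Fintype.ofFinite (IrrCharacter G)
  have := Fintype.ofFinite G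
  have := Fintype.ofFinite X
  obtain ⟨c, hc, hc'⟩ := CharDeep.CliffordCorr.exists_nat_coeffs_indFun X
    (Core.isIrr_isCharacter (Core.isIrr_one (G := X)))
  have h1 := congrFun hc 1
  rw [H678.Constit.indFun_one, Finset.sum_apply] at h1
  have h2 : ((X.index : ℕ) : ℂ) =
      ((∑ χ : IrrCharacter G, c χ * charDegree (χ : G → ℂ) : ℕ) : ℂ) := by
    push_cast
    have h0 : (X.index : ℂ) * (1 : X → ℂ) 1 = X.index := by simp
    rw [← h0, h1]
    refine Finset.sum_congr rfl fun χ _ => ?_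
    rw [charDegree_irr, Pi.smul_apply, smul_eq_mul]
  have h3 := Nat.cast_injective (R := ℂ) h2
  let o : IrrCharacter G := ⟨1, Core.isIrr_one⟩
  have ho : c o = 1 := by
    have h4 := hc' o
    have h5 : (fun k : X => (o : G → ℂ) k) = (1 : X → ℂ) := rfl
    rw [h5, Core.classInner_irr_self (Core.isIrr_one (G := X))] at h4
    exact_mod_cast h4.symm
  have hod : charDegree (o : G → ℂ) = 1 := by simp [o, charDegree]
  rw [← Finset.add_sum_erase _ _ (Finset.mem_univ o), ho, hod, one_mul] at h3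
  have h4 : X.index ≠ 1 := fun h => hX (Subgroup.index_eq_one.1 h)
  have h5 : ∑ χ ∈ Finset.univ.erase o, c χ * charDegree (χ : G → ℂ) ≠ 0 := by
    intro h; rw [h] at h3; exact h4 h3
  obtain ⟨χ, hχ, hne⟩ := Finset.exists_ne_zero_of_sum_ne_zero h5
  have hcχ : c χ ≠ 0 := fun h => hne (by rw [h, zero_mul])
  refine ⟨χ, fun h => (Finset.ne_of_mem_erase hχ) (Subtype.ext h), ?_, ?_⟩
  · have h6 : c χ * charDegree (χ : G → ℂ) ≤
        ∑ χ ∈ Finset.univ.erase o, c χ * charDegree (χ : G → ℂ) :=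
      Finset.single_le_sum (f := fun χ : IrrCharacter G => c χ * charDegree (χ : G → ℂ))
        (fun _ _ => Nat.zero_le _) hχ
    have h7 : charDegree (χ : G → ℂ) ≤ c χ * charDegree (χ : G → ℂ) :=
      Nat.le_mul_of_pos_left _ (Nat.pos_of_ne_zero hcχ)
    omega
  · intro hF
    have e : hF = this := Subsingleton.elim _ _
    subst e
    rw [← Core.classInner_conj_symm, hc' χ]
    simpa using hcχ

/-- If every irreducible character not trivial on `N` has degree divisible by `|N|` then every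
subgroup supplementing `N` is everything. -/
theorem eq_top_of_sup {N : Subgroup G} [N.Normal] (hB : CodA.Big N) {X : Subgroup G}
    (hX : N ⊔ X = ⊤) : X = ⊤ := by
  classical
  have := Fintype.ofFinite G
  by_contra hne
  have := Fintype.ofFinite X
  obtain ⟨χ, hχ1, hdeg, hin⟩ := exists_constituent hne
  have hnot : ¬ N ≤ chKer χ := by
    intro hle
    obtain ⟨ψ, hψ⟩ := exists_infl N χ hle
    have hsurj : Function.Surjective ((QuotientGroup.mk' N).comp X.subtype) := by
      intro y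
      obtain ⟨g, rfl⟩ := QuotientGroup.mk_surjective y
      have hg : g ∈ (X ⊔ N : Subgroup G) := by rw [sup_comm, hX]; trivial
      rw [Subgroup.mem_sup_of_normal_right] at hg
      obtain ⟨x, hx, n, hn, rfl⟩ := hg
      refine ⟨⟨x, hx⟩, ?_⟩
      change ((x : G) : G ⧸ N) = ((x * n : G) : G ⧸ N)
      rw [QuotientGroup.eq]
      simpa using hn
    have hirr := Core.isIrr_comp _ hsurj ψ.2
    have h1 : (ψ : G ⧸ N → ℂ) ∘ ((QuotientGroup.mk' N).comp X.subtype) =
        fun x : X => (χ : G → ℂ) x := by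
      funext x
      rw [← hψ]
      rfl
    rw [h1] at hirr
    have h2 : (fun x : X => (χ : G → ℂ) x) = 1 := by
      by_contra h
      exact hin (Core.classInner_irr_ne hirr Core.isIrr_one h)
    apply hχ1
    funext g
    obtain ⟨x, hx⟩ := hsurj (g : G ⧸ N)
    have h3 : (χ : G → ℂ) g = (χ : G → ℂ) x := by
      rw [← hψ]
      have hx' : ((x : G) : G ⧸ N) = (g : G ⧸ N) := hx
      change (ψ : G ⧸ N → ℂ) (g : G ⧸ N) = (ψ : G ⧸ N → ℂ) ((x : G) : G ⧸ N)
      rw [hx']
    rw [h3]
    exact congrFun h2 x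
  have h1 := Nat.le_of_dvd (charDegree_pos χ) (hB χ hnot)
  have h2 : X.index ≤ Nat.card N := by
    have h3 : X.relIndex (N ⊔ X) = X.index := by rw [hX, Subgroup.relIndex_top_right]
    have h4 : Nat.card G ≤ Nat.card N * Nat.card X := by
      have h5 := Subgroup.card_mul_index (X.subgroupOf (N ⊔ X))
      have h6 : Function.Surjective (fun p : N × X => (p.1 : G) * (p.2 : G)) := by
        intro g
        have hg : g ∈ (N ⊔ X : Subgroup G) := by rw [hX]; trivial
        rw [Subgroup.mem_sup_of_normal_left] at hg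
        obtain ⟨n, hn, x, hx, rfl⟩ := hg
        exact ⟨(⟨n, hn⟩, ⟨x, hx⟩), rfl⟩
      have h7 := Nat.card_le_card_of_surjective _ h6
      rwa [Nat.card_prod] at h7
    have h5 := X.card_mul_index
    rw [← h5, mul_comm] at h4
    exact Nat.le_of_mul_le_mul_right h4 Nat.card_pos
  omega

/-- A normal subgroup with `Big N` is nilpotent: all its Sylow subgroups are normal in `G`. -/
theorem sylow_normal {N : Subgroup G} [N.Normal] (hB : CodA.Big N) {p : ℕ} [Fact p.Prime]
    (Q : Sylow p N) : ((Q : Subgroup N).map N.subtype).Normal := by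
  have h1 := Sylow.normalizer_sup_eq_top Q
  rw [sup_comm] at h1
  have h2 := eq_top_of_sup hB h1
  exact Subgroup.normalizer_eq_top_iff.1 h2

/-- The structure of a minimal normal subgroup `N` such that the codegrees of `G` are codegrees of the
simple group `G/N`. -/
theorem main_min {N : Subgroup G} [N.Normal] (hN : N ≠ ⊥) [IsSimpleGroup (G ⧸ N)]
    (hna : ¬ ∀ a b : G ⧸ N, a * b = b * a)
    (hmin : ∀ J : Subgroup G, J.Normal → J ≤ N → J = ⊥ ∨ J = N)
    (hsub : Sub G (G ⧸ N)) :
    CodA.Big N ∧ (∀ K : Subgroup G, K.Normal → K ≠ ⊥ → N ≤ K) ∧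
    (∀ χ : IrrCharacter G, ¬ N ≤ chKer χ → ∃ ψ : IrrCharacter (G ⧸ N), ψ ≠ one (G ⧸ N) ∧
      charDegree (χ : G → ℂ) = Nat.card N * charDegree (ψ : G ⧸ N → ℂ)) ∧
    (∀ x ∈ N, ∀ y ∈ N, x * y = y * x) ∧ ∃ p : ℕ, p.Prime ∧ IsPGroup p N ∧ ∀ x ∈ N, x ^ p = 1 := by
  classical
  have huniq : ∀ K : Subgroup G, K.Normal → K ≠ ⊥ → N ≤ K := by
    intro K hK hK1
    rcases hmin (K ⊓ N) inferInstance inf_le_right with h | h
    · exact (no_direct hN hna hmin hsub hK1 h).elim
    · exact inf_eq_right.1 h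
  have hcardNK : Nat.card G = Nat.card N * Nat.card (G ⧸ N) := by
    rw [Subgroup.card_eq_card_quotient_mul_card_subgroup N, mul_comm]
  have hdeg : ∀ χ : IrrCharacter G, ¬ N ≤ chKer χ → ∃ ψ : IrrCharacter (G ⧸ N), ψ ≠ one (G ⧸ N) ∧
      charDegree (χ : G → ℂ) = Nat.card N * charDegree (ψ : G ⧸ N → ℂ) := by
    intro χ hχ
    have hker : chKer χ = ⊥ := by
      by_contra h
      exact hχ (huniq _ inferInstance h)
    obtain ⟨ψ, hψ⟩ := hsub χ
    exact ⟨ψ, degree_eq hcardNK Nat.card_pos hker hψ⟩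
  have hB : CodA.Big N := by
    intro χ hχ
    obtain ⟨ψ, -, h⟩ := hdeg χ hχ
    exact ⟨_, h⟩
  refine ⟨hB, huniq, hdeg, ?_⟩
  have hN1 : 1 < Nat.card N := (Subgroup.one_lt_card_iff_ne_bot _).2 hN
  obtain ⟨p, hp, hpN⟩ := Nat.exists_prime_and_dvd hN1.ne'
  have := Fact.mk hp
  let Q : Sylow p N := default
  have hQn := sylow_normal hB Q
  have hQ1 : (Q : Subgroup N) ≠ ⊥ := Sylow.ne_bot_of_dvd_card Q hpN
  have hQN : (Q : Subgroup N).map N.subtype = N := by
    rcases hmin _ hQn (Subgroup.map_subtype_le _) with h | h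
    · exfalso
      apply hQ1
      exact (Subgroup.map_eq_bot_iff_of_injective _ N.subtype_injective).1 h
    · exact h
  have hpg : IsPGroup p N := by
    have h1 : IsPGroup p ((Q : Subgroup N).map N.subtype) := Q.isPGroup'.map _
    rwa [hQN] at h1
  -- the centre
  have : Nontrivial N := (Subgroup.nontrivial_iff_ne_bot N).2 hN
  have hZ : (Subgroup.center N).map N.subtype = N := by
    rcases hmin ((Subgroup.center N).map N.subtype) inferInstance (Subgroup.map_subtype_le _) with h | h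
    · exfalso
      have h1 := hpg.center_nontrivial
      rw [Subgroup.map_eq_bot_iff_of_injective _ N.subtype_injective] at h
      exact ((Subgroup.nontrivial_iff_ne_bot _).1 h1) h
    · exact h
  have hab : ∀ x ∈ N, ∀ y ∈ N, x * y = y * x := by
    intro x hx y hy
    rw [← hZ, Subgroup.mem_map] at hx
    obtain ⟨z, hz, rfl⟩ := hx
    have := Subgroup.mem_center_iff.1 hz ⟨y, hy⟩
    exact (congrArg Subtype.val this).symm
  refine ⟨hab, p, hp, hpg, ?_⟩
  -- the elements of order `p`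
  let W : Subgroup G :=
    { carrier := {x | x ∈ N ∧ x ^ p = 1}
      one_mem' := ⟨N.one_mem, one_pow _⟩
      mul_mem' := by
        rintro a b ⟨ha, ha'⟩ ⟨hb, hb'⟩
        refine ⟨N.mul_mem ha hb, ?_⟩
        rw [(show Commute a b from hab a ha b hb).mul_pow, ha', hb', one_mul]
      inv_mem' := by
        rintro a ⟨ha, ha'⟩
        exact ⟨N.inv_mem ha, by rw [inv_pow, ha', inv_one]⟩ }
  have hWn : W.Normal := by
    refine ⟨fun x hx g => ⟨(inferInstance : N.Normal).conj_mem x hx.1 g, ?_⟩⟩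
    rw [conj_pow, hx.2, mul_one, mul_inv_cancel]
  rcases hmin W hWn (fun x hx => hx.1) with h | h
  · exfalso
    obtain ⟨x, hx⟩ := exists_prime_orderOf_dvd_card' p hpN
    have h1 : (x : G) ∈ W := by
      refine ⟨x.2, ?_⟩
      have h2 := pow_orderOf_eq_one x
      rw [hx] at h2
      exact congrArg Subtype.val h2
    rw [h, Subgroup.mem_bot] at h1
    have h3 : x = 1 := Subtype.ext h1
    rw [h3, orderOf_one] at hx
    exact hp.one_lt.ne hx
  · intro x hx
    rw [← h] at hx
    exact hx.2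

end Cfsg.Agent.H78.CodB
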