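import Mathlib
import Cfsg.Agent.H78.CodA
import Cfsg.Agent.H940.Basic

/-!
# Subgroups of an extension by an abelian normal subgroup of `Big` type

* `dvd_index` : if `V` is not contained in the derived subgroup of `K ≥ V` then `|V|` divides `|G : K|`;
* `not_le_commutator` : a `p`-subgroup `A ≥ V` centralized modulo `V` by a `p'`-element acting
  nontrivially on `V` does not contain `V` in its derived subgroup;
* `two_sides` : the argument with two opposite subgroups.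
-/

set_option autoImplicit false
set_option linter.unusedSectionVars false

namespace Cfsg.Agent.H78.CodC

open Cfsg Cfsg.Agent.Characters Cfsg.Agent.H686.CharKit
open scoped commutatorElement

universe u

variable {G : Type u} [Group G] [Finite G]

theorem dvd_index {V : Subgroup G} (hB : CodA.Big V) {K : Subgroup G} (hVK : V ≤ K)
    (h : ¬ V ≤ ⁅K, K⁆) : Nat.card V ∣ K.index := by
  obtain ⟨v, hv, hvK⟩ := SetLike.not_le_iff_exists.1 h
  have h1 : Abelianization.of (⟨v, hVK hv⟩ : K) ≠ 1 := by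
    intro h2
    apply hvK
    have h3 : (⟨v, hVK hv⟩ : K) ∈ commutator K := by
      rw [← Abelianization.ker_of]
      exact h2
    have h4 : (commutator K).map K.subtype = ⁅K, K⁆ := Subgroup.map_subtype_commutator K
    rw [← h4]
    exact ⟨_, h3, rfl⟩
  obtain ⟨μ, hμ⟩ := CommGroup.exists_apply_ne_one_of_hasEnoughRootsOfUnity (Abelianization K) ℂ h1
  exact CodA.dvd_of_lin hB (μ.comp Abelianization.of) ⟨⟨v, hVK hv⟩, hv, hμ⟩

/-- the map `v ↦ [v, x]` on an abelian normal subgroup -/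
theorem delta_mul {V : Subgroup G} [hV : V.Normal] (hab : ∀ x ∈ V, ∀ y ∈ V, x * y = y * x) (x : G) {v w : G}
    (hv : v ∈ V) (hw : w ∈ V) : ⁅v * w, x⁆ = ⁅v, x⁆ * ⁅w, x⁆ := by
  have h1 : x * v⁻¹ * x⁻¹ ∈ V := hV.conj_mem _ (V.inv_mem hv) x
  have h2 : x * w⁻¹ * x⁻¹ ∈ V := hV.conj_mem _ (V.inv_mem hw) x
  rw [commutatorElement_def, commutatorElement_def, commutatorElement_def]
  calc v * w * x * (v * w)⁻¹ * x⁻¹ = v * (w * (x * w⁻¹ * x⁻¹)) * (x * v⁻¹ * x⁻¹) := by group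
    _ = v * (x * v⁻¹ * x⁻¹) * (w * (x * w⁻¹ * x⁻¹)) := by
        rw [mul_assoc, hab _ (V.mul_mem hw h2) _ h1, ← mul_assoc]
    _ = _ := by group

theorem not_le_commutator {p : ℕ} [Fact p.Prime] {V : Subgroup G} [hV : V.Normal]
    (hab : ∀ x ∈ V, ∀ y ∈ V, x * y = y * x) {A : Subgroup G} (hA : IsPGroup p A) (hVA : V ≤ A) {x : G}
    (hx : ∀ a ∈ A, ⁅a, x⁆ ∈ V) {m : ℕ} (hm : ¬ p ∣ m) (hxm : ∀ v ∈ V, x ^ m * v = v * x ^ m)
    (hnt : ∃ v ∈ V, x * v ≠ v * x) : ¬ V ≤ ⁅A, A⁆ := by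
  intro hle
  -- the subgroup `[V, A]`
  set D : Subgroup G := ⁅V, A⁆ with hD
  have hDV : D ≤ V := Subgroup.commutator_le_left V A
  have hAD : A ≤ Subgroup.normalizer (D : Set G) := fun a ha =>
    H940.mem_normalizer_commutator (Subgroup.normalizer_eq_top_iff.2 hV ▸ Subgroup.mem_top a)
      (Subgroup.le_normalizer ha)
  have hmemD : ∀ v ∈ V, ∀ a ∈ A, ⁅v, a⁆ ∈ D := fun v hv a ha => Subgroup.commutator_mem_commutator hv ha
  -- `δ` is a homomorphism `A → V / D`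
  have hδ : ∀ a ∈ A, ∀ b ∈ A, ⁅a * b, x⁆ * (⁅a, x⁆ * ⁅b, x⁆)⁻¹ ∈ D := by
    intro a ha b hb
    have h1 : ⁅a * b, x⁆ = a * ⁅b, x⁆ * a⁻¹ * ⁅a, x⁆ := by
      rw [commutatorElement_def, commutatorElement_def, commutatorElement_def]; group
    have h2 : a * ⁅b, x⁆ * a⁻¹ = ⁅⁅b, x⁆, a⁆⁻¹ * ⁅b, x⁆ := by
      rw [commutatorElement_def ⁅b, x⁆ a]; group
    have h3 := D.inv_mem (hmemD _ (hx b hb) a ha)
    rw [h1, h2, hab _ (hx a ha) _ (hx b hb)]
    have h4 : ⁅⁅b, x⁆, a⁆⁻¹ * ⁅b, x⁆ * ⁅a, x⁆ * (⁅b, x⁆ * ⁅a, x⁆)⁻¹ = ⁅⁅b, x⁆, a⁆⁻¹ := by group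
    rw [h4]
    exact h3
  -- hence `[v, x] ∈ D` for `v ∈ [A, A]`
  have hker : ∀ c ∈ ⁅A, A⁆, ⁅c, x⁆ ∈ D := by
    -- quotient of `A` by `D`
    have hDn : (D.subgroupOf A).Normal := by
      refine ⟨fun d hd a => ?_⟩
      rw [Subgroup.mem_subgroupOf] at hd ⊢
      exact (Subgroup.mem_normalizer_iff.1 (hAD a.2) d).1 hd
    let δ : A →* A ⧸ (D.subgroupOf A) :=
      { toFun := fun a => QuotientGroup.mk' (D.subgroupOf A) ⟨⁅(a : G), x⁆, hVA (hx a a.2)⟩
        map_one' := by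
          rw [QuotientGroup.mk'_apply, QuotientGroup.eq_one_iff, Subgroup.mem_subgroupOf]
          simp
        map_mul' := by
          intro a b
          rw [← map_mul]
          apply (QuotientGroup.eq_iff_div_mem).2
          rw [Subgroup.mem_subgroupOf]
          have := hδ a a.2 b b.2
          simpa [div_eq_mul_inv] using this }
    have hcomm : ∀ a b : A, δ a * δ b = δ b * δ a := by
      intro a b
      change QuotientGroup.mk' (D.subgroupOf A) _ * QuotientGroup.mk' (D.subgroupOf A) _ =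
        QuotientGroup.mk' (D.subgroupOf A) _ * QuotientGroup.mk' (D.subgroupOf A) _
      rw [← map_mul, ← map_mul]
      congr 1
      exact Subtype.ext (hab _ (hx a a.2) _ (hx b b.2))
    have hc : commutator A ≤ δ.ker := by
      rw [commutator_def, Subgroup.commutator_le]
      intro a _ b _
      rw [MonoidHom.mem_ker, map_commutatorElement, commutatorElement_eq_one_iff_mul_comm]
      exact hcomm a b
    intro c hc'
    have h4 : (commutator A).map A.subtype = ⁅A, A⁆ := Subgroup.map_subtype_commutator A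
    rw [← h4] at hc'
    obtain ⟨c, hc1, rfl⟩ := hc'
    have h5 := hc hc1
    rw [MonoidHom.mem_ker] at h5
    change QuotientGroup.mk' (D.subgroupOf A) _ = 1 at h5
    rw [QuotientGroup.mk'_apply, QuotientGroup.eq_one_iff, Subgroup.mem_subgroupOf] at h5
    exact h5
  -- `Y = [V, x]`
  let Y : Subgroup G :=
    { carrier := {y | ∃ v ∈ V, ⁅v, x⁆ = y}
      one_mem' := ⟨1, V.one_mem, by simp⟩
      mul_mem' := by
        rintro _ _ ⟨v, hv, rfl⟩ ⟨w, hw, rfl⟩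
        exact ⟨v * w, V.mul_mem hv hw, delta_mul hab x hv hw⟩
      inv_mem' := by
        rintro _ ⟨v, hv, rfl⟩
        refine ⟨v⁻¹, V.inv_mem hv, ?_⟩
        have h1 := delta_mul hab x hv (V.inv_mem hv)
        rw [mul_inv_cancel, commutatorElement_one_left] at h1
        exact (inv_eq_of_mul_eq_one_right h1.symm).symm }
  have hYV : Y ≤ V := by
    rintro _ ⟨v, hv, rfl⟩
    exact hx v (hVA hv)
  have hY1 : Y ≠ ⊥ := by
    intro h
    obtain ⟨v, hv, hne⟩ := hnt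
    apply hne
    have h1 : ⁅v, x⁆ ∈ Y := ⟨v, hv, rfl⟩
    rw [h, Subgroup.mem_bot, commutatorElement_eq_one_iff_mul_comm] at h1
    exact h1.symm
  -- conjugation by `a ∈ A` commutes with `δ` on `V`
  have hconj : ∀ v ∈ V, ∀ a ∈ A, a * ⁅v, x⁆ * a⁻¹ = ⁅a * v * a⁻¹, x⁆ := by
    intro v hv a ha
    have h1 : a * x * a⁻¹ = ⁅a, x⁆ * x := by rw [commutatorElement_def]; group
    have h2 : a * ⁅v, x⁆ * a⁻¹ = ⁅a * v * a⁻¹, a * x * a⁻¹⁆ := by
      rw [commutatorElement_def, commutatorElement_def]; group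
    have hw : a * v * a⁻¹ ∈ V := hV.conj_mem v hv a
    set w := a * v * a⁻¹ with hw'
    rw [h2, h1]
    have h3 := hx a ha
    set c := ⁅a, x⁆ with hc'
    have h4 : x * w⁻¹ * x⁻¹ ∈ V := hV.conj_mem _ (V.inv_mem hw) x
    rw [commutatorElement_def, commutatorElement_def]
    calc w * (c * x) * w⁻¹ * (c * x)⁻¹ = w * (c * (x * w⁻¹ * x⁻¹)) * c⁻¹ := by group
      _ = w * ((x * w⁻¹ * x⁻¹) * c) * c⁻¹ := by rw [hab _ h3 _ h4]
      _ = _ := by group
  have hAY : A ≤ Subgroup.normalizer (Y : Set G) := by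
    have key : ∀ a ∈ A, ∀ y ∈ Y, a * y * a⁻¹ ∈ Y := by
      rintro a ha _ ⟨v, hv, rfl⟩
      exact ⟨a * v * a⁻¹, hV.conj_mem v hv a, (hconj v hv a ha).symm⟩
    intro a ha
    rw [Subgroup.mem_normalizer_iff]
    intro y
    refine ⟨fun hy => key a ha y hy, fun hy => ?_⟩
    have h1 := key a⁻¹ (A.inv_mem ha) _ hy
    have h2 : a⁻¹ * (a * y * a⁻¹) * a⁻¹⁻¹ = y := by group
    rwa [h2] at h1
  have hlt := H940.commutator_lt Y A hA (hYV.trans hVA) hAY hY1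
  -- `δ(D) ≤ [Y, A]`
  have hδD : ∀ d ∈ D, ⁅d, x⁆ ∈ ⁅Y, A⁆ := by
    let E : Subgroup G :=
      { carrier := {d | d ∈ V ∧ ⁅d, x⁆ ∈ ⁅Y, A⁆}
        one_mem' := ⟨V.one_mem, by simp⟩
        mul_mem' := by
          rintro a b ⟨ha, ha'⟩ ⟨hb, hb'⟩
          refine ⟨V.mul_mem ha hb, ?_⟩
          rw [delta_mul hab x ha hb]
          exact Subgroup.mul_mem _ ha' hb'
        inv_mem' := by
          rintro v ⟨hv, hv'⟩
          refine ⟨V.inv_mem hv, ?_⟩
          have h1 := delta_mul hab x hv (V.inv_mem hv)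
          rw [mul_inv_cancel, commutatorElement_one_left] at h1
          have h2 : ⁅v⁻¹, x⁆ = ⁅v, x⁆⁻¹ := (inv_eq_of_mul_eq_one_right h1.symm).symm
          rw [h2]
          exact Subgroup.inv_mem _ hv' }
    have hDE : D ≤ E := by
      rw [hD, Subgroup.commutator_le]
      intro v hv a ha
      refine ⟨hDV (hmemD v hv a ha), ?_⟩
      have h0 : a * v⁻¹ * a⁻¹ ∈ V := hV.conj_mem _ (V.inv_mem hv) a
      have h1 : ⁅v, a⁆ = v * (a * v⁻¹ * a⁻¹) := by rw [commutatorElement_def]; group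
      rw [h1, delta_mul hab x hv h0, ← hconj _ (V.inv_mem hv) a ha]
      have h2 := delta_mul hab x hv (V.inv_mem hv)
      rw [mul_inv_cancel, commutatorElement_one_left] at h2
      have h3 : ⁅v⁻¹, x⁆ = ⁅v, x⁆⁻¹ := (inv_eq_of_mul_eq_one_right h2.symm).symm
      rw [h3]
      have h4 : ⁅v, x⁆ * (a * ⁅v, x⁆⁻¹ * a⁻¹) = ⁅⁅v, x⁆, a⁆ := by
        rw [commutatorElement_def ⁅v, x⁆ a]; group
      rw [h4]
      exact Subgroup.commutator_mem_commutator ⟨v, hv, rfl⟩ ha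
    exact fun d hd => (hDE hd).2
  -- `δ` is injective on `Y`
  have hinj : ∀ y ∈ Y, ⁅y, x⁆ = 1 → y = 1 := by
    rintro _ ⟨v, hv, rfl⟩ h1
    set y := ⁅v, x⁆ with hy
    have hyV : y ∈ V := hx v (hVA hv)
    rw [commutatorElement_eq_one_iff_mul_comm] at h1
    have h2 : ∀ k : ℕ, x ^ k * v * (x ^ k)⁻¹ = (y⁻¹) ^ k * v := by
      intro k
      induction k with
      | zero => simp
      | succ k ih =>
        have h3 : x * v * x⁻¹ = y⁻¹ * v := by rw [hy, commutatorElement_def]; group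
        have h4 : x * y⁻¹ ^ k * x⁻¹ = y⁻¹ ^ k := by
          have h5 : Commute x (y⁻¹ ^ k) := ((show Commute y x from h1).symm.inv_right).pow_right k
          rw [h5.eq, mul_inv_cancel_right]
        calc x ^ (k + 1) * v * (x ^ (k + 1))⁻¹ = x * (x ^ k * v * (x ^ k)⁻¹) * x⁻¹ := by
              rw [pow_succ']; group
          _ = (x * y⁻¹ ^ k * x⁻¹) * (x * v * x⁻¹) := by rw [ih]; group
          _ = y⁻¹ ^ (k + 1) * v := by rw [h4, h3, pow_succ]; group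
    have h3 := h2 m
    rw [hxm v hv, mul_inv_cancel_right] at h3
    have h4 : y⁻¹ ^ m = 1 := by
      have := mul_right_cancel (b := v) (a := 1) (c := y⁻¹ ^ m) (by rw [one_mul]; exact h3)
      exact this.symm
    have h5 : y ^ m = 1 := by rw [inv_pow] at h4; exact inv_eq_one.1 h4
    obtain ⟨k, hk⟩ := hA ⟨y, hVA hyV⟩
    have h6 : y ^ p ^ k = 1 := congrArg Subtype.val hk
    have h7 : orderOf y ∣ p ^ k := orderOf_dvd_of_pow_eq_one h6
    have h8 : orderOf y ∣ m := orderOf_dvd_of_pow_eq_one h5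
    have h9 : Nat.Coprime (p ^ k) m :=
      Nat.Coprime.pow_left _ ((Nat.Prime.coprime_iff_not_dvd Fact.out).2 hm)
    have h10 := Nat.dvd_gcd h7 h8
    rw [h9] at h10
    exact orderOf_eq_one_iff.1 (Nat.dvd_one.1 h10)
  -- `Y ≤ D`
  have hYD : Y ≤ D := by
    rintro _ ⟨v, hv, rfl⟩
    exact hker v (hle hv)
  -- hence `Y ≤ [Y, A]`
  have hYY : Y ≤ ⁅Y, A⁆ := by
    let δY : Y → Y := fun y => ⟨⁅(y : G), x⁆, (y : G), hYV y.2, rfl⟩
    have hδY : Function.Injective δY := by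
      intro a b hab'
      have h1 : ⁅(a : G), x⁆ = ⁅(b : G), x⁆ := congrArg Subtype.val hab'
      have h2 : ⁅((a : G) * (b : G)⁻¹), x⁆ = 1 := by
        have hb' : ((b : G))⁻¹ ∈ V := V.inv_mem (hYV b.2)
        rw [delta_mul hab x (hYV a.2) hb', h1, ← delta_mul hab x (hYV b.2) hb', mul_inv_cancel,
          commutatorElement_one_left]
      have h3 := hinj _ (Y.mul_mem a.2 (Y.inv_mem b.2)) h2
      exact Subtype.ext (mul_inv_eq_one.1 h3)
    have hsurj := Finite.injective_iff_surjective.1 hδY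
    intro y hy
    obtain ⟨z, hz⟩ := hsurj ⟨y, hy⟩
    have h1 : ⁅(z : G), x⁆ = y := congrArg Subtype.val hz
    rw [← h1]
    exact hδD _ (hYD z.2)
  exact absurd hYY (not_le_of_gt hlt)

theorem normalizes_of_between {V Q W : Subgroup G} (h1 : ⁅V, Q⁆ ≤ W) (h2 : W ≤ V) :
    Q ≤ Subgroup.normalizer (W : Set G) :=
  Subgroup.le_normalizer_iff_commutator_le_left.2 ((Subgroup.commutator_mono h2 le_rfl).trans h1)

theorem card_sup_le {D₁ D₂ V : Subgroup G} (hab : ∀ x ∈ V, ∀ y ∈ V, x * y = y * x) (h1 : D₁ ≤ V)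
    (h2 : D₂ ≤ V) (h : D₁ ⊔ D₂ = V) : Nat.card V ≤ Nat.card D₁ * Nat.card D₂ := by
  have hn : D₁ ≤ Subgroup.normalizer (D₂ : Set G) := fun x hx =>
    H940.mem_normalizer_of_commute fun k hk => hab x (h1 hx) k (h2 hk)
  have hs : Function.Surjective (fun p : D₁ × D₂ => (⟨(p.1 : G) * (p.2 : G),
      V.mul_mem (h1 p.1.2) (h2 p.2.2)⟩ : V)) := by
    rintro ⟨v, hv⟩
    rw [← h] at hv
    obtain ⟨a, ha, b, hb, rfl⟩ := H940.exists_mul_of_mem_sup hn hv
    exact ⟨(⟨a, ha⟩, ⟨b, hb⟩), rfl⟩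
  have := Nat.card_le_card_of_surjective _ hs
  rwa [Nat.card_prod] at this

/-- The argument with two opposite subgroups. -/
theorem two_sides {p : ℕ} [Fact p.Prime] {V Q₁ Q₂ M : Subgroup G} [hVn : V.Normal]
    (hab : ∀ x ∈ V, ∀ y ∈ V, x * y = y * x) (hV1 : V ≠ ⊥)
    (hmin : ∀ J : Subgroup G, J.Normal → J ≤ V → J = ⊥ ∨ J = V)
    (hQ1 : IsPGroup p Q₁) (hQ2 : IsPGroup p Q₂) (hVQ1 : V ≤ Q₁) (hVQ2 : V ≤ Q₂)
    (hM1 : M ≤ Subgroup.normalizer (Q₁ : Set G)) (hM2 : M ≤ Subgroup.normalizer (Q₂ : Set G))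
    (hgen : Q₁ ⊔ Q₂ = ⊤) (hnt : ⁅V, Q₁⁆ ≠ ⊥) {B : ℕ}
    (hcount : ∀ D : Subgroup G, D ≤ V → M ≤ Subgroup.normalizer (D : Set G) → ¬ ⁅V, M⁆ ≤ D →
      B * Nat.card D ≤ Nat.card V) : ⁅V, M⁆ < V ∨ B * B ≤ Nat.card V := by
  have hVQ : ∀ Q : Subgroup G, Q ≤ Subgroup.normalizer (V : Set G) := fun Q x _ =>
    Subgroup.normalizer_eq_top_iff.2 hVn ▸ Subgroup.mem_top x
  have h1 := H940.commutator_lt V Q₁ hQ1 hVQ1 (hVQ _) hV1
  have h2 := H940.commutator_lt V Q₂ hQ2 hVQ2 (hVQ _) hV1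
  have hsup : ⁅V, Q₁⁆ ⊔ ⁅V, Q₂⁆ = V := by
    have hle : ⁅V, Q₁⁆ ⊔ ⁅V, Q₂⁆ ≤ V := sup_le h1.le h2.le
    have hn : (⁅V, Q₁⁆ ⊔ ⁅V, Q₂⁆ : Subgroup G).Normal := by
      rw [← Subgroup.normalizer_eq_top_iff, eq_top_iff, ← hgen]
      exact sup_le (normalizes_of_between le_sup_left hle) (normalizes_of_between le_sup_right hle)
    rcases hmin _ hn hle with h | h
    · exfalso
      apply hnt
      rw [eq_bot_iff, ← h]
      exact le_sup_left
    · exact h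
  have hcard := card_sup_le hab h1.le h2.le hsup
  have hn1 : M ≤ Subgroup.normalizer ((⁅V, Q₁⁆ : Subgroup G) : Set G) := fun m hm =>
    H940.mem_normalizer_commutator (hVQ ⊤ (Subgroup.mem_top m)) (hM1 hm)
  have hn2 : M ≤ Subgroup.normalizer ((⁅V, Q₂⁆ : Subgroup G) : Set G) := fun m hm =>
    H940.mem_normalizer_commutator (hVQ ⊤ (Subgroup.mem_top m)) (hM2 hm)
  by_cases hM : ⁅V, M⁆ ≤ ⁅V, Q₁⁆
  · exact Or.inl (lt_of_le_of_lt hM h1)
  by_cases hM' : ⁅V, M⁆ ≤ ⁅V, Q₂⁆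
  · exact Or.inl (lt_of_le_of_lt hM' h2)
  right
  have h3 := hcount _ h1.le hn1 hM
  have h4 := hcount _ h2.le hn2 hM'
  have hpos : 0 < Nat.card V := Nat.card_pos
  have h5 : (B * B) * Nat.card V ≤ Nat.card V * Nat.card V := by
    calc (B * B) * Nat.card V
        ≤ (B * B) * (Nat.card (⁅V, Q₁⁆ : Subgroup G) * Nat.card (⁅V, Q₂⁆ : Subgroup G)) :=
          Nat.mul_le_mul_left _ hcard
      _ = (B * Nat.card (⁅V, Q₁⁆ : Subgroup G)) * (B * Nat.card (⁅V, Q₂⁆ : Subgroup G)) := by ring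
      _ ≤ _ := Nat.mul_le_mul h3 h4
  exact Nat.le_of_mul_le_mul_right h5 hpos

end Cfsg.Agent.H78.CodC
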