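import Mathlib
import Cfsg.Agent.GpLn.Quot
import Cfsg.Agent.Lib.ElemAbGL
import Cfsg.Agent.Lib.Zsigmondy

/-!
# Modules for `SL_m(q)` in the defining characteristic

`le_card` : if `SL_m(q)`, `m ≥ 4`, acts nontrivially on an elementary abelian `p`-group `W` (`q` a power of `p`)
then `q ^ m ≤ |W|`.
-/

set_option autoImplicit false

namespace Cfsg.Agent.H78.CodD

open Cfsg Matrix Cfsg.Agent.Lib.Zsigmondy Cfsg.Agent.SignalizersComponents

universe u v

/-- the order of `MulAut W` -/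
theorem card_mulAut {W : Type v} [Group W] {r : ℕ} [hr : Fact r.Prime]
    (hc : ∀ a b : W, a * b = b * a) (hpow : ∀ a : W, a ^ r = 1) {k : ℕ}
    (hk : Nat.card W = r ^ k) : Nat.card (MulAut W) = ∏ i : Fin k, (r ^ k - r ^ (i : ℕ)) := by
  let _ : CommGroup W := { (inferInstance : Group W) with mul_comm := hc }
  obtain ⟨e⟩ := Lib.ElemAbGL.mulAut_equiv_GL (V := W) r k hpow hk
  rw [Nat.card_congr e.toEquiv, Matrix.card_GL_field, ZMod.card]

theorem exists_card {W : Type v} [Group W] [Finite W] {r : ℕ} [hr : Fact r.Prime]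
    (hpow : ∀ a : W, a ^ r = 1) : ∃ k, Nat.card W = r ^ k := by
  have h : IsPGroup r W := fun w => ⟨1, by rw [pow_one]; exact hpow w⟩
  exact IsPGroup.iff_card.1 h

variable {F : Type u} [Field F] [Fintype F]

/-- a central element of `SL_m(q)` of order prime to `q - 1` is trivial -/
theorem eq_one_of_center {m ℓ : ℕ} (hm : 0 < m) (hℓ : ℓ.Prime) (hℓq : ¬ ℓ ∣ Fintype.card F - 1)
    {y : SpecialLinearGroup (Fin m) F} (hy : y ∈ Subgroup.center (SpecialLinearGroup (Fin m) F))
    (hyl : orderOf y = ℓ) : False := by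
  obtain ⟨c, -, hc⟩ := Matrix.SpecialLinearGroup.mem_center_iff.1 hy
  have : Nonempty (Fin m) := ⟨⟨0, hm⟩⟩
  have hyp : y ^ ℓ = 1 := by rw [← hyl]; exact pow_orderOf_eq_one y
  have h1 : c ^ ℓ = 1 := by
    have h2 : (Matrix.scalar (Fin m)) (c ^ ℓ) = (Matrix.scalar (Fin m)) 1 := by
      rw [map_pow, hc, map_one, ← Matrix.SpecialLinearGroup.coe_pow, hyp]
      rfl
    exact Matrix.scalar_inj.1 h2
  have hc0 : c ≠ 0 := by
    rintro rfl
    rw [zero_pow hℓ.ne_zero] at h1
    exact zero_ne_one h1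
  have h2 : c ^ (Fintype.card F - 1) = 1 := FiniteField.pow_card_sub_one_eq_one c hc0
  have h3 : orderOf c ∣ Nat.gcd ℓ (Fintype.card F - 1) :=
    Nat.dvd_gcd (orderOf_dvd_of_pow_eq_one h1) (orderOf_dvd_of_pow_eq_one h2)
  have h4 : Nat.gcd ℓ (Fintype.card F - 1) = 1 := (Nat.Prime.coprime_iff_not_dvd hℓ).2 hℓq
  rw [h4, Nat.dvd_one, orderOf_eq_one_iff] at h3
  have h5 : y = 1 := by
    apply Subtype.ext
    rw [← hc, h3, map_one]
    rfl
  rw [h5, orderOf_one] at hyl
  exact hℓ.one_lt.ne hyl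

/-- the order of `SL_6(2)` is large -/
theorem card_six (hF : Fintype.card F = 2) : 2 ^ 26 < Nat.card (SpecialLinearGroup (Fin 6) F) := by
  have h := S0242.result (F := F) hF 6 (by norm_num)
  rw [Fin.prod_univ_six] at h
  norm_num at h
  rw [h]
  norm_num

theorem le_card {p f m : ℕ} [hp : Fact p.Prime] (hF : Fintype.card F = p ^ f) (hm : 4 ≤ m)
    {W : Type v} [Group W] [Finite W] (hc : ∀ a b : W, a * b = b * a) (hpow : ∀ a : W, a ^ p = 1)
    (a : SpecialLinearGroup (Fin m) F →* MulAut W) (ha : a.ker ≠ ⊤) : (p ^ f) ^ m ≤ Nat.card W := by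
  classical
  have hf : f ≠ 0 := by
    rintro rfl
    have := Fintype.one_lt_card (α := F)
    rw [hF] at this
    simp at this
  have hq := Components.quasisimple_normal (SLQuasisimple.isQuasisimple_of_three_le (F := F) (ι := Fin m)
    (by rw [Fintype.card_fin]; omega)) a.ker inferInstance
  have hker : a.ker ≤ Subgroup.center (SpecialLinearGroup (Fin m) F) := hq.resolve_left ha
  obtain ⟨k, hk⟩ := exists_card (W := W) hpow
  have hA := card_mulAut hc hpow hk
  rw [hk, ← pow_mul]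
  apply Nat.pow_le_pow_right hp.out.pos
  by_cases h6 : p = 2 ∧ f * m = 6
  · -- `SL_6(2)`
    obtain ⟨rfl, h6⟩ := h6
    have hf1 : f = 1 := by
      by_contra h
      have h2 : 2 ≤ f := by omega
      have : 2 * 4 ≤ f * m := Nat.mul_le_mul h2 hm
      omega
    subst hf1
    rw [one_mul] at h6
    subst h6
    by_contra hlt
    have hk5 : k ≤ 5 := by omega
    have hF2 : Fintype.card F = 2 := by rw [hF]; norm_num
    have hinj : Function.Injective a := by
      rw [← MonoidHom.ker_eq_bot_iff, eq_bot_iff]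
      refine hker.trans ?_
      intro y hy
      obtain ⟨c, hc1, hc2⟩ := Matrix.SpecialLinearGroup.mem_center_iff.1 hy
      have hc0 : c ≠ 0 := by
        rintro rfl
        rw [Fintype.card_fin, zero_pow (by norm_num)] at hc1
        exact zero_ne_one hc1
      have h2 : c ^ (Fintype.card F - 1) = 1 := FiniteField.pow_card_sub_one_eq_one c hc0
      rw [hF2, pow_one] at h2
      rw [Subgroup.mem_bot]
      apply Subtype.ext
      rw [← hc2, h2, map_one]
      rfl
    have hfin : Finite (MulAut W) := inferInstance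
    have h1 := Nat.card_le_card_of_injective a hinj
    have h2 := card_six hF2
    have h3 : ∏ i : Fin k, (2 ^ k - 2 ^ (i : ℕ)) ≤ 2 ^ 25 := by
      calc ∏ i : Fin k, (2 ^ k - 2 ^ (i : ℕ)) ≤ ∏ i : Fin k, 2 ^ k :=
            Finset.prod_le_prod' fun i _ => Nat.sub_le _ _
        _ = (2 ^ k) ^ k := by rw [Finset.prod_const, Finset.card_univ, Fintype.card_fin]
        _ ≤ 2 ^ 25 := by
            rw [← pow_mul]
            exact Nat.pow_le_pow_right (by norm_num) (by nlinarith)
    rw [hA] at h1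
    have h4 : (2 : ℕ) ^ 25 ≤ 2 ^ 26 := Nat.pow_le_pow_right (by norm_num) (by norm_num)
    omega
  · have hfm : 4 ≤ f * m := by nlinarith [Nat.pos_of_ne_zero hf]
    obtain ⟨ℓ, hℓ, hord⟩ := exists_prime_orderOf (a := p) (n := f * m) hp.out.two_le (by omega)
      (by omega) h6
    have hℓp : ℓ ≠ p := by
      rintro rfl
      rw [ZMod.natCast_self, orderOf_eq_zero_iff.2] at hord
      · omega
      · rw [isOfFinOrder_iff_pow_eq_one]
        rintro ⟨n, hn, h1⟩
        have : Fact ℓ.Prime := hp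
        rw [zero_pow (by omega)] at h1
        exact zero_ne_one h1
    have hp1 : 1 ≤ p := hp.out.pos
    have hℓm : ℓ ∣ Fintype.card F ^ m - 1 := by
      rw [hF, ← pow_mul, dvd_pow_sub_one_iff hp1, hord]
    have hℓq : ¬ ℓ ∣ Fintype.card F - 1 := by
      rw [hF, dvd_pow_sub_one_iff hp1, hord]
      intro h
      have := Nat.le_of_dvd (Nat.pos_of_ne_zero hf) h
      nlinarith [Nat.pos_of_ne_zero hf]
    obtain ⟨y, hy⟩ := GpLn.Elem.exists_order (F := F) hℓ (by omega : 0 < m) hℓm hℓq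
    have hyk : a y ≠ 1 := fun h => eq_one_of_center (by omega) hℓ hℓq (hker h) hy
    have hoy : orderOf (a y) = ℓ := by
      have : Fact ℓ.Prime := ⟨hℓ⟩
      refine orderOf_eq_prime ?_ hyk
      rw [← map_pow, ← hy, pow_orderOf_eq_one, map_one]
    have h1 : ℓ ∣ Nat.card (MulAut W) := hoy ▸ orderOf_dvd_natCard (a y)
    rw [hA, (Nat.Prime.prime hℓ).dvd_finset_prod_iff] at h1
    obtain ⟨i, -, hi⟩ := h1
    have hik : (i : ℕ) < k := i.2
    have h2 : p ^ k - p ^ (i : ℕ) = p ^ (i : ℕ) * (p ^ (k - i) - 1) := by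
      rw [Nat.mul_sub, mul_one, ← pow_add, Nat.add_sub_cancel' hik.le]
    rw [h2, hℓ.dvd_mul] at hi
    rcases hi with hi | hi
    · exact absurd ((Nat.prime_dvd_prime_iff_eq hℓ hp.out).1 (hℓ.dvd_of_dvd_pow hi)) hℓp
    · rw [dvd_pow_sub_one_iff hp1, hord] at hi
      have := Nat.le_of_dvd (by omega) hi
      omega

end Cfsg.Agent.H78.CodD
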