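import Mathlib
import Cfsg.Agent.H78.CodC
import Cfsg.Agent.H78.CodD
import Cfsg.Agent.H487.SchurPerfect

/-!
# The subgroup `M` with `M / V = SL_m(q)`

* `not_le_of_trivial` : if `M/V` is perfect with trivial Schur multiplier and `[V, M] < V` then `V` is not contained
  in the derived subgroup of `M`;
* `count` : if `M/V = SL_m(q)` acts nontrivially on `V/D` then `q ^ m |D| ≤ |V|`.
-/

set_option autoImplicit false
set_option linter.unusedSectionVars false

namespace Cfsg.Agent.H78.CodE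

open Cfsg Matrix
open scoped commutatorElement

universe u v

variable {G : Type u} [Group G] [Finite G]

theorem not_le_of_trivial {V M : Subgroup G} [hV : V.Normal] {P : Type v} [Group P] [Finite P]
    (hP : Group.IsPerfect P) (hM : Cfsg.HasCyclicSchurMultiplier P 1) (π : M →* P)
    (hπ : Function.Surjective π) (hVM : V ≤ M) (hker : ∀ g : M, π g = 1 ↔ (g : G) ∈ V)
    (h : ⁅V, M⁆ < V) : ¬ V ≤ ⁅M, M⁆ := by
  intro hle
  set D : Subgroup G := ⁅V, M⁆ with hD
  have hMD : M ≤ Subgroup.normalizer (D : Set G) := fun m hm =>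
    H940.mem_normalizer_commutator (Subgroup.normalizer_eq_top_iff.2 hV ▸ Subgroup.mem_top m)
      (Subgroup.le_normalizer hm)
  have hDn : (D.subgroupOf M).Normal := by
    refine ⟨fun d hd a => ?_⟩
    rw [Subgroup.mem_subgroupOf] at hd ⊢
    exact (Subgroup.mem_normalizer_iff.1 (hMD a.2) d).1 hd
  let ξ : M ⧸ D.subgroupOf M →* P := QuotientGroup.lift (D.subgroupOf M) π (by
    intro x hx
    rw [Subgroup.mem_subgroupOf] at hx
    exact (hker x).2 (h.le hx))
  have hξ : ∀ g : M, ξ (QuotientGroup.mk' (D.subgroupOf M) g) = π g := fun g => rfl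
  have hξs : Function.Surjective ξ := by
    intro y
    obtain ⟨g, rfl⟩ := hπ y
    exact ⟨_, hξ g⟩
  have hξc : ξ.ker ≤ Subgroup.center (M ⧸ D.subgroupOf M) := by
    intro x hx
    obtain ⟨g, rfl⟩ := QuotientGroup.mk'_surjective _ x
    rw [MonoidHom.mem_ker, hξ, hker] at hx
    rw [Subgroup.mem_center_iff]
    intro y
    obtain ⟨k, rfl⟩ := QuotientGroup.mk'_surjective _ y
    rw [← map_mul, ← map_mul, QuotientGroup.mk'_apply, QuotientGroup.mk'_apply, QuotientGroup.eq,
      Subgroup.mem_subgroupOf]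
    have h1 : ⁅((g : G))⁻¹, ((k : G))⁻¹⁆ ∈ D :=
      Subgroup.commutator_mem_commutator (V.inv_mem hx) (M.inv_mem k.2)
    rw [commutatorElement_def] at h1
    simpa [mul_assoc] using h1
  obtain ⟨η, hη⟩ := H487.exists_lift_of_trivial hP hM (MonoidHom.id P) hξs hξc
  have hcomm : commutator (M ⧸ D.subgroupOf M) ≤ η.range := by
    rw [commutator_def, Subgroup.commutator_le]
    have key : ∀ e : M ⧸ D.subgroupOf M, ∃ z ∈ Subgroup.center (M ⧸ D.subgroupOf M), e = z * η (ξ e) := by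
      intro e
      refine ⟨e * (η (ξ e))⁻¹, hξc ?_, by rw [inv_mul_cancel_right]⟩
      rw [MonoidHom.mem_ker, map_mul, map_inv]
      have h1 : ξ (η (ξ e)) = ξ e := DFunLike.congr_fun hη (ξ e)
      rw [h1, mul_inv_cancel]
    intro a _ b _
    obtain ⟨z, hz, ha⟩ := key a
    obtain ⟨w, hw, hb⟩ := key b
    have h1 : ⁅a, b⁆ = ⁅η (ξ a), η (ξ b)⁆ := by
      set a' := η (ξ a)
      set b' := η (ξ b)
      rw [ha, hb, commutatorElement_def, commutatorElement_def]
      have hz' := Subgroup.mem_center_iff.1 hz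
      have hw' := Subgroup.mem_center_iff.1 hw
      calc z * a' * (w * b') * (z * a')⁻¹ * (w * b')⁻¹
          = z * (a' * w) * b' * a'⁻¹ * z⁻¹ * b'⁻¹ * w⁻¹ := by group
        _ = z * (w * a') * b' * a'⁻¹ * z⁻¹ * b'⁻¹ * w⁻¹ := by rw [hw' a']
        _ = z * (w * (a' * b' * a'⁻¹)) * z⁻¹ * b'⁻¹ * w⁻¹ := by group
        _ = (w * (a' * b' * a'⁻¹)) * z * z⁻¹ * b'⁻¹ * w⁻¹ := by rw [hz' (w * (a' * b' * a'⁻¹))]
        _ = w * (a' * b' * a'⁻¹ * b'⁻¹) * w⁻¹ := by group
        _ = (a' * b' * a'⁻¹ * b'⁻¹) * w * w⁻¹ := by rw [hw' (a' * b' * a'⁻¹ * b'⁻¹)]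
        _ = _ := by group
    rw [h1, ← map_commutatorElement]
    exact ⟨_, rfl⟩
  obtain ⟨v, hv, hvD⟩ := SetLike.exists_of_lt h
  have h4 : (commutator M).map M.subtype = ⁅M, M⁆ := Subgroup.map_subtype_commutator M
  have h5 := hle hv
  rw [← h4] at h5
  obtain ⟨w, hw, hwv⟩ := h5
  have h6 : QuotientGroup.mk' (D.subgroupOf M) w ∈ commutator (M ⧸ D.subgroupOf M) := by
    have h7 : (commutator M).map (QuotientGroup.mk' (D.subgroupOf M)) ≤ commutator (M ⧸ D.subgroupOf M) := by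
      rw [commutator_def, Subgroup.map_commutator, commutator_def]
      exact Subgroup.commutator_mono le_top le_top
    exact h7 ⟨w, hw, rfl⟩
  obtain ⟨x, hx⟩ := hcomm h6
  have h7 : ξ (η x) = x := DFunLike.congr_fun hη x
  have hwv' : (w : G) = v := hwv
  have h8 : π w = 1 := (hker w).2 (by rw [hwv']; exact hv)
  rw [hx, hξ, h8] at h7
  rw [← h7, map_one] at hx
  have h9 : w ∈ D.subgroupOf M := (QuotientGroup.eq_one_iff w).1 hx.symm
  rw [Subgroup.mem_subgroupOf, hwv'] at h9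
  exact hvD h9

/-- the action of a subgroup on a section -/
theorem exists_act {V D M : Subgroup G} [hV : V.Normal] (hab : ∀ x ∈ V, ∀ y ∈ V, x * y = y * x)
    (hDV : D ≤ V) (hMD : M ≤ Subgroup.normalizer (D : Set G)) [hDn : (D.subgroupOf V).Normal] :
    ∃ α : M →* MulAut (V ⧸ D.subgroupOf V), ∀ g : M, ∀ v : V,
      α g (QuotientGroup.mk' (D.subgroupOf V) v) =
        QuotientGroup.mk' (D.subgroupOf V) (MulAut.conjNormal (g : G) v) := by
  have hmap : ∀ g : M, (D.subgroupOf V).map ((MulAut.conjNormal (g : G) : MulAut V) : V →* V) = D.subgroupOf V := by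
    intro g
    ext v
    rw [Subgroup.mem_map, Subgroup.mem_subgroupOf]
    constructor
    · rintro ⟨w, hw, rfl⟩
      rw [Subgroup.mem_subgroupOf] at hw
      change ((MulAut.conjNormal (g : G) w : V) : G) ∈ D
      rw [MulAut.conjNormal_apply]
      exact (Subgroup.mem_normalizer_iff.1 (hMD g.2) _).1 hw
    · intro hv
      refine ⟨MulAut.conjNormal ((g : G)⁻¹) v, ?_, ?_⟩
      · rw [Subgroup.mem_subgroupOf, MulAut.conjNormal_apply, inv_inv]
        have h1 : (g : G) * ((g : G)⁻¹ * v * g) * (g : G)⁻¹ ∈ D := by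
          have : (g : G) * ((g : G)⁻¹ * v * g) * (g : G)⁻¹ = v := by group
          rwa [this]
        exact (Subgroup.mem_normalizer_iff.1 (hMD g.2) _).2 h1
      · apply Subtype.ext
        change ((MulAut.conjNormal (g : G) (MulAut.conjNormal ((g : G)⁻¹) v) : V) : G) = v
        rw [MulAut.conjNormal_apply, MulAut.conjNormal_apply]
        group
  refine ⟨MonoidHom.mk' (fun g => QuotientGroup.congr (D.subgroupOf V) (D.subgroupOf V)
    (MulAut.conjNormal (g : G)) (hmap g)) ?_, fun g v => rfl⟩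
  intro a b
  ext x
  obtain ⟨v, rfl⟩ := QuotientGroup.mk'_surjective _ x
  change QuotientGroup.mk' (D.subgroupOf V) (MulAut.conjNormal ((a * b : M) : G) v) =
    QuotientGroup.mk' (D.subgroupOf V) (MulAut.conjNormal (a : G) (MulAut.conjNormal (b : G) v))
  rw [Subgroup.coe_mul, map_mul, MulAut.mul_apply]

variable {F : Type v} [Field F] [Fintype F]

theorem count {p f m : ℕ} [hp : Fact p.Prime] (hF : Fintype.card F = p ^ f) (hm : 4 ≤ m)
    {V M : Subgroup G} [hV : V.Normal] (hab : ∀ x ∈ V, ∀ y ∈ V, x * y = y * x)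
    (hexp : ∀ x ∈ V, x ^ p = 1) (π : M →* SpecialLinearGroup (Fin m) F)
    (hπ : Function.Surjective π) (hker : ∀ g : M, π g = 1 → (g : G) ∈ V)
    (D : Subgroup G) (hDV : D ≤ V) (hMD : M ≤ Subgroup.normalizer (D : Set G)) (hnt : ¬ ⁅V, M⁆ ≤ D) :
    (p ^ f) ^ m * Nat.card D ≤ Nat.card V := by
  have hDn : (D.subgroupOf V).Normal := by
    refine ⟨fun d hd a => ?_⟩
    rw [Subgroup.mem_subgroupOf] at hd ⊢
    have h1 : ((a * d * a⁻¹ : V) : G) = d := by
      rw [Subgroup.coe_mul, Subgroup.coe_mul, hab _ a.2 _ d.2, Subgroup.coe_inv, mul_inv_cancel_right]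
    rwa [h1]
  obtain ⟨α, hα⟩ := exists_act (M := M) hab hDV hMD
  have hle : π.ker ≤ α.ker := by
    intro g hg
    rw [MonoidHom.mem_ker] at hg ⊢
    ext x
    obtain ⟨v, rfl⟩ := QuotientGroup.mk'_surjective _ x
    rw [hα, MulAut.one_apply]
    congr 1
    apply Subtype.ext
    rw [MulAut.conjNormal_apply, hab _ (hker g hg) _ v.2, mul_inv_cancel_right]
  let a : SpecialLinearGroup (Fin m) F →* MulAut (V ⧸ D.subgroupOf V) :=
    MonoidHom.liftOfSurjective π hπ ⟨α, hle⟩
  have ha : ∀ g : M, a (π g) = α g := fun g =>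
    MonoidHom.liftOfRightInverse_comp_apply _ _ _ ⟨α, hle⟩ g
  have hne : a.ker ≠ ⊤ := by
    intro h
    apply hnt
    rw [Subgroup.commutator_le]
    intro v hv g hg
    have h1 : α ⟨g, hg⟩ = 1 := by
      rw [← ha]
      have : π ⟨g, hg⟩ ∈ a.ker := by rw [h]; trivial
      exact this
    have h2 := hα ⟨g, hg⟩ ⟨v, hv⟩⁻¹
    rw [h1, MulAut.one_apply, QuotientGroup.mk'_apply, QuotientGroup.mk'_apply, QuotientGroup.eq,
      Subgroup.mem_subgroupOf] at h2
    have h3 : (((⟨v, hv⟩⁻¹ : V)⁻¹ * (MulAut.conjNormal g (⟨v, hv⟩⁻¹ : V) : V) : V) : G) = ⁅v, g⁆ := by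
      rw [Subgroup.coe_mul, MulAut.conjNormal_apply, inv_inv, commutatorElement_def]
      simp [mul_assoc]
    rwa [h3] at h2
  have hW := CodD.le_card hF hm (W := V ⧸ D.subgroupOf V) (by
      intro x y
      obtain ⟨v, rfl⟩ := QuotientGroup.mk'_surjective _ x
      obtain ⟨w, rfl⟩ := QuotientGroup.mk'_surjective _ y
      rw [← map_mul, ← map_mul]
      congr 1
      exact Subtype.ext (hab _ v.2 _ w.2)) (by
      intro x
      obtain ⟨v, rfl⟩ := QuotientGroup.mk'_surjective _ x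
      rw [← map_pow]
      have h1 : v ^ p = 1 := Subtype.ext (hexp _ v.2)
      rw [h1, map_one]) a hne
  have h1 := Subgroup.card_eq_card_quotient_mul_card_subgroup (D.subgroupOf V)
  rw [Nat.card_congr (Subgroup.subgroupOfEquivOfLe hDV).toEquiv] at h1
  rw [h1]
  exact Nat.mul_le_mul_right _ hW

end Cfsg.Agent.H78.CodE
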