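import Mathlib
import Cfsg.Agent.GpLn.Quot
import Cfsg.Agent.LieClassical.SLGen

/-!
# Opposite unipotent subgroups of `SL_{m+1}(q)` normalized by `SL_m(q)`, and the order of `SL_n(q)`
-/

set_option autoImplicit false

namespace Cfsg.Agent.H78.CodF

open Cfsg Matrix Cfsg.Agent.GpLn.Block
open scoped commutatorElement

universe u v

section

variable {F : Type v} [Field F] {m : ℕ}

/-- the upper unipotent subgroup -/
def up : Multiplicative (Matrix (Fin 1) (Fin m) F) →* SpecialLinearGroup (Fin 1 ⊕ Fin m) F where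
  toFun u := ⟨fromBlocks 1 u.toAdd 0 1, by rw [det_fromBlocks_zero₂₁]; simp⟩
  map_one' := by
    apply Subtype.ext
    change fromBlocks 1 0 0 1 = (1 : Matrix (Fin 1 ⊕ Fin m) (Fin 1 ⊕ Fin m) F)
    exact fromBlocks_one
  map_mul' a b := by
    apply Subtype.ext
    change fromBlocks 1 (a * b).toAdd 0 1 = fromBlocks 1 a.toAdd 0 1 * fromBlocks 1 b.toAdd 0 1
    rw [fromBlocks_multiply]
    simp [add_comm]

/-- the lower unipotent subgroup -/
def dn : Multiplicative (Matrix (Fin m) (Fin 1) F) →* SpecialLinearGroup (Fin 1 ⊕ Fin m) F where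
  toFun u := ⟨fromBlocks 1 0 u.toAdd 1, by rw [det_fromBlocks_zero₁₂]; simp⟩
  map_one' := by
    apply Subtype.ext
    change fromBlocks 1 0 0 1 = (1 : Matrix (Fin 1 ⊕ Fin m) (Fin 1 ⊕ Fin m) F)
    exact fromBlocks_one
  map_mul' a b := by
    apply Subtype.ext
    change fromBlocks 1 0 (a * b).toAdd 1 = fromBlocks 1 0 a.toAdd 1 * fromBlocks 1 0 b.toAdd 1
    rw [fromBlocks_multiply]
    simp [add_comm]

theorem coe_up (u : Multiplicative (Matrix (Fin 1) (Fin m) F)) :
    ((up u : SpecialLinearGroup (Fin 1 ⊕ Fin m) F) : Matrix (Fin 1 ⊕ Fin m) (Fin 1 ⊕ Fin m) F) =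
      fromBlocks 1 u.toAdd 0 1 := rfl

theorem coe_dn (u : Multiplicative (Matrix (Fin m) (Fin 1) F)) :
    ((dn u : SpecialLinearGroup (Fin 1 ⊕ Fin m) F) : Matrix (Fin 1 ⊕ Fin m) (Fin 1 ⊕ Fin m) F) =
      fromBlocks 1 0 u.toAdd 1 := rfl

theorem low_up (D : SpecialLinearGroup (Fin m) F) (u : Multiplicative (Matrix (Fin 1) (Fin m) F)) :
    low (Fin 1) D * up u = up (Multiplicative.ofAdd (u.toAdd * ((D⁻¹ : SpecialLinearGroup (Fin m) F) :
      Matrix (Fin m) (Fin m) F))) * low (Fin 1) D := by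
  refine ext' ?_
  rw [Matrix.SpecialLinearGroup.coe_mul, Matrix.SpecialLinearGroup.coe_mul, coe_low, coe_up, coe_up,
    fromBlocks_multiply, fromBlocks_multiply]
  have h : ((D⁻¹ : SpecialLinearGroup (Fin m) F) : Matrix (Fin m) (Fin m) F) * (D : Matrix (Fin m) (Fin m) F) = 1 :=
    congrArg Subtype.val (inv_mul_cancel D)
  have h2 : u.toAdd * ((D⁻¹ : SpecialLinearGroup (Fin m) F) : Matrix (Fin m) (Fin m) F) *
      (D : Matrix (Fin m) (Fin m) F) = u.toAdd := by rw [Matrix.mul_assoc, h, Matrix.mul_one]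
  simp only [toAdd_ofAdd, Matrix.one_mul, Matrix.mul_zero, Matrix.zero_mul, add_zero, zero_add, Matrix.mul_one, h2]

theorem low_dn (D : SpecialLinearGroup (Fin m) F) (u : Multiplicative (Matrix (Fin m) (Fin 1) F)) :
    low (Fin 1) D * dn u = dn (Multiplicative.ofAdd ((D : Matrix (Fin m) (Fin m) F) * u.toAdd)) * low (Fin 1) D := by
  refine ext' ?_
  rw [Matrix.SpecialLinearGroup.coe_mul, Matrix.SpecialLinearGroup.coe_mul, coe_low, coe_dn, coe_dn,
    fromBlocks_multiply, fromBlocks_multiply]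
  simp

theorem transvection_up (c : F) (j : Fin m) (h : (Sum.inl 0 : Fin 1 ⊕ Fin m) ≠ Sum.inr j) :
    SpecialLinearGroup.transvection h c =
      up (Multiplicative.ofAdd (Matrix.single (0 : Fin 1) j c)) := by
  apply Subtype.ext
  rw [coe_up]
  change Matrix.transvection (Sum.inl 0) (Sum.inr j) c = _
  rw [Matrix.transvection]
  ext a b
  rcases a with a | a <;> rcases b with b | b <;>
    simp [Matrix.single, Matrix.one_apply, Matrix.of_apply]

theorem transvection_dn (c : F) (j : Fin m) (h : (Sum.inr j : Fin 1 ⊕ Fin m) ≠ Sum.inl 0) :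
    SpecialLinearGroup.transvection h c =
      dn (Multiplicative.ofAdd (Matrix.single j (0 : Fin 1) c)) := by
  apply Subtype.ext
  rw [coe_dn]
  change Matrix.transvection (Sum.inr j) (Sum.inl 0) c = _
  rw [Matrix.transvection]
  ext a b
  rcases a with a | a <;> rcases b with b | b <;>
    simp [Matrix.single, Matrix.one_apply, Matrix.of_apply]

/-- the two opposite unipotent subgroups generate `SL` -/
theorem sup_eq_top : (up (F := F) (m := m)).range ⊔ (dn (F := F) (m := m)).range = ⊤ := by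
  rw [eq_top_iff, ← LieClassical.SLGen.closure_transvections, Subgroup.closure_le]
  rintro _ ⟨i, j, h, c, rfl⟩
  have hup : ∀ (c : F) (j : Fin m) (h : (Sum.inl 0 : Fin 1 ⊕ Fin m) ≠ Sum.inr j),
      SpecialLinearGroup.transvection h c ∈
        ((up (F := F) (m := m)).range ⊔ (dn (F := F) (m := m)).range : Subgroup _) := by
    intro c j h
    rw [transvection_up]
    exact Subgroup.mem_sup_left ⟨_, rfl⟩
  have hdn : ∀ (c : F) (j : Fin m) (h : (Sum.inr j : Fin 1 ⊕ Fin m) ≠ Sum.inl 0),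
      SpecialLinearGroup.transvection h c ∈
        ((up (F := F) (m := m)).range ⊔ (dn (F := F) (m := m)).range : Subgroup _) := by
    intro c j h
    rw [transvection_dn]
    exact Subgroup.mem_sup_right ⟨_, rfl⟩
  rcases i with i | i <;> rcases j with j | j
  · exact absurd (congrArg Sum.inl (Subsingleton.elim i j)) h
  · obtain rfl := Subsingleton.elim i 0
    exact hup c j h
  · obtain rfl := Subsingleton.elim j 0
    exact hdn c i h
  · have h1 : (Sum.inr i : Fin 1 ⊕ Fin m) ≠ Sum.inl 0 := by simp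
    have h2 : (Sum.inl 0 : Fin 1 ⊕ Fin m) ≠ Sum.inr j := by simp
    have h3 := LieClassical.SLGen.commutator_transvection (F := F) h h1 h2 c 1
    rw [mul_one] at h3
    rw [← h3, commutatorElement_def]
    exact Subgroup.mul_mem _ (Subgroup.mul_mem _ (Subgroup.mul_mem _ (hdn c i h1) (hup 1 j h2))
      (Subgroup.inv_mem _ (hdn c i h1))) (Subgroup.inv_mem _ (hup 1 j h2))

/-- the unipotent subgroups are `p`-groups -/
theorem isPGroup_mul {p : ℕ} [CharP F p] {a b : Type} [Fintype a] [Fintype b] :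
    IsPGroup p (Multiplicative (Matrix a b F)) := by
  intro u
  refine ⟨1, ?_⟩
  rw [pow_one]
  change Multiplicative.ofAdd (p • u.toAdd) = 1
  have h : p • u.toAdd = 0 := by
    ext i j
    simp
  rw [h]
  rfl

/-- a nontrivial upper unipotent element is not central -/
theorem up_center {u : Multiplicative (Matrix (Fin 1) (Fin m) F)}
    (h : up u ∈ Subgroup.center (SpecialLinearGroup (Fin 1 ⊕ Fin m) F)) : u = 1 := by
  obtain ⟨c, -, hc⟩ := Matrix.SpecialLinearGroup.mem_center_iff.1 h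
  rw [coe_up] at hc
  change u.toAdd = 0
  ext i j
  have h2 := congrFun (congrFun hc (Sum.inl i)) (Sum.inr j)
  simpa using h2.symm

end

section card

variable {F : Type v} [Field F] [Fintype F]

theorem prod_gl {q : ℕ} (n : ℕ) :
    ∏ i : Fin n, (q ^ n - q ^ (i : ℕ)) = q ^ (n * (n - 1) / 2) * ∏ i ∈ Finset.range n, (q ^ (i + 1) - 1) := by
  rw [Fin.prod_univ_eq_prod_range (fun i => q ^ n - q ^ i) n]
  have h1 : ∀ i ∈ Finset.range n, q ^ n - q ^ i = q ^ i * (q ^ (n - i) - 1) := by
    intro i hi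
    rw [Finset.mem_range] at hi
    rw [Nat.mul_sub, mul_one, ← pow_add, Nat.add_sub_cancel' hi.le]
  rw [Finset.prod_congr rfl h1, Finset.prod_mul_distrib, Finset.prod_pow_eq_pow_sum, Finset.sum_range_id]
  congr 1
  rw [← Finset.prod_range_reflect]
  apply Finset.prod_congr rfl
  intro i hi
  rw [Finset.mem_range] at hi
  congr 2
  omega

theorem not_dvd_pow_sub {p f k : ℕ} (hp : p.Prime) (hf : f ≠ 0) (hk : k ≠ 0) : ¬ p ∣ (p ^ f) ^ k - 1 := by
  intro h
  have h1 : p ∣ (p ^ f) ^ k := by rw [← pow_mul]; exact dvd_pow_self p (Nat.mul_ne_zero hf hk)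
  have h2 : 1 ≤ (p ^ f) ^ k := Nat.one_le_pow _ _ (pow_pos hp.pos _)
  have h3 : p ∣ (p ^ f) ^ k - ((p ^ f) ^ k - 1) := Nat.dvd_sub h1 h
  rw [Nat.sub_sub_self h2] at h3
  exact hp.one_lt.ne' (Nat.dvd_one.1 h3)

theorem exp_ne_zero {p f : ℕ} (hF : Fintype.card F = p ^ f) : f ≠ 0 := by
  rintro rfl
  have := Fintype.one_lt_card (α := F)
  rw [hF] at this
  simp at this

/-- the power of `p` dividing the order of `SL_n(q)` -/
theorem fact_SL {p f n : ℕ} (hp : p.Prime) (hF : Fintype.card F = p ^ f) (hn : 1 ≤ n) :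
    (Nat.card (SpecialLinearGroup (Fin n) F)).factorization p = f * (n * (n - 1) / 2) := by
  have hf := exp_ne_zero hF
  have h := S0242.result (F := F) hF n hn
  rw [prod_gl] at h
  have hq1 : p ^ f - 1 ≠ 0 := by
    have := Nat.one_lt_pow hf hp.one_lt
    omega
  have hP : ∏ i ∈ Finset.range n, ((p ^ f) ^ (i + 1) - 1) ≠ 0 := by
    rw [Finset.prod_ne_zero_iff]
    intro i _
    have : 1 < (p ^ f) ^ (i + 1) := Nat.one_lt_pow (by omega) (Nat.one_lt_pow hf hp.one_lt)
    omega
  have h1 := congrArg (fun x : ℕ => x.factorization p) h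
  rw [Nat.factorization_mul hq1 Nat.card_pos.ne',
    Nat.factorization_mul (pow_ne_zero _ (pow_ne_zero _ hp.ne_zero)) hP, Finsupp.add_apply, Finsupp.add_apply,
    ← pow_mul, hp.factorization_pow, Finsupp.single_eq_same] at h1
  have h2 : (p ^ f - 1).factorization p = 0 := by
    have := not_dvd_pow_sub hp hf one_ne_zero
    rw [pow_one] at this
    exact Nat.factorization_eq_zero_of_not_dvd this
  have h3 : (∏ i ∈ Finset.range n, ((p ^ f) ^ (i + 1) - 1)).factorization p = 0 := by
    apply Nat.factorization_eq_zero_of_not_dvd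
    rw [hp.prime.dvd_finsetProd_iff]
    rintro ⟨i, -, hi⟩
    exact not_dvd_pow_sub hp hf (by omega) hi
  rw [h2, h3, zero_add, add_zero] at h1
  exact h1

end card

end Cfsg.Agent.H78.CodF
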