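import Mathlib
import Cfsg.Agent.H78.CodE
import Cfsg.Agent.H78.CodF
import Cfsg.Agent.H60.MultA

/-!
# The defining characteristic: `V` an elementary abelian `p`-group, `G/V = L_n(q)`, `q` a power of `p`
-/

set_option autoImplicit false
set_option linter.unusedSectionVars false

namespace Cfsg.Agent.H78.CodG

open Cfsg Matrix Cfsg.Agent.GpLn.Block
open scoped commutatorElement

universe u v w

variable {G : Type u} [Group G] [Finite G] {V : Subgroup G} [hVn : V.Normal] {X : Type v} [Group X]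

/-- the preimage in `G` of the image of a subgroup -/
def hat (s : X →* G ⧸ V) (A : Subgroup X) : Subgroup G := (A.map s).comap (QuotientGroup.mk' V)

theorem mem_hat {s : X →* G ⧸ V} {A : Subgroup X} {g : G} : g ∈ hat s A ↔ ∃ a ∈ A, s a = (g : G ⧸ V) :=
  Iff.rfl

theorem le_hat (s : X →* G ⧸ V) (A : Subgroup X) : V ≤ hat s A := by
  intro v hv
  rw [mem_hat]
  exact ⟨1, A.one_mem, by rw [map_one]; exact ((QuotientGroup.eq_one_iff v).2 hv).symm⟩

theorem index_hat (s : X →* G ⧸ V) (A : Subgroup X) : (hat s A).index = (A.map s).index :=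
  Subgroup.index_comap_of_surjective _ (QuotientGroup.mk'_surjective V)

theorem hat_pgroup {p : ℕ} (hV : IsPGroup p V) (s : X →* G ⧸ V) {A : Subgroup X} (hA : IsPGroup p A) :
    IsPGroup p (hat s A) :=
  IsPGroup.comap_of_ker_isPGroup (hA.map s) _ (by rw [QuotientGroup.ker_mk']; exact hV)

theorem hat_normalizes (s : X →* G ⧸ V) {A B : Subgroup X} (h : ∀ b ∈ B, ∀ a ∈ A, b * a * b⁻¹ ∈ A) :
    hat s B ≤ Subgroup.normalizer (hat s A : Set G) := by
  have key : ∀ g ∈ hat s B, ∀ x ∈ hat s A, g * x * g⁻¹ ∈ hat s A := by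
    intro g hg x hx
    obtain ⟨b, hb, hbg⟩ := mem_hat.1 hg
    obtain ⟨a, ha, hax⟩ := mem_hat.1 hx
    rw [mem_hat]
    refine ⟨b * a * b⁻¹, h b hb a ha, ?_⟩
    rw [map_mul, map_mul, map_inv, hbg, hax]
    rfl
  intro g hg
  rw [Subgroup.mem_normalizer_iff]
  intro x
  refine ⟨fun hx => key g hg x hx, fun hx => ?_⟩
  have h1 := key g⁻¹ ((hat s B).inv_mem hg) _ hx
  have h2 : g⁻¹ * (g * x * g⁻¹) * g⁻¹⁻¹ = x := by group
  rwa [h2] at h1

theorem hat_sup {s : X →* G ⧸ V} (hs : Function.Surjective s) {A B : Subgroup X} (h : A ⊔ B = ⊤) :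
    hat s A ⊔ hat s B = ⊤ := by
  have h1 : (hat s A ⊔ hat s B).map (QuotientGroup.mk' V) = ⊤ := by
    rw [Subgroup.map_sup, hat, hat, Subgroup.map_comap_eq_self_of_surjective (QuotientGroup.mk'_surjective V),
      Subgroup.map_comap_eq_self_of_surjective (QuotientGroup.mk'_surjective V), ← Subgroup.map_sup, h,
      ← MonoidHom.range_eq_map, MonoidHom.range_eq_top.2 hs]
  have h2 := Subgroup.comap_map_eq (QuotientGroup.mk' V) (hat s A ⊔ hat s B)
  rw [h1, Subgroup.comap_top, QuotientGroup.ker_mk'] at h2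
  rw [h2]
  exact le_antisymm le_sup_left (sup_le le_rfl ((le_hat s A).trans le_sup_left))

/-- the numerical consequence of `|V|` dividing the index -/
theorem fact_le {p : ℕ} (hp : p.Prime) (s : X →* G ⧸ V) (hs : Function.Surjective s) [Finite X] {c : ℕ}
    (hc : Nat.card V = p ^ c) {A : Subgroup X} (hinj : Function.Injective (s.comp A.subtype))
    (h : Nat.card V ∣ (hat s A).index) :
    c + (Nat.card A).factorization p ≤ (Nat.card X).factorization p := by
  have hA : Nat.card (A.map s) = Nat.card A := by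
    have h1 : (s.comp A.subtype).range = A.map s := by rw [MonoidHom.range_comp, Subgroup.range_subtype]
    rw [← h1]
    exact (Nat.card_congr (MonoidHom.ofInjective hinj).toEquiv).symm
  rw [index_hat] at h
  have h1 : Nat.card V * Nat.card A ∣ Nat.card (G ⧸ V) := by
    rw [← hA, ← Subgroup.card_mul_index (A.map s), mul_comm]
    exact Nat.mul_dvd_mul_left _ h
  have h2 : Nat.card (G ⧸ V) ∣ Nat.card X := Subgroup.card_dvd_of_surjective s hs
  have h3 := (Nat.factorization_le_iff_dvd (Nat.mul_ne_zero Nat.card_pos.ne' Nat.card_pos.ne')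
    Nat.card_pos.ne').2 (h1.trans h2) p
  rw [Nat.factorization_mul Nat.card_pos.ne' Nat.card_pos.ne', Finsupp.add_apply, hc,
    hp.factorization_pow, Finsupp.single_eq_same] at h3
  exact h3

theorem card_SL_eq {F : Type w} [Field F] [Fintype F] {ι : Type} [Fintype ι] [DecidableEq ι] {n : ℕ}
    (h : Fintype.card ι = n) : Nat.card (SpecialLinearGroup ι F) = Nat.card (SpecialLinearGroup (Fin n) F) :=
  Nat.card_congr (GpLn.Elem.slReindex (Fintype.equivFinOfCardEq h)).toEquiv

theorem SLQuasisimple_ne {F : Type w} [Field F] [Fintype F] {n : ℕ} (hn : 3 ≤ n) :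
    Subgroup.center (SpecialLinearGroup (Fin n) F) ≠ ⊤ := by
  intro h
  have hq := Cfsg.Agent.SignalizersComponents.SLQuasisimple.isQuasisimple_of_three_le (F := F) (ι := Fin n)
    (by rw [Fintype.card_fin]; omega)
  have h1 := hq.2
  have h2 : Nontrivial (SpecialLinearGroup (Fin n) F ⧸ Subgroup.center (SpecialLinearGroup (Fin n) F)) := h1.toNontrivial
  exact (QuotientGroup.nontrivial_iff.1 h2) h

theorem charP_of_card {F : Type w} [Field F] [Fintype F] {p f : ℕ} (hp : p.Prime) (hF : Fintype.card F = p ^ f) :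
    CharP F p := by
  have := Fact.mk hp
  have hf := CodF.exp_ne_zero hF
  obtain ⟨n, hr, hn⟩ := FiniteField.card F (ringChar F)
  have h1 : ringChar F ∣ p ^ f := by
    rw [← hF, hn]
    exact dvd_pow_self _ n.2.ne'
  have h2 : ringChar F = p := (Nat.prime_dvd_prime_iff_eq hr hp).1 (hr.dvd_of_dvd_pow h1)
  exact ringChar.of_eq h2

section generic

variable {F : Type w} [Field F] [Fintype F]

/-- the generic case -/
theorem generic {p f m : ℕ} [hp : Fact p.Prime] (hF : Fintype.card F = p ^ f) (hm : 4 ≤ m)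
    (h42 : ¬ (m = 4 ∧ Fintype.card F = 2)) (hB : CodA.Big V)
    (hab : ∀ x ∈ V, ∀ y ∈ V, x * y = y * x) (hexp : ∀ x ∈ V, x ^ p = 1) (hV1 : V ≠ ⊥)
    (hmin : ∀ J : Subgroup G, J.Normal → J ≤ V → J = ⊥ ∨ J = V)
    (hC : Subgroup.centralizer (V : Set G) ≤ V)
    (s : SpecialLinearGroup (Fin 1 ⊕ Fin m) F →* G ⧸ V) (hs : Function.Surjective s)
    (hker : s.ker = Subgroup.center (SpecialLinearGroup (Fin 1 ⊕ Fin m) F))
    (h1 : (p ^ f) ^ (m + 1) ≤ Nat.card V) (h2 : Nat.card V < (p ^ f) ^ m * (p ^ f) ^ m) : False := by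
  have hchar := charP_of_card hp.out hF
  have hVp : IsPGroup p V := fun v => ⟨1, by rw [pow_one]; exact Subtype.ext (hexp _ v.2)⟩
  obtain ⟨c, hc⟩ := IsPGroup.iff_card.1 hVp
  have hf := CodF.exp_ne_zero hF
  -- the subgroups
  set Q₁ := hat s (CodF.up (F := F) (m := m)).range with hQ₁
  set Q₂ := hat s (CodF.dn (F := F) (m := m)).range with hQ₂
  set M := hat s (low (F := F) (κ := Fin m) (Fin 1)).range with hM
  have hinj : Function.Injective (s.comp (low (F := F) (κ := Fin m) (Fin 1))) := by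
    rw [injective_iff_map_eq_one]
    intro D hD
    apply low_center (ι := Fin 1)
    rw [← hker]
    exact hD
  have hMQ1 : M ≤ Subgroup.normalizer (Q₁ : Set G) := by
    apply hat_normalizes
    rintro _ ⟨D, rfl⟩ _ ⟨u, rfl⟩
    rw [CodF.low_up, mul_inv_cancel_right]
    exact ⟨_, rfl⟩
  have hMQ2 : M ≤ Subgroup.normalizer (Q₂ : Set G) := by
    apply hat_normalizes
    rintro _ ⟨D, rfl⟩ _ ⟨u, rfl⟩
    rw [CodF.low_dn, mul_inv_cancel_right]
    exact ⟨_, rfl⟩
  have hpQ1 : IsPGroup p Q₁ := hat_pgroup hVp s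
    ((CodF.isPGroup_mul (F := F) (a := Fin 1) (b := Fin m) (p := p)).of_surjective _
      (CodF.up (F := F) (m := m)).rangeRestrict_surjective)
  have hpQ2 : IsPGroup p Q₂ := hat_pgroup hVp s
    ((CodF.isPGroup_mul (F := F) (a := Fin m) (b := Fin 1) (p := p)).of_surjective _
      (CodF.dn (F := F) (m := m)).rangeRestrict_surjective)
  -- the projection of `M`
  have hπ : ∃ π : M →* SpecialLinearGroup (Fin m) F, Function.Surjective π ∧
      ∀ g : M, π g = 1 ↔ (g : G) ∈ V := by
    let e := MonoidHom.ofInjective hinj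
    have hmem : ∀ g : M, ((g : G) : G ⧸ V) ∈ (s.comp (low (F := F) (κ := Fin m) (Fin 1))).range := by
      intro g
      obtain ⟨_, ⟨D, rfl⟩, ha⟩ := mem_hat.1 g.2
      exact ⟨D, ha⟩
    let ρ : M →* (s.comp (low (F := F) (κ := Fin m) (Fin 1))).range :=
      ((QuotientGroup.mk' V).comp M.subtype).codRestrict _ hmem
    refine ⟨e.symm.toMonoidHom.comp ρ, ?_, ?_⟩
    · refine e.symm.surjective.comp ?_
      rintro ⟨_, D, rfl⟩
      obtain ⟨g, hg⟩ := QuotientGroup.mk'_surjective V (s (low (Fin 1) D))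
      refine ⟨⟨g, mem_hat.2 ⟨_, ⟨D, rfl⟩, hg.symm⟩⟩, ?_⟩
      exact Subtype.ext hg
    · intro g
      change e.symm (ρ g) = 1 ↔ _
      rw [map_eq_one_iff e.symm e.symm.injective]
      rw [Subtype.ext_iff]
      exact QuotientGroup.eq_one_iff (g : G)
  obtain ⟨π, hπs, hπk⟩ := hπ
  have hnt : ⁅V, Q₁⁆ ≠ ⊥ := by
    intro h
    have h3 : Q₁ ≤ V := by
      refine le_trans ?_ hC
      intro q hq
      rw [Subgroup.mem_centralizer_iff]
      intro v hv
      have h4 : ⁅v, q⁆ ∈ ⁅V, Q₁⁆ := Subgroup.commutator_mem_commutator hv hq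
      rw [h, Subgroup.mem_bot, commutatorElement_eq_one_iff_mul_comm] at h4
      exact h4
    let u : Multiplicative (Matrix (Fin 1) (Fin m) F) :=
      Multiplicative.ofAdd (Matrix.single (0 : Fin 1) (⟨0, by omega⟩ : Fin m) 1)
    obtain ⟨g, hg⟩ := QuotientGroup.mk'_surjective V (s (CodF.up u))
    have h4 : g ∈ V := h3 (mem_hat.2 ⟨_, ⟨u, rfl⟩, hg.symm⟩)
    have h5 : s (CodF.up u) = 1 := by
      rw [← hg]
      exact (QuotientGroup.eq_one_iff g).2 h4
    have h6 : CodF.up u ∈ Subgroup.center (SpecialLinearGroup (Fin 1 ⊕ Fin m) F) := by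
      rw [← hker]; exact h5
    have h7 := CodF.up_center h6
    have h8 := congrFun (congrFun (congrArg Multiplicative.toAdd h7) (0 : Fin 1)) (⟨0, by omega⟩ : Fin m)
    change Matrix.single (0 : Fin 1) (⟨0, by omega⟩ : Fin m) (1 : F) 0 (⟨0, by omega⟩ : Fin m) = 0 at h8
    rw [Matrix.single_apply_same] at h8
    exact one_ne_zero h8
  rcases CodC.two_sides hab hV1 hmin hpQ1 hpQ2 (le_hat s _) (le_hat s _) hMQ1 hMQ2
    (hat_sup hs CodF.sup_eq_top) hnt (B := (p ^ f) ^ m)
    (fun D hD hMD h => CodE.count hF hm hab hexp π hπs (fun g hg => (hπk g).1 hg) D hD hMD h) with h | h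
  · have hok : H60.MultA.Ok m (Nat.card F) := by
      rw [Nat.card_eq_fintype_card]
      refine ⟨by omega, by omega, ?_⟩
      simp only [Set.mem_insert_iff, Set.mem_singleton_iff, Prod.mk.injEq, not_or]
      refine ⟨by omega, by omega, by omega, by omega, h42⟩
    have h3 := CodE.not_le_of_trivial (P := SpecialLinearGroup (Fin m) F) ⟨H60.MultA.perfect_SL hok⟩
      (H60.MultA.hasTrivial_SL hok) π hπs (le_hat s _) hπk h
    have h4 := CodC.dvd_index hB (le_hat s _) h3
    have hinj' : Function.Injective (s.comp (low (F := F) (κ := Fin m) (Fin 1)).range.subtype) := by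
      rw [injective_iff_map_eq_one]
      rintro ⟨_, D, rfl⟩ hD
      have h5 : s (low (Fin 1) D) = 1 := hD
      have h6 : D = 1 := by
        apply hinj
        rw [map_one]
        exact h5
      apply Subtype.ext
      change low (Fin 1) D = 1
      rw [h6, map_one]
    have h5 := fact_le hp.out s hs hc hinj' h4
    have hlow : Nat.card (low (F := F) (κ := Fin m) (Fin 1)).range = Nat.card (SpecialLinearGroup (Fin m) F) := by
      have hli : Function.Injective (low (F := F) (κ := Fin m) (Fin 1)) := fun a b hab' =>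
        hinj (congrArg s hab')
      exact (Nat.card_congr (MonoidHom.ofInjective hli).toEquiv).symm
    rw [hlow, card_SL_eq (ι := Fin 1 ⊕ Fin m) (n := m + 1) (by simp [add_comm]), CodF.fact_SL hp.out hF (by omega),
      CodF.fact_SL hp.out hF (by omega)] at h5
    rw [hc, ← pow_mul] at h1
    have h6 := (Nat.pow_le_pow_iff_right hp.out.one_lt).1 h1
    have h7 : (m + 1) * (m + 1 - 1) / 2 = m * (m - 1) / 2 + m := by
      rw [Nat.add_sub_cancel]
      obtain ⟨j, rfl⟩ : ∃ j, m = j + 1 := ⟨m - 1, by omega⟩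
      rw [Nat.add_sub_cancel]
      have h8 : (j + 1 + 1) * (j + 1) = (j + 1) * j + (j + 1) * 2 := by ring
      rw [h8, Nat.add_mul_div_right _ _ (by norm_num)]
    rw [h7, mul_add] at h5
    have h8 : f * (m + 1) = f * m + f := by ring
    omega
  · omega

/-- the matrix of order three -/
def om3 (F : Type*) [Field F] : Matrix (Fin 2) (Fin 2) F := !![0, -1; 1, -1]

omit [Fintype F] in
theorem om3_det : (om3 F).det = 1 := by
  rw [om3, Matrix.det_fin_two_of]
  ring

omit [Fintype F] in
theorem om3_cube : om3 F * om3 F * om3 F = 1 := by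
  rw [om3, Matrix.mul_fin_two, Matrix.mul_fin_two, Matrix.one_fin_two]
  congr 1 <;> simp

omit [Fintype F] in
theorem om3_sub : (om3 F - (1 : F) • (1 : Matrix (Fin 2) (Fin 2) F)).det = 3 := by
  rw [om3, Matrix.one_fin_two, one_smul, Matrix.det_fin_two]
  simp
  ring

theorem gap {f k : ℕ} : f * ((k + 2) * (k + 2 - 1) / 2) = f * (k * (k - 1) / 2) + f * (2 * k + 1) := by
  rw [← mul_add]
  congr 1
  rcases Nat.eq_zero_or_pos k with rfl | hk
  · rfl
  obtain ⟨j, rfl⟩ : ∃ j, k = j + 1 := ⟨k - 1, by omega⟩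
  have h1 : (j + 1 + 2) * (j + 1 + 2 - 1) = (j + 1) * (j + 1 - 1) + (2 * (j + 1) + 1) * 2 := by
    have h2 : j + 1 + 2 - 1 = j + 2 := by omega
    rw [h2, Nat.add_sub_cancel]
    ring
  rw [h1, Nat.add_mul_div_right _ _ (by norm_num)]

/-- the bound from an element of `SL_2` -/
theorem star {p f k : ℕ} [hp : Fact p.Prime] (hF : Fintype.card F = p ^ f) (hk : 1 ≤ k) (hB : CodA.Big V)
    (hab : ∀ x ∈ V, ∀ y ∈ V, x * y = y * x) (hexp : ∀ x ∈ V, x ^ p = 1)
    (hC : Subgroup.centralizer (V : Set G) ≤ V)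
    (s : SpecialLinearGroup (Fin 2 ⊕ Fin k) F →* G ⧸ V) (hs : Function.Surjective s)
    (hker : s.ker = Subgroup.center (SpecialLinearGroup (Fin 2 ⊕ Fin k) F)) {c : ℕ}
    (hc : Nat.card V = p ^ c) : c ≤ f * (2 * k + 1) := by
  have hchar := charP_of_card hp.out hF
  have hVp : IsPGroup p V := fun v => ⟨1, by rw [pow_one]; exact Subtype.ext (hexp _ v.2)⟩
  have : Nonempty (Fin k) := ⟨⟨0, by omega⟩⟩
  have hinj : Function.Injective (s.comp (low (F := F) (κ := Fin k) (Fin 2))) := by
    rw [injective_iff_map_eq_one]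
    intro D hD
    apply low_center (ι := Fin 2)
    rw [← hker]
    exact hD
  -- the element
  obtain ⟨x, m, hxm, hpm, hxc, hxl⟩ : ∃ (x : SpecialLinearGroup (Fin 2 ⊕ Fin k) F) (m : ℕ), x ^ m = 1 ∧
      ¬ p ∣ m ∧ x ∉ Subgroup.center (SpecialLinearGroup (Fin 2 ⊕ Fin k) F) ∧
      ∀ D : SpecialLinearGroup (Fin k) F, low (Fin 2) D * x = x * low (Fin 2) D := by
    by_cases hp3 : p = 3
    · have h2 : (2 : F) ≠ 0 := by
        intro h
        have h3 : ((2 : ℕ) : F) = 0 := by exact_mod_cast h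
        rw [CharP.cast_eq_zero_iff F p, hp3] at h3
        omega
      let x : SpecialLinearGroup (Fin 2 ⊕ Fin k) F := blk (-1 : Matrix (Fin 2) (Fin 2) F)
        ((1 : F) • (1 : Matrix (Fin k) (Fin k) F)) (by simp [Matrix.det_neg])
      have hx : (x : Matrix (Fin 2 ⊕ Fin k) (Fin 2 ⊕ Fin k) F) =
          fromBlocks (-1) 0 0 ((1 : F) • (1 : Matrix (Fin k) (Fin k) F)) := rfl
      have hA : ((-1 : Matrix (Fin 2) (Fin 2) F) - (1 : F) • (1 : Matrix (Fin 2) (Fin 2) F)).det ≠ 0 := by
        have h4 : ((-1 : Matrix (Fin 2) (Fin 2) F) - (1 : F) • (1 : Matrix (Fin 2) (Fin 2) F)) =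
            (-2 : F) • (1 : Matrix (Fin 2) (Fin 2) F) := by
          ext i j
          simp only [Matrix.sub_apply, Matrix.neg_apply, Matrix.smul_apply, smul_eq_mul]
          ring
        rw [h4, Matrix.det_smul, Matrix.det_one, mul_one]
        exact pow_ne_zero _ (neg_ne_zero.2 h2)
      refine ⟨x, 2, ?_, by rw [hp3]; norm_num, GpLn.Quot.not_mem_center hA hx, fun D => low_comm hx D⟩
      refine ext' ?_
      rw [pow_two, Matrix.SpecialLinearGroup.coe_mul, hx, fromBlocks_multiply]
      simp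
    · have h3 : (3 : F) ≠ 0 := by
        intro h
        have h4 : ((3 : ℕ) : F) = 0 := by exact_mod_cast h
        rw [CharP.cast_eq_zero_iff F p] at h4
        exact hp3 ((Nat.prime_dvd_prime_iff_eq hp.out Nat.prime_three).1 h4)
      let x : SpecialLinearGroup (Fin 2 ⊕ Fin k) F := blk (om3 F)
        ((1 : F) • (1 : Matrix (Fin k) (Fin k) F))
        (by rw [om3_det, one_smul, Matrix.det_one, one_mul])
      have hx : (x : Matrix (Fin 2 ⊕ Fin k) (Fin 2 ⊕ Fin k) F) =
          fromBlocks (om3 F) 0 0 ((1 : F) • (1 : Matrix (Fin k) (Fin k) F)) := rfl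
      have hA : (om3 F - (1 : F) • (1 : Matrix (Fin 2) (Fin 2) F)).det ≠ 0 := by
        rw [om3_sub]
        exact h3
      refine ⟨x, 3, ?_, ?_, GpLn.Quot.not_mem_center hA hx, fun D => low_comm hx D⟩
      · refine ext' ?_
        rw [pow_succ, pow_two, Matrix.SpecialLinearGroup.coe_mul, Matrix.SpecialLinearGroup.coe_mul, hx,
          fromBlocks_multiply, fromBlocks_multiply]
        simp only [one_smul, Matrix.mul_zero, Matrix.zero_mul, add_zero, zero_add, Matrix.mul_one,
          om3_cube]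
        exact fromBlocks_one
      · intro h
        exact hp3 ((Nat.prime_dvd_prime_iff_eq hp.out Nat.prime_three).1 h)
  -- the `p`-subgroup
  let S : Sylow p (SpecialLinearGroup (Fin k) F) := default
  set B : Subgroup (SpecialLinearGroup (Fin 2 ⊕ Fin k) F) :=
    (S : Subgroup (SpecialLinearGroup (Fin k) F)).map (low (Fin 2)) with hBdef
  have hBp : IsPGroup p B := S.isPGroup'.map _
  obtain ⟨g, hg⟩ := QuotientGroup.mk'_surjective V (s x)
  have hnot := CodC.not_le_commutator (p := p) hab (hat_pgroup hVp s hBp) (le_hat s B) (x := g) (m := m)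
    (by
      intro a ha
      obtain ⟨b, hb, hba⟩ := mem_hat.1 ha
      obtain ⟨D, -, rfl⟩ := hb
      rw [← QuotientGroup.eq_one_iff]
      have h1 : ((⁅a, g⁆ : G) : G ⧸ V) = ⁅s (low (Fin 2) D), s x⁆ := by
        rw [hba, ← hg]
        rfl
      rw [h1, ← map_commutatorElement, commutatorElement_eq_one_iff_mul_comm.2 (hxl D), map_one])
    hpm (by
      intro v hv
      have h1 : g ^ m ∈ V := by
        rw [← QuotientGroup.eq_one_iff, QuotientGroup.mk_pow]
        change (QuotientGroup.mk' V g) ^ m = 1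
        rw [hg, ← map_pow, hxm, map_one]
      exact hab _ h1 _ hv) (by
      by_contra hcon
      push Not at hcon
      have h1 : g ∈ V := hC (by
        rw [Subgroup.mem_centralizer_iff]
        intro v hv
        exact (hcon v hv).symm)
      apply hxc
      rw [← hker, MonoidHom.mem_ker, ← hg]
      exact (QuotientGroup.eq_one_iff g).2 h1)
  have h1 := CodC.dvd_index hB (le_hat s B) hnot
  have hinj' : Function.Injective (s.comp B.subtype) := by
    rw [injective_iff_map_eq_one]
    rintro ⟨_, D, hD, rfl⟩ h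
    have h5 : s (low (Fin 2) D) = 1 := h
    have h6 : D = 1 := by
      apply hinj
      rw [map_one]
      exact h5
    apply Subtype.ext
    change low (Fin 2) D = 1
    rw [h6, map_one]
  have h2 := fact_le hp.out s hs hc hinj' h1
  have hli : Function.Injective (low (F := F) (κ := Fin k) (Fin 2)) := fun a b hab' =>
    hinj (congrArg s hab')
  have hcB : Nat.card B = p ^ (f * (k * (k - 1) / 2)) := by
    rw [hBdef, Nat.card_congr ((S : Subgroup (SpecialLinearGroup (Fin k) F)).equivMapOfInjective _ hli).toEquiv.symm,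
      Sylow.card_eq_multiplicity, CodF.fact_SL hp.out hF hk]
  rw [hcB, hp.out.factorization_pow, Finsupp.single_eq_same,
    card_SL_eq (ι := Fin 2 ⊕ Fin k) (n := k + 2) (by simp [add_comm]), CodF.fact_SL hp.out hF (by omega), gap] at h2
  omega

end generic

end Cfsg.Agent.H78.CodG
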