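import Mathlib
import Cfsg.Agent.H78.CodA
import Cfsg.Agent.CharDeep.FrobKernel

/-!
# `|V|²` divides `|G/V|`
-/

set_option autoImplicit false
set_option linter.unusedSectionVars false

namespace Cfsg.Agent.H78.CodH

open Cfsg Cfsg.Agent.Characters Cfsg.Agent.H686.CharKit

universe u

variable {G : Type u} [Group G] [Finite G]

theorem sq_dvd {V : Subgroup G} [V.Normal] (hB : CodA.Big V) : Nat.card V ^ 2 ∣ Nat.card (G ⧸ V) := by
  classical
  have := Core.finite_irr (G := G)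
  have := Fintype.ofFinite (IrrCharacter G)
  have := Fintype.ofFinite G
  have h := CharDeep.FrobKernel.sum_degree_sq_of_ne V
  have h1 : ((∑ ζ ∈ Finset.univ.filter (fun ζ : IrrCharacter G => ∃ k ∈ V, (ζ : G → ℂ) k ≠ (ζ : G → ℂ) 1),
      charDegree (ζ : G → ℂ) ^ 2 : ℕ) : ℂ) = ((V.index * (Nat.card V - 1) : ℕ) : ℂ) := by
    push_cast
    rw [Nat.cast_sub Nat.card_pos, Nat.cast_one, ← h]
    refine Finset.sum_congr rfl fun ζ _ => ?_
    rw [charDegree_irr, sq]
  have h2 := Nat.cast_injective (R := ℂ) h1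
  have h3 : Nat.card V ^ 2 ∣ ∑ ζ ∈ Finset.univ.filter (fun ζ : IrrCharacter G => ∃ k ∈ V,
      (ζ : G → ℂ) k ≠ (ζ : G → ℂ) 1), charDegree (ζ : G → ℂ) ^ 2 := by
    apply Finset.dvd_sum
    intro ζ hζ
    obtain ⟨k, hk, hne⟩ := (Finset.mem_filter.1 hζ).2
    exact pow_dvd_pow_of_dvd (hB ζ fun hle => hne (hle hk)) 2
  rw [h2] at h3
  have h4 : Nat.Coprime (Nat.card V ^ 2) (Nat.card V - 1) := by
    apply Nat.Coprime.pow_left
    have h5 : 1 ≤ Nat.card V := Nat.card_pos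
    rw [Nat.coprime_comm]
    exact (Nat.coprime_self_sub_left h5).2 (Nat.coprime_one_left _)
  have h6 := h4.dvd_of_dvd_mul_right h3
  exact h6

end Cfsg.Agent.H78.CodH
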