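import Mathlib
import Cfsg.Agent.H78.CodG
import Cfsg.Agent.H78.CodH
import Cfsg.Agent.S2392

/-!
# `V` is not central: the characteristic and the cross characteristic case
-/

set_option autoImplicit false
set_option linter.unusedSectionVars false

namespace Cfsg.Agent.H78.CodI

open Cfsg Matrix Cfsg.Agent.GpLn.Block
open scoped commutatorElement

universe u v w

variable {G : Type u} [Group G] [Finite G] {V : Subgroup G} [hVn : V.Normal]
variable {F : Type w} [Field F] [Fintype F]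

/-- the defining characteristic; `L_5(2)` is excluded here -/
theorem def_char {p f n : ℕ} [hp : Fact p.Prime] (hF : Fintype.card F = p ^ f) (hn : 4 ≤ n)
    (h52 : ¬ (n = 5 ∧ Fintype.card F = 2)) (hB : CodA.Big V)
    (hab : ∀ x ∈ V, ∀ y ∈ V, x * y = y * x) (hexp : ∀ x ∈ V, x ^ p = 1) (hV1 : V ≠ ⊥)
    (hmin : ∀ J : Subgroup G, J.Normal → J ≤ V → J = ⊥ ∨ J = V)
    (hC : Subgroup.centralizer (V : Set G) ≤ V)
    (e : G ⧸ V ≃* ProjectiveSpecialLinearGroup (Fin n) F) : False := by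
  obtain ⟨c, hcinj, -⟩ := Lib.ElemAbGL.exists_injective_hom_mulAut V hab hC
  have hf := CodF.exp_ne_zero hF
  obtain ⟨s, hs, hker⟩ := GpLn.Elem.exists_proj (α := Fin n) e (by simp)
  have hVp : IsPGroup p V := fun v => ⟨1, by rw [pow_one]; exact Subtype.ext (hexp _ v.2)⟩
  obtain ⟨k, hk⟩ := IsPGroup.iff_card.1 hVp
  have hN : Nontrivial (Fin n) := Fin.nontrivial_iff_two_le.2 (by omega)
  -- `|V| ≥ q ^ n`
  have h1 : (p ^ f) ^ n ≤ Nat.card V := by
    refine CodD.le_card hF hn (W := V) (fun a b => Subtype.ext (hab _ a.2 _ b.2))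
      (fun a => Subtype.ext (hexp _ a.2)) (c.comp s) ?_
    intro h
    have h2 : s.ker = ⊤ := by
      rw [eq_top_iff, ← h]
      intro x hx
      rw [MonoidHom.mem_ker] at hx ⊢
      apply hcinj
      rw [map_one]
      exact hx
    rw [hker] at h2
    have hq := (CodG.SLQuasisimple_ne (n := n) (F := F) (by omega))
    exact hq h2
  have h1' := h1
  rw [hk, ← pow_mul] at h1'
  have h3 := (Nat.pow_le_pow_iff_right hp.out.one_lt).1 h1'
  rcases (show n = 4 ∨ 5 ≤ n by omega) with rfl | hn5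
  · -- `|V|² ∣ |L|`
    have h4 := (CodH.sq_dvd hB).trans (Subgroup.card_dvd_of_surjective s hs)
    rw [hk] at h4
    have h5 := (Nat.factorization_le_iff_dvd (pow_ne_zero _ (pow_ne_zero _ hp.out.ne_zero)) Nat.card_pos.ne').2 h4 p
    rw [← pow_mul, hp.out.factorization_pow, Finsupp.single_eq_same, CodF.fact_SL hp.out hF (by omega)] at h5
    omega
  · obtain ⟨m, rfl⟩ : ∃ m, n = m + 1 := ⟨n - 1, by omega⟩
    obtain ⟨s₁, hs₁, hker₁⟩ := GpLn.Elem.exists_proj (α := Fin 1 ⊕ Fin m) e (by simp [add_comm])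
    obtain ⟨s₂, hs₂, hker₂⟩ := GpLn.Elem.exists_proj (α := Fin 2 ⊕ Fin (m - 1)) e (by simp; omega)
    have h4 := CodG.star hF (by omega) hB hab hexp hC s₂ hs₂ hker₂ hk
    refine CodG.generic hF (by omega) ?_ hB hab hexp hV1 hmin hC s₁ hs₁ hker₁ h1 ?_
    · rintro ⟨rfl, h⟩
      exact h52 ⟨rfl, h⟩
    · rw [hk, ← pow_mul, ← pow_add]
      apply Nat.pow_lt_pow_right hp.out.one_lt
      have h5 : 2 * (m - 1) + 1 + 1 = m + m := by omega
      have h6 : f * (2 * (m - 1) + 1) + f = f * m + f * m := by rw [← mul_add, ← h5]; ring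
      omega

/-! ### cross characteristic -/

theorem num_ge {q n : ℕ} (hq : 2 ≤ q) (hn : 4 ≤ n) : (q - 1) * (n * (n + 1)) < 4 * (q ^ (n - 1) - 1) := by
  obtain ⟨t, rfl⟩ : ∃ t, q = t + 1 := ⟨q - 1, by omega⟩
  obtain ⟨m, rfl⟩ : ∃ m, n = m + 4 := ⟨n - 4, by omega⟩
  have ht : 1 ≤ t := by omega
  have h3 : m + 4 - 1 = m + 3 := by omega
  rw [Nat.add_sub_cancel, h3]
  have key : t * ((m + 4) * (m + 4 + 1)) + 4 < 4 * (t + 1) ^ (m + 3) := by
    induction m with
    | zero =>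
      have h1 : (t + 1) ^ (0 + 3) = t ^ 3 + 3 * t ^ 2 + 3 * t + 1 := by ring
      rw [h1]
      have h2 : t ≤ t ^ 2 := by nlinarith
      have h4 : t ≤ t ^ 3 := by nlinarith
      omega
    | succ m ih =>
      have ih := ih (by omega) (by omega)
      have h1 : (t + 1) ^ (m + 1 + 3) = (t + 1) ^ (m + 3) * t + (t + 1) ^ (m + 3) := by ring
      have h2 : (t + 1) ^ (m + 3) * 1 ≤ (t + 1) ^ (m + 3) * t := Nat.mul_le_mul_left _ ht
      rw [mul_one] at h2
      rw [h1]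
      have h5 : t * ((m + 1 + 4) * (m + 1 + 4 + 1)) ≤ 2 * (t * ((m + 4) * (m + 4 + 1))) := by
        have h6 : (m + 1 + 4) * (m + 1 + 4 + 1) ≤ 2 * ((m + 4) * (m + 4 + 1)) := by nlinarith
        calc t * ((m + 1 + 4) * (m + 1 + 4 + 1)) ≤ t * (2 * ((m + 4) * (m + 4 + 1))) := Nat.mul_le_mul_left _ h6
          _ = _ := by ring
      omega
  omega

theorem prod_le {q : ℕ} (n : ℕ) : (∏ i ∈ Finset.range n, (q ^ (i + 1) - 1)) ^ 2 ≤ q ^ (n * (n + 1)) := by
  induction n with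
  | zero => simp
  | succ n ih =>
    rw [Finset.prod_range_succ, mul_pow]
    have h1 : (n + 1) * (n + 1 + 1) = n * (n + 1) + (n + 1) * 2 := by ring
    rw [h1, pow_add q (n * (n + 1)), pow_mul q (n + 1) 2]
    exact Nat.mul_le_mul ih (Nat.pow_le_pow_left (Nat.sub_le _ _) 2)

theorem le_two_pow {q : ℕ} : q ≤ 2 ^ (q - 1) := by
  rcases Nat.eq_zero_or_pos q with rfl | h
  · simp
  obtain ⟨t, rfl⟩ : ∃ t, q = t + 1 := ⟨q - 1, by omega⟩
  rw [Nat.add_sub_cancel]
  exact Nat.lt_two_pow_self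

/-- the cross characteristic case -/
theorem cross_char {p f n r : ℕ} (hp : p.Prime) [hr : Fact r.Prime] (hrp : r ≠ p)
    (hF : Fintype.card F = p ^ f) (hn : 4 ≤ n) (hB : CodA.Big V)
    (hab : ∀ x ∈ V, ∀ y ∈ V, x * y = y * x) (hexp : ∀ x ∈ V, x ^ r = 1)
    (hC : Subgroup.centralizer (V : Set G) ≤ V)
    (e : G ⧸ V ≃* ProjectiveSpecialLinearGroup (Fin n) F) : False := by
  obtain ⟨c, hcinj, -⟩ := Lib.ElemAbGL.exists_injective_hom_mulAut V hab hC
  have hf := CodF.exp_ne_zero hF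
  obtain ⟨s, hs, hker⟩ := GpLn.Elem.exists_proj (α := Fin n) e (by simp)
  have hVp : IsPGroup r V := fun v => ⟨1, by rw [pow_one]; exact Subtype.ext (hexp _ v.2)⟩
  obtain ⟨k, hk⟩ := IsPGroup.iff_card.1 hVp
  let _ : CommGroup V := { (inferInstance : Group V) with mul_comm := fun a b => Subtype.ext (hab _ a.2 _ b.2) }
  obtain ⟨ε⟩ := Lib.ElemAbGL.mulAut_equiv_GL (V := V) r k (fun a => Subtype.ext (hexp _ a.2)) hk
  let ρ : SpecialLinearGroup (Fin n) F →* GL (Fin k) (ZMod r) := (ε.toMonoidHom.comp c).comp s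
  have hρ : ρ.ker ≤ Subgroup.center (SpecialLinearGroup (Fin n) F) := by
    intro x hx
    rw [← hker, MonoidHom.mem_ker]
    rw [MonoidHom.mem_ker] at hx
    apply hcinj
    apply ε.injective
    rw [map_one, map_one]
    exact hx
  have hcharF := CodG.charP_of_card hp hF
  have h1 := S2392.result (F := F) rfl n (by omega) (K := ZMod r) (by
    rw [ringChar.eq (ZMod r) r, ringChar.eq F p]
    exact hrp) ρ hρ
  -- `|V|² ∣ |L|`
  have h4 := (CodH.sq_dvd hB).trans (Subgroup.card_dvd_of_surjective s hs)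
  rw [hk, ← pow_mul] at h4
  set q := Fintype.card F with hq
  have h2q : 2 ≤ q := Fintype.one_lt_card (α := F)
  have h5 := S0242.result (F := F) hq.symm n (by omega)
  rw [CodF.prod_gl] at h5
  have h6 : r ^ (k * 2) ∣ ∏ i ∈ Finset.range n, (q ^ (i + 1) - 1) := by
    have h7 : r ^ (k * 2) ∣ q ^ (n * (n - 1) / 2) * ∏ i ∈ Finset.range n, (q ^ (i + 1) - 1) := by
      rw [← h5]
      exact h4.mul_left _
    refine Nat.Coprime.dvd_of_dvd_mul_left ?_ h7
    apply Nat.Coprime.pow_left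
    apply Nat.Coprime.pow_right
    rw [hF]
    exact Nat.Coprime.pow_right _ ((Nat.coprime_primes hr.out hp).2 hrp)
  have hpos : 0 < ∏ i ∈ Finset.range n, (q ^ (i + 1) - 1) := by
    apply Finset.prod_pos
    intro i _
    have : 1 < q ^ (i + 1) := Nat.one_lt_pow (by omega) h2q
    omega
  have h7 := Nat.le_of_dvd hpos h6
  have h8 : (2 ^ (4 * k) : ℕ) ≤ 2 ^ ((q - 1) * (n * (n + 1))) := by
    calc (2 ^ (4 * k) : ℕ) = (2 ^ (k * 2)) ^ 2 := by rw [← pow_mul]; congr 1; ring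
      _ ≤ (r ^ (k * 2)) ^ 2 := Nat.pow_le_pow_left (Nat.pow_le_pow_left hr.out.two_le _) 2
      _ ≤ (∏ i ∈ Finset.range n, (q ^ (i + 1) - 1)) ^ 2 := Nat.pow_le_pow_left h7 2
      _ ≤ q ^ (n * (n + 1)) := prod_le n
      _ ≤ (2 ^ (q - 1)) ^ (n * (n + 1)) := Nat.pow_le_pow_left le_two_pow _
      _ = _ := by rw [← pow_mul]
  have h9 := (Nat.pow_le_pow_iff_right (by norm_num : 1 < 2)).1 h8
  have h10 := num_ge h2q hn
  omega

end Cfsg.Agent.H78.CodI
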