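import Mathlib
import Cfsg.Agent.H78.CodB
import Cfsg.Agent.H78.CodI
import Cfsg.Agent.H60.MultA

/-!
# Codegrees of `PSL_n(q)`: the central case
-/

set_option autoImplicit false

namespace Cfsg.Agent.H78.CodJ

open Cfsg Cfsg.Agent Cfsg.Agent.Characters Cfsg.Agent.H686.CharKit Cfsg.Agent.H677.CodMultiset Matrix

universe u v w

/-- A nonprincipal irreducible character of `L_n(q)` has degree at least `q^(n-1) - 1`. -/
theorem degree_ge {L : Type v} [Group L] [Finite L] [IsSimpleGroup L] {F : Type w} [Field F] [Fintype F]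
    {n : ℕ} (hn : 4 ≤ n) (e : L ≃* ProjectiveSpecialLinearGroup (Fin n) F) (ψ : IrrCharacter L)
    (hψ : ψ ≠ one L) : Fintype.card F ^ (n - 1) - 1 ≤ charDegree (ψ : L → ℂ) := by
  obtain ⟨s, hs, hker⟩ := GpLn.Elem.exists_proj (α := Fin n) e (by simp)
  obtain ⟨d, ρ, -, hchar⟩ := ψ.2
  have hchar' : ∀ g, (ψ : L → ℂ) g = LinearMap.trace ℂ _ (ρ g) := fun g => by rw [← hchar]; rfl
  have hd : charDegree (ψ : L → ℂ) = d := by
    have h1 := hchar' 1
    rw [map_one, LinearMap.trace_one, Module.finrank_fin_fun] at h1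
    have h2 := charDegree_irr ψ
    rw [h1] at h2
    exact_mod_cast h2
  rw [hd]
  let ρ' : L →* GL (Fin d) ℂ :=
    (Matrix.GeneralLinearGroup.toLin (n := Fin d) (R := ℂ)).symm.toMonoidHom.comp ρ.asGroupHom
  refine S2392.result (F := F) rfl n (by omega) (K := ℂ) ?_ (ρ'.comp s) ?_
  · have h1 : ringChar ℂ = 0 := ringChar.eq_zero
    rw [h1]
    intro h2
    have h3 := CharP.ringChar_ne_zero_of_finite F
    exact h3 h2.symm
  · intro x hx
    rw [← hker, MonoidHom.mem_ker]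
    rw [MonoidHom.mem_ker, MonoidHom.comp_apply] at hx
    have h1 : ρ.asGroupHom (s x) = 1 := by
      apply (Matrix.GeneralLinearGroup.toLin (n := Fin d) (R := ℂ)).symm.injective
      rw [map_one]
      exact hx
    have h2 : ρ (s x) = 1 := by
      have h3 := congrArg Units.val h1
      rwa [Representation.asGroupHom_apply] at h3
    have h3 : s x ∈ chKer ψ := by
      rw [mem_chKer, hchar', hchar', h2, map_one ρ]
    rw [chKer_eq_bot hψ, Subgroup.mem_bot] at h3
    exact h3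

/-! ### an irreducible character of small degree -/

theorem exists_irr_le {G : Type u} [Group G] [Finite G] {V : Subgroup G} {K : Subgroup G} (μ : K →* ℂˣ)
    (hμ : ∃ v : K, (v : G) ∈ V ∧ μ v ≠ 1) :
    ∃ χ : IrrCharacter G, ¬ V ≤ chKer χ ∧ charDegree (χ : G → ℂ) ≤ K.index := by
  classical
  have := Core.finite_irr (G := G)
  have := Fintype.ofFinite (IrrCharacter G)
  have := Fintype.ofFinite G
  have := Fintype.ofFinite K
  let θ : IrrCharacter K := ⟨_, Linear.isIrrCharacter_hom μ⟩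
  have hθ1 : charDegree (θ : K → ℂ) = 1 := by
    unfold charDegree
    simp [θ]
  obtain ⟨c, hc, hc'⟩ := CharDeep.CliffordCorr.exists_nat_coeffs_indFun K
    (Core.isIrr_isCharacter θ.2)
  have h1 := congrFun hc 1
  rw [H678.Constit.indFun_one, Finset.sum_apply] at h1
  have h2 : ((K.index * charDegree (θ : K → ℂ) : ℕ) : ℂ) =
      ((∑ χ : IrrCharacter G, c χ * charDegree (χ : G → ℂ) : ℕ) : ℂ) := by
    push_cast
    rw [charDegree_irr, h1]
    refine Finset.sum_congr rfl fun χ _ => ?_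
    rw [charDegree_irr, Pi.smul_apply, smul_eq_mul]
  have h3 := Nat.cast_injective (R := ℂ) h2
  rw [hθ1, mul_one] at h3
  have h4 : ∑ χ : IrrCharacter G, c χ * charDegree (χ : G → ℂ) ≠ 0 := by
    rw [← h3]
    exact Subgroup.index_ne_zero_of_finite
  obtain ⟨χ, -, hne⟩ := Finset.exists_ne_zero_of_sum_ne_zero h4
  have hcχ : c χ ≠ 0 := fun h => hne (by rw [h, zero_mul])
  refine ⟨χ, ?_, ?_⟩
  · intro hχ
    obtain ⟨v, hv, hne⟩ := hμ
    apply hne
    have h6 : classInner (fun k : K => (χ : G → ℂ) k) (θ : K → ℂ) ≠ 0 := by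
      rw [← Core.classInner_conj_symm, hc' χ]
      simpa using hcχ
    have h7 : (θ : K → ℂ) v = (θ : K → ℂ) 1 :=
      OddOrderCharacters.PF9.GaloisClifford.ker_of_constituent
        (Clifford.isCharacter_restrict K (Core.isIrr_isCharacter χ.2)) θ.2 h6 (hχ hv)
    simp only [θ, map_one] at h7
    exact Units.ext h7
  · have h6 : c χ * charDegree (χ : G → ℂ) ≤
        ∑ χ : IrrCharacter G, c χ * charDegree (χ : G → ℂ) :=
      Finset.single_le_sum (f := fun χ : IrrCharacter G => c χ * charDegree (χ : G → ℂ))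
        (fun _ _ => Nat.zero_le _) (Finset.mem_univ χ)
    have h7 : charDegree (χ : G → ℂ) ≤ c χ * charDegree (χ : G → ℂ) :=
      Nat.le_mul_of_pos_left _ (Nat.pos_of_ne_zero hcχ)
    omega

/-! ### the stabiliser of a line -/

section Line

variable {F : Type w} [Field F] {α : Type*} [Fintype α] [DecidableEq α] (i₀ : α)

theorem coe_mul' (A B : SpecialLinearGroup α F) : (A * B).1 = A.1 * B.1 := rfl

theorem coe_one' : (1 : SpecialLinearGroup α F).1 = 1 := rfl

theorem mul_aux {A B : SpecialLinearGroup α F} {a b : Fˣ}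
    (ha : A.1 *ᵥ Pi.single i₀ 1 = (a : F) • Pi.single i₀ 1) (hb : B.1 *ᵥ Pi.single i₀ 1 = (b : F) • Pi.single i₀ 1) :
    (A * B).1 *ᵥ Pi.single i₀ 1 = ((a * b : Fˣ) : F) • Pi.single i₀ 1 := by
  rw [coe_mul', ← Matrix.mulVec_mulVec, hb, Matrix.mulVec_smul, ha, smul_smul, Units.val_mul, mul_comm]

/-- the stabiliser of a coordinate line -/
def P1 : Subgroup (SpecialLinearGroup α F) where
  carrier := {A | ∃ a : Fˣ, A.1 *ᵥ Pi.single i₀ 1 = (a : F) • Pi.single i₀ 1}
  one_mem' := ⟨1, by rw [coe_one', Matrix.one_mulVec, Units.val_one, one_smul]⟩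
  mul_mem' := by
    rintro A B ⟨a, ha⟩ ⟨b, hb⟩
    exact ⟨a * b, mul_aux i₀ ha hb⟩
  inv_mem' := by
    rintro A ⟨a, ha⟩
    refine ⟨a⁻¹, ?_⟩
    have h1 : (A⁻¹).1 *ᵥ (A.1 *ᵥ Pi.single i₀ 1) = Pi.single i₀ 1 := by
      rw [Matrix.mulVec_mulVec, ← coe_mul', inv_mul_cancel, coe_one',
        Matrix.one_mulVec]
    rw [ha, Matrix.mulVec_smul] at h1
    have h2 := congrArg (fun v => ((a⁻¹ : Fˣ) : F) • v) h1
    simp only [smul_smul, Units.inv_mul, one_smul] at h2
    exact h2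

omit [Fintype α] in
theorem single_ne : (Pi.single i₀ 1 : α → F) ≠ 0 := by
  intro h
  have := congrFun h i₀
  simp at this

theorem mem_P1 {A : SpecialLinearGroup α F} :
    A ∈ P1 i₀ ↔ ∃ a : Fˣ, A.1 *ᵥ Pi.single i₀ 1 = (a : F) • Pi.single i₀ 1 := Iff.rfl

/-- the eigenvalue -/
noncomputable def eig : (P1 i₀ : Subgroup (SpecialLinearGroup α F)) →* Fˣ where
  toFun A := A.2.choose
  map_one' := by
    have h := (1 : (P1 i₀ : Subgroup (SpecialLinearGroup α F))).2.choose_spec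
    apply Units.ext
    apply smul_left_injective F (single_ne (F := F) i₀)
    change _ • _ = _ • _
    rw [← h, Units.val_one, one_smul]
    change (1 : SpecialLinearGroup α F).1 *ᵥ _ = _
    rw [coe_one', Matrix.one_mulVec]
  map_mul' A B := by
    have h := (A * B).2.choose_spec
    have hA := A.2.choose_spec
    have hB := B.2.choose_spec
    apply Units.ext
    apply smul_left_injective F (single_ne (F := F) i₀)
    change _ • _ = _ • _
    rw [← h]
    exact mul_aux i₀ hA hB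

theorem eig_spec (A : (P1 i₀ : Subgroup (SpecialLinearGroup α F))) :
    A.1.1 *ᵥ Pi.single i₀ 1 = ((eig i₀ A : Fˣ) : F) • Pi.single i₀ 1 := A.2.choose_spec

theorem index_le [Fintype F] :
    (Fintype.card F - 1) * (P1 i₀ : Subgroup (SpecialLinearGroup α F)).index ≤
      Fintype.card F ^ Fintype.card α - 1 := by
  classical
  let f : Fˣ × (SpecialLinearGroup α F ⧸ (P1 i₀ : Subgroup (SpecialLinearGroup α F))) → {w : α → F // w ≠ 0} :=
    fun x => ⟨(x.1 : F) • (x.2.out.1 *ᵥ Pi.single i₀ 1), by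
      intro h
      rw [smul_eq_zero] at h
      rcases h with h | h
      · exact x.1.ne_zero h
      · apply single_ne (F := F) i₀
        have h1 : (x.2.out⁻¹).1 *ᵥ (x.2.out.1 *ᵥ Pi.single i₀ 1) = (Pi.single i₀ 1 : α → F) := by
          rw [Matrix.mulVec_mulVec, ← coe_mul', inv_mul_cancel, coe_one', Matrix.one_mulVec]
        rw [← h1, h, Matrix.mulVec_zero]⟩
  have hf : Function.Injective f := by
    rintro ⟨a, x⟩ ⟨b, y⟩ h
    have h1 : (a : F) • (x.out.1 *ᵥ Pi.single i₀ 1) = (b : F) • (y.out.1 *ᵥ Pi.single i₀ 1) :=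
      congrArg Subtype.val h
    have h2 : (x.out⁻¹ * y.out).1 *ᵥ Pi.single i₀ 1 = ((b⁻¹ * a : Fˣ) : F) • (Pi.single i₀ 1 : α → F) := by
      rw [coe_mul', ← Matrix.mulVec_mulVec]
      have h3 : y.out.1 *ᵥ Pi.single i₀ 1 = ((b⁻¹ * a : Fˣ) : F) • (x.out.1 *ᵥ (Pi.single i₀ 1 : α → F)) := by
        rw [Units.val_mul, mul_smul, h1, smul_smul, Units.inv_mul, one_smul]
      rw [h3, Matrix.mulVec_smul, Matrix.mulVec_mulVec, ← coe_mul', inv_mul_cancel, coe_one', Matrix.one_mulVec]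
    have h3 : x = y := by
      rw [← QuotientGroup.out_eq' x, ← QuotientGroup.out_eq' y, QuotientGroup.eq]
      exact ⟨_, h2⟩
    subst h3
    rw [inv_mul_cancel, coe_one', Matrix.one_mulVec] at h2
    have h4 : (1 : F) • (Pi.single i₀ 1 : α → F) = ((b⁻¹ * a : Fˣ) : F) • (Pi.single i₀ 1 : α → F) := by
      rw [← h2, one_smul]
    have h5 := smul_left_injective F (single_ne (F := F) i₀) h4
    have h6 : b⁻¹ * a = 1 := Units.ext h5.symm
    rw [inv_mul_eq_one] at h6
    rw [h6]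
  have h1 := Nat.card_le_card_of_injective f hf
  rw [Nat.card_prod, Nat.card_eq_fintype_card (α := Fˣ), Fintype.card_units] at h1
  have h2 : Nat.card {w : α → F // w ≠ 0} = Fintype.card F ^ Fintype.card α - 1 := by
    rw [Nat.card_eq_fintype_card, Fintype.card_subtype_compl, Fintype.card_subtype_eq]
    simp
  rw [h2] at h1
  exact h1

end Line

theorem arith {q n k d i : ℕ} (hq : 3 ≤ q) (hn : 4 ≤ n) (hk : 2 ≤ k) (hd : q ^ (n - 1) - 1 ≤ d)
    (hi : (q - 1) * i ≤ q ^ n - 1) (h : k * d ≤ i) : False := by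
  obtain ⟨m, rfl⟩ : ∃ m, n = m + 1 := ⟨n - 1, by omega⟩
  rw [Nat.add_sub_cancel] at hd
  have h1 : q ^ 3 ≤ q ^ m := Nat.pow_le_pow_right (by omega) (by omega)
  have h2 : 3 * 3 * q ≤ q ^ 3 := by
    rw [pow_succ, pow_two]
    exact Nat.mul_le_mul_right _ (Nat.mul_le_mul hq hq)
  obtain ⟨t, rfl⟩ : ∃ t, q = t + 1 := ⟨q - 1, by omega⟩
  rw [Nat.add_sub_cancel] at hi
  have h3 : t * (2 * ((t + 1) ^ m - 1)) ≤ (t + 1) ^ (m + 1) - 1 := by
    refine le_trans (Nat.mul_le_mul_left _ ?_) hi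
    exact le_trans (Nat.mul_le_mul hk hd) h
  obtain ⟨x, hx⟩ : ∃ x, (t + 1) ^ m = x + 1 := ⟨(t + 1) ^ m - 1, by omega⟩
  rw [pow_succ, hx, Nat.add_sub_cancel] at h3
  have h4 : (x + 1) * (t + 1) - 1 = x * t + x + t := by
    have : (x + 1) * (t + 1) = x * t + x + t + 1 := by ring
    omega
  rw [h4] at h3
  have h5 : 2 * x ≤ t * x := Nat.mul_le_mul_right _ (by omega)
  have h6 : t * (2 * x) = 2 * (t * x) := by ring
  have h7 : x * t = t * x := mul_comm _ _
  omega

/-- **the central case** -/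
theorem central {G : Type u} [Group G] [Finite G] {V : Subgroup G} [V.Normal] {F : Type w} [Field F] [Fintype F]
    {n : ℕ} (hZ : V ≤ Subgroup.center G) (hV : V ≠ ⊥) (hperf : commutator G = ⊤) (hn : 4 ≤ n)
    (h42 : ¬ (n = 4 ∧ Fintype.card F = 2)) [IsSimpleGroup (G ⧸ V)]
    (e : G ⧸ V ≃* ProjectiveSpecialLinearGroup (Fin n) F)
    (hdeg : ∀ χ : IrrCharacter G, ¬ V ≤ chKer χ → ∃ ψ : IrrCharacter (G ⧸ V), ψ ≠ one (G ⧸ V) ∧
      charDegree (χ : G → ℂ) = Nat.card V * charDegree (ψ : G ⧸ V → ℂ)) : False := by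
  classical
  obtain ⟨s, hs, hker⟩ := GpLn.Elem.exists_proj (α := Fin n) e (by simp)
  let i₀ : Fin n := ⟨0, by omega⟩
  have hOk : H60.MultA.Ok n (Nat.card F) := by
    refine ⟨by omega, fun h => by omega, ?_⟩
    rw [Nat.card_eq_fintype_card]
    simp only [Set.mem_insert_iff, Set.mem_singleton_iff, Prod.mk.injEq, not_or, not_and]
    exact ⟨fun h => by omega, fun h => by omega, fun h => by omega, fun h => by omega, fun h h' => h42 ⟨h, h'⟩⟩
  have hP : Group.IsPerfect (SpecialLinearGroup (Fin n) F) := ⟨H60.MultA.perfect_SL hOk⟩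
  have hξ : (QuotientGroup.mk' V).ker ≤ Subgroup.center G := by rwa [QuotientGroup.ker_mk']
  obtain ⟨η, hη⟩ := H487.exists_lift_of_trivial hP (H60.MultA.hasTrivial_SL hOk) s
    (QuotientGroup.mk'_surjective V) hξ
  have hη' : ∀ x, ((η x : G) : G ⧸ V) = s x := fun x => DFunLike.congr_fun hη x
  -- `η` is surjective
  have hηs : Function.Surjective η := by
    have h1 := H487.commutator_eq_map_of_central hξ (φ := η) (by rw [hη]; exact hs)
    rw [hperf] at h1
    intro g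
    have h2 : g ∈ (⊤ : Subgroup G) := trivial
    rw [h1] at h2
    obtain ⟨x, -, hx⟩ := h2
    exact ⟨x, hx⟩
  -- a central element
  obtain ⟨v, hv1⟩ := Subgroup.ne_bot_iff_exists_ne_one.1 hV
  obtain ⟨z, hz⟩ := hηs v
  have hscal : ∀ y : SpecialLinearGroup (Fin n) F, s y = 1 →
      ∃ a : Fˣ, y.1 *ᵥ Pi.single i₀ 1 = (a : F) • Pi.single i₀ 1 ∧ y.1 = Matrix.scalar (Fin n) (a : F) := by
    intro y hy
    have h1 : y ∈ s.ker := hy
    rw [hker, Matrix.SpecialLinearGroup.mem_center_iff] at h1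
    obtain ⟨r, hr, hry⟩ := h1
    have hr0 : r ≠ 0 := by
      rintro rfl
      rw [Fintype.card_fin, zero_pow (by omega)] at hr
      exact zero_ne_one hr
    have hry' : y.1 = Matrix.scalar (Fin n) r := hry.symm
    refine ⟨Units.mk0 r hr0, ?_, hry'⟩
    rw [hry', Units.val_mk0, Matrix.scalar_apply, ← Matrix.smul_one_eq_diagonal, Matrix.smul_mulVec, Matrix.one_mulVec]
  have hsz : s z = 1 := by
    rw [← hη', hz]
    exact (QuotientGroup.eq_one_iff _).2 v.2
  obtain ⟨a, haz, hza⟩ := hscal z hsz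
  have hzP : z ∈ P1 (F := F) i₀ := ⟨a, haz⟩
  set K : Subgroup G := (P1 (F := F) i₀).map η with hK
  -- the linear character
  let ηP : (P1 (F := F) i₀) →* K := η.subgroupMap (P1 (F := F) i₀)
  have hηP : Function.Surjective ηP := η.subgroupMap_surjective _
  let D : Subgroup Fˣ := ηP.ker.map (eig i₀)
  let g₀ : (P1 (F := F) i₀) →* (Fˣ ⧸ D) := (QuotientGroup.mk' D).comp (eig i₀)
  have hg₀ : ηP.ker ≤ g₀.ker := by
    intro x hx
    rw [MonoidHom.mem_ker]
    exact (QuotientGroup.eq_one_iff _).2 ⟨x, hx, rfl⟩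
  let μ₀ : K →* (Fˣ ⧸ D) := MonoidHom.liftOfSurjective ηP hηP ⟨g₀, hg₀⟩
  have hμ₀ : ∀ x, μ₀ (ηP x) = g₀ x := fun x => MonoidHom.liftOfRightInverse_comp_apply _ _ _ ⟨g₀, hg₀⟩ x
  have hne : μ₀ (ηP ⟨z, hzP⟩) ≠ 1 := by
    rw [hμ₀]
    intro h
    have h1 : eig i₀ ⟨z, hzP⟩ ∈ D := (QuotientGroup.eq_one_iff _).1 h
    obtain ⟨y, hy, hyz⟩ := h1
    have hy1 : η y = 1 := congrArg Subtype.val hy
    have hsy : s y = 1 := by
      rw [← hη', hy1]
      rfl
    obtain ⟨b, hby, hyb⟩ := hscal y hsy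
    have h2 := eig_spec i₀ y
    have h3 := eig_spec i₀ ⟨z, hzP⟩
    have h4 : (b : F) = ((eig i₀ y : Fˣ) : F) :=
      smul_left_injective F (single_ne (F := F) i₀) (show (b : F) • _ = _ • _ by rw [← hby, h2])
    have h5 : (a : F) = ((eig i₀ ⟨z, hzP⟩ : Fˣ) : F) :=
      smul_left_injective F (single_ne (F := F) i₀) (show (a : F) • _ = _ • _ by rw [← haz, h3])
    have h6 : (y : SpecialLinearGroup (Fin n) F) = z := by
      apply Subtype.ext
      rw [hyb, hza, h4, h5, hyz]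
    apply hv1
    apply Subtype.ext
    rw [← hz, ← h6, hy1]
    rfl
  obtain ⟨κ, hκ⟩ := CommGroup.exists_apply_ne_one_of_hasEnoughRootsOfUnity (Fˣ ⧸ D) ℂ hne
  obtain ⟨χ, hχ, hχd⟩ := exists_irr_le (V := V) (κ.comp μ₀) ⟨ηP ⟨z, hzP⟩, by
    change η z ∈ V
    rw [hz]
    exact v.2, hκ⟩
  obtain ⟨ψ, hψ, hd⟩ := hdeg χ hχ
  have h1 := degree_ge hn e ψ hψ
  have h2 : K.index ≤ (P1 (F := F) i₀).index := Nat.le_of_dvd (Nat.pos_of_ne_zero Subgroup.index_ne_zero_of_finite)
    (Subgroup.index_map_dvd _ hηs)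
  have h3 := index_le (F := F) i₀
  rw [Fintype.card_fin] at h3
  have hV2 : 2 ≤ Nat.card V := (Subgroup.one_lt_card_iff_ne_bot _).2 hV
  have hq3 : 3 ≤ Fintype.card F := by
    by_contra hlt
    have hq2 : 1 < Fintype.card F := Fintype.one_lt_card
    have hu : Fintype.card Fˣ = 1 := by
      rw [Fintype.card_units]
      omega
    have : Subsingleton Fˣ := Fintype.card_le_one_iff_subsingleton.1 hu.le
    apply hne
    obtain ⟨y, hy⟩ := QuotientGroup.mk_surjective (μ₀ (ηP ⟨z, hzP⟩))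
    rw [← hy, Subsingleton.elim y 1]
    rfl
  exact arith hq3 hn hV2 h1 h3 (by rw [← hd]; exact hχd.trans h2)

end Cfsg.Agent.H78.CodJ
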