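import Mathlib
import Cfsg.Agent.H78.CodJ
import Cfsg.Agent.H615.SLSteinberg
import Cfsg.Agent.Blocks.ExistsModular

/-!
# Codegrees: simple groups

`S`, `L` simple, every codegree of `S` a codegree of `L`.  Then `|L| = k |S|` and `k χ(1)` is a degree of `L` for
every nonprincipal irreducible character `χ` of `S`.
-/

set_option autoImplicit false

namespace Cfsg.Agent.H78.CodK

open Cfsg Cfsg.Agent Cfsg.Agent.Characters Cfsg.Agent.H686.CharKit Cfsg.Agent.H677.CodMultiset
  Cfsg.Agent.H677.CodPrime Cfsg.Agent.H78.CodB Matrix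

open scoped commutatorElement

universe u v w

set_option linter.unusedSectionVars false

section Simple

variable {S : Type u} [Group S] [Finite S] [IsSimpleGroup S] {L : Type v} [Group L] [Finite L] [IsSimpleGroup L]

/-- the multiplier -/
theorem exists_mult (h : Sub S L) : ∃ k, 0 < k ∧ Nat.card L = k * Nat.card S ∧
    ∀ χ : IrrCharacter S, χ ≠ one S → ∃ ψ : IrrCharacter L, ψ ≠ one L ∧
      charDegree (ψ : L → ℂ) = k * charDegree (χ : S → ℂ) := by
  obtain ⟨k, hk⟩ := card_dvd h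
  rw [mul_comm] at hk
  have hk0 : 0 < k := by
    rcases Nat.eq_zero_or_pos k with rfl | h0
    · rw [zero_mul] at hk
      exact absurd hk Nat.card_pos.ne'
    · exact h0
  refine ⟨k, hk0, hk, fun χ hχ => ?_⟩
  obtain ⟨ψ, hψ⟩ := h χ
  have hψ1 : ψ ≠ one L := by
    rintro rfl
    rw [cod_one] at hψ
    exact (one_lt_cod hχ).ne' hψ
  refine ⟨ψ, hψ1, ?_⟩
  have h1 := cod_mul hχ
  have h2 := cod_mul hψ1
  have h3 : 0 < cod χ := lt_trans one_pos (one_lt_cod hχ)
  rw [← hψ, hk, ← h1] at h2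
  apply Nat.eq_of_mul_eq_mul_left h3
  rw [h2]
  ring

theorem mult_sq_lt {k : ℕ} (hk : Nat.card L = k * Nat.card S)
    (h : ∀ χ : IrrCharacter S, χ ≠ one S → ∃ ψ : IrrCharacter L, ψ ≠ one L ∧
      charDegree (ψ : L → ℂ) = k * charDegree (χ : S → ℂ)) (χ : IrrCharacter S) (hχ : χ ≠ one S) :
    k * charDegree (χ : S → ℂ) ^ 2 < Nat.card S := by
  obtain ⟨ψ, -, hψ⟩ := h χ hχ
  have h1 := charDegree_sq_lt ψ
  rw [hψ, hk, mul_pow, pow_two k, mul_assoc] at h1
  exact Nat.lt_of_mul_lt_mul_left h1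

/-- nonprincipal characters of a nonabelian simple group are not linear -/
theorem two_le (hna : ¬ ∀ a b : S, a * b = b * a) (χ : IrrCharacter S) (hχ : χ ≠ one S) :
    2 ≤ charDegree (χ : S → ℂ) := by
  by_contra hlt
  have hpos := charDegree_pos χ
  have h1 : charDegree (χ : S → ℂ) = 1 := by omega
  rw [charDegree_eq_one_iff] at h1
  obtain ⟨f, hf⟩ := Linear.exists_hom_of_isIrrCharacter χ.2 h1
  apply hna
  intro a b
  have h2 := chKer_eq_bot hχ
  have h3 : ⁅a, b⁆ ∈ chKer χ := by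
    rw [mem_chKer, hf]
    simp [commutatorElement_def]
  rw [h2, Subgroup.mem_bot, commutatorElement_eq_one_iff_mul_comm] at h3
  exact h3

/-- the multiplier is less than the number of classes -/
theorem mult_lt {k : ℕ} (hk : Nat.card L = k * Nat.card S)
    (h : ∀ χ : IrrCharacter S, χ ≠ one S → ∃ ψ : IrrCharacter L, ψ ≠ one L ∧
      charDegree (ψ : L → ℂ) = k * charDegree (χ : S → ℂ)) : k < Nat.card (ConjClasses S) := by
  classical
  have := Core.finite_irr (G := S)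
  let _ := Fintype.ofFinite (IrrCharacter S)
  rw [← Core.card_irr, Nat.card_eq_fintype_card]
  have h1 := sum_sq_ne (G := S)
  have h2 : ∑ χ ∈ Finset.univ.erase (one S), k * charDegree (χ : S → ℂ) ^ 2 ≤
      (Finset.univ.erase (one S)).card • (Nat.card S - 1) := by
    apply Finset.sum_le_card_nsmul
    intro χ hχ
    have := mult_sq_lt hk h χ (Finset.ne_of_mem_erase hχ)
    omega
  rw [← Finset.mul_sum, Finset.card_erase_of_mem (Finset.mem_univ _), Finset.card_univ, smul_eq_mul] at h2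
  have hS : 1 < Nat.card S := Finite.one_lt_card
  by_contra hlt
  rw [not_lt] at hlt
  have h3 : ∑ χ ∈ Finset.univ.erase (one S), charDegree (χ : S → ℂ) ^ 2 = Nat.card S - 1 := by omega
  rw [h3] at h2
  have h4 := Nat.le_of_mul_le_mul_right h2 (by omega)
  have h5 : 0 < Fintype.card (IrrCharacter S) := Fintype.card_pos_iff.2 ⟨one S⟩
  omega

/-! ### characters of defect zero in the defining characteristic -/

variable {F : Type w} [Field F] [Fintype F]

omit [IsSimpleGroup L] in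
theorem defect_zero {n p f : ℕ} (hp : p.Prime) (hF : Fintype.card F = p ^ f) (hn : 4 ≤ n)
    (e : L ≃* ProjectiveSpecialLinearGroup (Fin n) F) (ψ : IrrCharacter L)
    (h : ¬ p ∣ Nat.card L / charDegree (ψ : L → ℂ)) :
    charDegree (ψ : L → ℂ) = p ^ (Nat.card L).factorization p := by
  have := Fact.mk hp
  have hchar : CharP F p := CodG.charP_of_card hp hF
  obtain ⟨s, hs, hker⟩ := GpLn.Elem.exists_proj (α := Fin n) e (by simp)
  obtain ⟨M, hM⟩ := Blocks.ExistsModular.exists_isPModular hp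
  let φ : IrrCharacter (SpecialLinearGroup (Fin n) F) := ⟨(ψ : L → ℂ) ∘ s, Core.isIrr_comp s hs ψ.2⟩
  have hφ : charDegree (φ : SpecialLinearGroup (Fin n) F → ℂ) = charDegree (ψ : L → ℂ) := by
    unfold charDegree
    simp [φ]
  have hcard : Nat.card (SpecialLinearGroup (Fin n) F) =
      Nat.card L * Nat.card (Subgroup.center (SpecialLinearGroup (Fin n) F)) := by
    rw [← hker, Subgroup.card_eq_card_quotient_mul_card_subgroup s.ker]
    congr 1
    exact Nat.card_congr (QuotientGroup.quotientKerEquivOfSurjective s hs).toEquiv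
  have hZ := H615.SLSteinberg.not_dvd_card_center (F := F) (n := n) (by omega) p
  obtain ⟨χ, h1, h2, -⟩ := H615.SLSteinberg.exists_steinberg (F := F) (n := n) (by omega) p
  have h3 : ¬ p ∣ Nat.card (SpecialLinearGroup (Fin n) F) / charDegree (φ : SpecialLinearGroup (Fin n) F → ℂ) := by
    rw [hφ, hcard, ← Nat.div_mul_right_comm (charDegree_dvd_card ψ), hp.dvd_mul]
    exact not_or.2 ⟨h, hZ⟩
  have h4 := H615.SLSteinberg.defect_zero_unique p M hM φ χ h3 h2
  have h5 : (Nat.card (SpecialLinearGroup (Fin n) F)).factorization p = (Nat.card L).factorization p := by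
    rw [hcard, Nat.factorization_mul Nat.card_pos.ne' Nat.card_pos.ne', Finsupp.add_apply,
      Nat.factorization_eq_zero_of_not_dvd hZ, add_zero]
  rw [← hφ, h4, ← h5]
  exact Blocks.Basic.charDegree_of_eq h1

theorem mult_eq {n p f : ℕ} (hp : p.Prime) (hF : Fintype.card F = p ^ f) (hn : 4 ≤ n)
    (e : L ≃* ProjectiveSpecialLinearGroup (Fin n) F) {k : ℕ} (hk0 : 0 < k) (hk : Nat.card L = k * Nat.card S)
    (h : ∀ χ : IrrCharacter S, χ ≠ one S → ∃ ψ : IrrCharacter L, ψ ≠ one L ∧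
      charDegree (ψ : L → ℂ) = k * charDegree (χ : S → ℂ)) (θ : IrrCharacter S) (hθ1 : θ ≠ one S)
    (hθ : ¬ p ∣ Nat.card S / charDegree (θ : S → ℂ)) :
    k * charDegree (θ : S → ℂ) = p ^ (Nat.card L).factorization p := by
  obtain ⟨ψ, -, hψ⟩ := h θ hθ1
  rw [← hψ]
  refine defect_zero hp hF hn e ψ ?_
  rw [hψ, hk, Nat.mul_div_mul_left _ _ hk0]
  exact hθ

/-- the characteristic divides `|S|` -/
theorem char_dvd {n p f : ℕ} (hp : p.Prime) (hF : Fintype.card F = p ^ f) (hn : 4 ≤ n)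
    (e : L ≃* ProjectiveSpecialLinearGroup (Fin n) F) (hna : ¬ ∀ a b : S, a * b = b * a) {k : ℕ} (hk0 : 0 < k)
    (hk : Nat.card L = k * Nat.card S)
    (h : ∀ χ : IrrCharacter S, χ ≠ one S → ∃ ψ : IrrCharacter L, ψ ≠ one L ∧
      charDegree (ψ : L → ℂ) = k * charDegree (χ : S → ℂ)) : p ∣ Nat.card S := by
  by_contra hpS
  have h1 : ∀ χ : IrrCharacter S, χ ≠ one S → k * charDegree (χ : S → ℂ) = p ^ (Nat.card L).factorization p :=
    fun χ hχ => mult_eq hp hF hn e hk0 hk h χ hχ fun h2 =>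
      hpS (h2.trans (Nat.div_dvd_of_dvd (charDegree_dvd_card χ)))
  obtain ⟨χ, hχ⟩ := exists_ne_one (L := S)
  have h2 := two_le hna χ hχ
  obtain ⟨r, hr, hrd⟩ := Nat.exists_prime_and_dvd (show charDegree (χ : S → ℂ) ≠ 1 by omega)
  obtain ⟨χ', hχ', h3⟩ := exists_not_dvd (G := S) hr (hrd.trans (charDegree_dvd_card χ))
  apply h3
  have h4 : charDegree (χ' : S → ℂ) = charDegree (χ : S → ℂ) := by
    apply Nat.eq_of_mul_eq_mul_left hk0
    rw [h1 χ hχ, h1 χ' hχ']
  rw [h4]
  exact hrd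

/-- the multiplier is a power of `p` if `S` has a character of degree `|S|_p` -/
theorem mult_pow {n p f : ℕ} (hp : p.Prime) (hF : Fintype.card F = p ^ f) (hn : 4 ≤ n)
    (e : L ≃* ProjectiveSpecialLinearGroup (Fin n) F) {k : ℕ} (hk0 : 0 < k)
    (hk : Nat.card L = k * Nat.card S)
    (h : ∀ χ : IrrCharacter S, χ ≠ one S → ∃ ψ : IrrCharacter L, ψ ≠ one L ∧
      charDegree (ψ : L → ℂ) = k * charDegree (χ : S → ℂ)) (θ : IrrCharacter S) (hθ1 : θ ≠ one S)
    (hθ : charDegree (θ : S → ℂ) = p ^ (Nat.card S).factorization p) : ∃ a, k = p ^ a := by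
  have h1 := mult_eq hp hF hn e hk0 hk h θ hθ1 (by
    rw [hθ]
    exact Nat.not_dvd_ordCompl hp Nat.card_pos.ne')
  obtain ⟨a, -, ha⟩ := (Nat.dvd_prime_pow hp).1 (Dvd.intro _ h1)
  exact ⟨a, ha⟩

/-- a character of `S` of degree `|S|_r > |S|^(1/3)` -/
theorem lt_four {k : ℕ} (hk : Nat.card L = k * Nat.card S)
    (h : ∀ χ : IrrCharacter S, χ ≠ one S → ∃ ψ : IrrCharacter L, ψ ≠ one L ∧
      charDegree (ψ : L → ℂ) = k * charDegree (χ : S → ℂ)) (θ : IrrCharacter S) (hθ1 : θ ≠ one S)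
    {P : ℕ} (hθ : charDegree (θ : S → ℂ) = P) (hlt : Nat.card S < P ^ 3) :
    k < P ∧ Nat.card L < P ^ 4 := by
  have h1 := mult_sq_lt hk h θ hθ1
  rw [hθ] at h1
  have h2 : k * P ^ 2 < P * P ^ 2 := by
    have : P * P ^ 2 = P ^ 3 := by ring
    omega
  have h3 : k < P := Nat.lt_of_mul_lt_mul_right h2
  refine ⟨h3, ?_⟩
  rw [hk]
  calc k * Nat.card S < P * P ^ 3 := Nat.mul_lt_mul_of_lt_of_lt h3 hlt
    _ = P ^ 4 := by ring

end Simple

end Cfsg.Agent.H78.CodK
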