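import Mathlib
import Cfsg.Agent.H78.CodK
import Cfsg.Agent.H902.Nice
import Cfsg.Agent.H761.LieExt
import Cfsg.Agent.H82.SporNum
import Cfsg.Agent.S4198

/-!
# Codegrees: simple groups whose codegrees are codegrees of `L_n(q)`
-/

set_option autoImplicit false

namespace Cfsg.Agent.H78.CodL

open Cfsg Cfsg.Agent Cfsg.Agent.Characters Cfsg.Agent.H686.CharKit Cfsg.Agent.H677.CodMultiset
  Cfsg.Agent.H677.CodPrime Cfsg.Agent.H78.CodB Matrix Cfsg.Agent.H902 Cfsg.Agent.H902.Names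

universe u v w

/-! ### names -/

theorem charP_pow {F : Type} [Field F] [Fintype F] {l f k : ℕ} (hl : l.Prime)
    (hF : Fintype.card F = (l ^ f) ^ k) : CharP F l :=
  CodG.charP_of_card (f := f * k) hl (by rw [pow_mul]; exact hF)

/-- a named group of Lie type is a group of Lie type in the characteristic `l` (copied from `H280.SPCross`) -/
theorem lieChar {Y : Type u} [Group Y] {g : OrdDiv.Grp} {S : Art.Sh} {l f : ℕ} (hg : IsLie g S l f)
    (h : OrdDiv.Real g Y) (hr : Art.Real S l f (Nat.card Y)) : IsLieTypeChar l Y := by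
  obtain ⟨hl, hf, hok, -⟩ := hr
  have hpp : IsPrimePow (l ^ f) := hl.isPrimePow.pow (by omega)
  cases hg with
  | psl n l f =>
    obtain ⟨F, iF, iT, hF, e⟩ := h
    exact Or.inl ⟨F, iF, iT, CodG.charP_of_card hl hF, n, hok.1, by rw [hF]; exact hok.2, e⟩
  | psp n l f =>
    obtain ⟨F, iF, iT, hF, e⟩ := h
    exact Or.inr (Or.inl ⟨F, iF, iT, CodG.charP_of_card hl hF, n, hok.1, by rw [hF]; exact hok.2, e⟩)
  | psu n l f =>
    obtain ⟨F, iF, iT, hF, e⟩ := h
    exact Or.inr (Or.inr (Or.inl ⟨F, iF, iT, charP_pow hl hF, n, l ^ f, hF, hok.1, fun h => by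
      have := hok.2 h.1
      omega, e⟩))
  | oodd n l f hn ho =>
    obtain ⟨F, iF, iT, hF, e⟩ := h
    exact Or.inr (Or.inr (Or.inr (Or.inl ⟨F, iF, iT, CodG.charP_of_card hl hF, n, hn, by rw [hF]; exact ho, e⟩)))
  | oplus n l f =>
    obtain ⟨F, iF, iT, hF, e⟩ := h
    exact Or.inr (Or.inr (Or.inr (Or.inr (Or.inl ⟨F, iF, iT, CodG.charP_of_card hl hF, n, hok, e⟩))))
  | ominus n l f =>
    obtain ⟨F, iF, iT, a, b, hF, hab, e⟩ := h
    exact Or.inr (Or.inr (Or.inr (Or.inr (Or.inr (Or.inl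
      ⟨F, iF, iT, CodG.charP_of_card hl hF, n, a, b, hok, hab, e⟩)))))
  | g2 l f =>
    obtain ⟨F, iF, iT, hF, e⟩ := h
    exact Or.inr (Or.inr (Or.inr (Or.inr (Or.inr (Or.inr (Or.inl
      ⟨F, iF, iT, CodG.charP_of_card hl hF, Or.inl ⟨by rw [hF]; exact hok, e⟩⟩))))))
  | f4 l f =>
    obtain ⟨F, iF, iT, hF, e⟩ := h
    exact Or.inr (Or.inr (Or.inr (Or.inr (Or.inr (Or.inr (Or.inl
      ⟨F, iF, iT, CodG.charP_of_card hl hF, Or.inr (Or.inl e)⟩))))))
  | e6 l f =>
    obtain ⟨F, iF, iT, hF, e⟩ := h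
    exact Or.inr (Or.inr (Or.inr (Or.inr (Or.inr (Or.inr (Or.inl
      ⟨F, iF, iT, CodG.charP_of_card hl hF, Or.inr (Or.inr (Or.inl e))⟩))))))
  | e7 l f =>
    obtain ⟨F, iF, iT, hF, e⟩ := h
    exact Or.inr (Or.inr (Or.inr (Or.inr (Or.inr (Or.inr (Or.inl
      ⟨F, iF, iT, CodG.charP_of_card hl hF, Or.inr (Or.inr (Or.inr (Or.inl e)))⟩))))))
  | e8 l f =>
    obtain ⟨F, iF, iT, hF, e⟩ := h
    exact Or.inr (Or.inr (Or.inr (Or.inr (Or.inr (Or.inr (Or.inl
      ⟨F, iF, iT, CodG.charP_of_card hl hF, Or.inr (Or.inr (Or.inr (Or.inr e)))⟩))))))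
  | te6 l f =>
    obtain ⟨F, iF, iT, hF, e⟩ := h
    exact Or.inr (Or.inr (Or.inr (Or.inr (Or.inr (Or.inr (Or.inr (Or.inl
      ⟨F, iF, iT, charP_pow hl hF, l ^ f, hpp, Or.inl ⟨hF, e⟩⟩)))))))
  | td4 l f =>
    obtain ⟨F, iF, iT, hF, e⟩ := h
    exact Or.inr (Or.inr (Or.inr (Or.inr (Or.inr (Or.inr (Or.inr (Or.inl
      ⟨F, iF, iT, charP_pow hl hF, l ^ f, hpp, Or.inr ⟨hF, e⟩⟩)))))))
  | sz l f =>
    obtain ⟨F, iF, iT, m, hm, hF, hq, e⟩ := h
    exact Or.inr (Or.inr (Or.inr (Or.inr (Or.inr (Or.inr (Or.inr (Or.inr (Or.inl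
      ⟨hok.1, F, iF, iT, m, hm, by rw [hF, hq], e⟩))))))))
  | ree l f =>
    obtain ⟨F, iF, iT, m, hm, hF, hq, e⟩ := h
    exact Or.inr (Or.inr (Or.inr (Or.inr (Or.inr (Or.inr (Or.inr (Or.inr (Or.inr (Or.inr
      ⟨hok.1, F, iF, iT, m, hm, by rw [hF, hq], e⟩)))))))))
  | tf4 l f =>
    obtain ⟨F, iF, iT, m, hm, hF, hq, e⟩ := h
    exact Or.inr (Or.inr (Or.inr (Or.inr (Or.inr (Or.inr (Or.inr (Or.inr (Or.inr (Or.inl
      ⟨hok.1, F, iF, iT, m, hm, by rw [hF, hq], e⟩)))))))))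

/-! ### the name of `L_n(q)` -/

theorem exists_pp' (F : Type w) [Field F] [Fintype F] : ∃ p f : ℕ, p.Prime ∧ 1 ≤ f ∧ Fintype.card F = p ^ f := by
  obtain ⟨p, f, hp, hf, h⟩ := (isPrimePow_nat_iff _).1 (Fintype.isPrimePow_card_of_field (α := F))
  exact ⟨p, f, hp, hf, h.symm⟩

theorem psl_name {L : Type v} [Group L] {F : Type w} [Field F] [Fintype F] {n p f : ℕ} (hp : p.Prime) (hf : 1 ≤ f)
    (hF : Fintype.card F = p ^ f) (hn : 4 ≤ n) (e : L ≃* ProjectiveSpecialLinearGroup (Fin n) F) :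
    Art.Real (.L n) p f (Nat.card L) ∧ OrdDiv.Real (.psl n (p ^ f)) L := by
  have := Fact.mk hp
  have : Fintype (GaloisField p f) := Fintype.ofFinite _
  have hK : Fintype.card (GaloisField p f) = p ^ f := by
    rw [← Nat.card_eq_fintype_card, GaloisField.card p f (by omega)]
  have e' := e.trans (LieClassical.FieldTransfer.pslCongr (ι := Fin n) (FiniteField.ringEquivOfCardEq (hF.trans hK.symm)))
  refine ⟨?_, GaloisField p f, inferInstance, inferInstance, hK, ⟨e'⟩⟩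
  rw [Nat.card_congr e'.toEquiv]
  exact psl_real hp hf hK (by omega) (fun h => by omega)

/-! ### the number theory -/

/-- T1 -/
def T1 : Prop := ∀ {n p f M r : ℕ}, 4 ≤ n → Art.Real (.L n) p f M → ¬ (n = 4 ∧ p ^ f = 3) → r.Prime → r ≠ p →
  Art.P r M ^ 4 < M

/-- T2 -/
def T2 : Prop := ∀ {X : Art.Sh} {n p f g a M M' : ℕ}, 4 ≤ n → Art.Real (.L n) p f M → Art.Real X p g M' →
  M = p ^ a * M' → M = M'

/-- T3 -/
def T3 : Prop := ∀ {n p f M m k : ℕ}, 4 ≤ n → Art.Real (.L n) p f M → 5 ≤ m → 2 * M = k * m.factorial → k ≤ 2 ^ m →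
  p ≤ m → (n = 4 ∧ p ^ f = 2) ∨ (m = 10 ∧ k = 544 ∧ n = 4 ∧ p ^ f = 4)

theorem fin43 : ∀ v ∈ [6, 7], ∀ a ∈ Art.ents 2 v,
    ¬ (6065280 % Art.val 2 a = 0 ∧ 6065280 / Art.val 2 a * (2 ^ v) ^ 2 < Art.val 2 a) := by
  decide +kernel

theorem card43 {p f M : ℕ} (h : Art.Real (.L 4) p f M) (hq : p ^ f = 3) : M = 6065280 := by
  have h1 := Art.val_eq h
  rw [← h1]
  unfold Art.val
  change (p ^ f) ^ Art.NN (.L 4) * Art.num (.L 4) (p ^ f) / Art.dd (.L 4) (p ^ f) = 6065280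
  rw [hq]
  decide +kernel

/-- `L_4(3)` -/
theorem no43 {X : Art.Sh} {r g k M : ℕ} (h : Art.Real X r g M) (hM : 6065280 = k * M) (hr3 : r ≠ 3)
    (hP : k * Art.P r M ^ 2 < M) (h4 : 6065280 < Art.P r M ^ 4) : False := by
  have hr := h.hp
  have hM0 : M ≠ 0 := by rintro rfl; simp at hM
  have h1 : Art.P r M ∣ 6065280 := (Art.P_dvd r M).trans (by rw [hM]; exact dvd_mul_left _ _)
  have h2 : 50 ≤ Art.P r M := by
    by_contra hlt
    have h5 : Art.P r M ^ 4 ≤ 49 ^ 4 := Nat.pow_le_pow_left (by omega) 4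
    omega
  have hfac : (6065280 : ℕ) = 2 ^ 7 * (3 ^ 6 * (5 * 13)) := by norm_num
  have h3 : r ∣ 6065280 := by
    by_contra hcon
    have h5 : Art.P r M = 1 := by
      apply Art.P_eq_one
      intro h6
      exact hcon (h6.trans (by rw [hM]; exact dvd_mul_left _ _))
    omega
  have h4' : r = 2 ∨ r = 5 ∨ r = 13 := by
    rw [hfac, hr.dvd_mul, hr.dvd_mul, hr.dvd_mul] at h3
    rcases h3 with h3 | h3 | h3 | h3
    · left; exact (Nat.prime_dvd_prime_iff_eq hr Nat.prime_two).1 (hr.dvd_of_dvd_pow h3)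
    · exact absurd ((Nat.prime_dvd_prime_iff_eq hr Nat.prime_three).1 (hr.dvd_of_dvd_pow h3)) hr3
    · right; left; exact (Nat.prime_dvd_prime_iff_eq hr (by norm_num)).1 h3
    · right; right; exact (Nat.prime_dvd_prime_iff_eq hr (by norm_num)).1 h3
  have h5 : ∀ v, M.factorization r = v → r ^ v ∣ 6065280 := fun v hv => by rw [← hv]; exact h1
  have h6 := h5 _ rfl
  rcases h4' with rfl | rfl | rfl
  · have h7 : M.factorization 2 ≤ 7 := by
      by_contra hlt
      have h8 : 2 ^ 8 ∣ 6065280 := (pow_dvd_pow 2 (by omega)).trans h6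
      revert h8
      decide
    have h8 : 5 < M.factorization 2 := by
      by_contra hlt
      have h9 : Art.P 2 M ≤ 2 ^ 5 := Nat.pow_le_pow_right (by norm_num) (by omega)
      omega
    have h9 := Art.P_prime_exp h
    have h10 := Art.mem_ents h h9
    have h11 := fin43 (M.factorization 2) (by
      rcases (show M.factorization 2 = 6 ∨ M.factorization 2 = 7 by omega) with h | h <;> rw [h] <;> decide) _ h10
    apply h11
    rw [Art.val_eq h]
    refine ⟨by rw [hM]; exact Nat.mul_mod_left _ _, ?_⟩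
    have h12 : 6065280 / M = k := by
      rw [hM]
      exact Nat.mul_div_cancel _ (Nat.pos_of_ne_zero hM0)
    rw [h12]
    exact hP
  · have h7 : M.factorization 5 ≤ 1 := by
      by_contra hlt
      have h8 : 5 ^ 2 ∣ 6065280 := (pow_dvd_pow 5 (by omega)).trans h6
      revert h8
      decide
    have h9 : Art.P 5 M ≤ 5 ^ 1 := Nat.pow_le_pow_right (by norm_num) h7
    omega
  · have h7 : M.factorization 13 ≤ 1 := by
      by_contra hlt
      have h8 : 13 ^ 2 ∣ 6065280 := (pow_dvd_pow 13 (by omega)).trans h6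
      revert h8
      decide
    have h9 : Art.P 13 M ≤ 13 ^ 1 := Nat.pow_le_pow_right (by norm_num) h7
    omega

/-- the order of `L_n(q)`, `n ≥ 4`, is `20160` only for `L_4(2)` -/
theorem ne20160 {n p f : ℕ} (hn : 4 ≤ n) (h : Art.Real (.L n) p f 20160) : n = 4 ∧ p ^ f = 2 := by
  have hp := h.hp
  have hf := h.hf
  have h9 := Art.P_prime_exp h
  change f * (n * (n - 1) / 2) = _ at h9
  have h1 : 6 ≤ n * (n - 1) / 2 := by
    rw [Nat.le_div_iff_mul_le (by norm_num)]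
    calc 6 * 2 = 4 * 3 := rfl
      _ ≤ n * (n - 1) := Nat.mul_le_mul hn (by omega)
  have h2 : 6 ≤ f * (n * (n - 1) / 2) := le_trans h1 (Nat.le_mul_of_pos_left _ hf)
  have h3 : p ^ (Nat.factorization 20160 p) ∣ 20160 := Nat.ordProj_dvd _ _
  have h4 : p ^ 6 ∣ 20160 := (pow_dvd_pow p (by omega)).trans h3
  have hp2 : p = 2 := by
    by_contra hne
    have h5 : 3 ≤ p := by
      have := hp.two_le
      omega
    have h6 : p ≤ 5 := by
      by_contra hlt
      have h7 : 6 ^ 6 ≤ p ^ 6 := Nat.pow_le_pow_left (by omega) 6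
      have h8 := Nat.le_of_dvd (by norm_num) h4
      omega
    interval_cases p
    · revert h4; decide
    · revert h4; decide
    · revert h4; decide
  subst hp2
  have h5 : Nat.factorization 20160 2 ≤ 6 := by
    by_contra hlt
    have h8 : 2 ^ 7 ∣ 20160 := (pow_dvd_pow 2 (by omega)).trans h3
    revert h8
    decide
  have h6 : f = 1 := by
    by_contra hne
    have h7 : 2 * 6 ≤ f * (n * (n - 1) / 2) := Nat.mul_le_mul (by omega) h1
    omega
  subst h6
  refine ⟨?_, by norm_num⟩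
  by_contra hne
  have h7 : 10 ≤ n * (n - 1) / 2 := by
    rw [Nat.le_div_iff_mul_le (by norm_num)]
    calc 10 * 2 = 5 * 4 := rfl
      _ ≤ n * (n - 1) := Nat.mul_le_mul (by omega) (by omega)
  omega

theorem j2_val : ∀ x ∈ OrdDiv.spor, x.1 = .j2 → x.2 = 604800 := by decide +kernel

/-! ### the theorem -/

set_option maxHeartbeats 800000 in
/-- a nonabelian simple group whose codegrees are codegrees of `L_n(q)`, `n ≥ 4`, `(n, q) ≠ (4, 2)`, is `L_n(q)` -/
theorem simple_iso (t1 : T1) (t2 : T2) (t3 : T3) {S : Type u} [Group S] [Finite S] [IsSimpleGroup S]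
    (hna : ¬ ∀ a b : S, a * b = b * a) (hN : Names.Nam S)
    (hJ : Spor.IsoJ2 S → ∃ χ : IrrCharacter S, 20 ≤ charDegree (χ : S → ℂ))
    {L : Type v} [Group L] [Finite L] [IsSimpleGroup L] {F : Type w} [Field F] [Fintype F] {n : ℕ}
    (hn : 4 ≤ n) (h42 : ¬ (n = 4 ∧ Fintype.card F = 2)) (e : L ≃* ProjectiveSpecialLinearGroup (Fin n) F)
    (hsub : Sub S L) : Nonempty (S ≃* L) := by
  obtain ⟨p, f, hp, hf, hF⟩ := exists_pp' F
  rw [hF] at h42
  obtain ⟨hL, hLr⟩ := psl_name hp hf hF hn e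
  obtain ⟨k, hk0, hk, h⟩ := CodK.exists_mult hsub
  have hpS := CodK.char_dvd hp hF hn e hna hk0 hk h
  have hna' : ¬ IsMulCommutative S := fun hc => hna fun a b => hc.is_comm.comm a b
  have hne_one : ∀ θ : IrrCharacter S, 1 < charDegree (θ : S → ℂ) → θ ≠ one S := by
    rintro θ hθ rfl
    rw [charDegree_one] at hθ
    exact lt_irrefl _ hθ
  rcases hN with ⟨m, hm, hr, hc⟩ | ⟨g, X, r, f', hg, hr, hc⟩ | ⟨x, hx, hr, hc⟩
  · -- alternating
    exfalso
    obtain ⟨e1⟩ := hr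
    have h1 := CodK.mult_lt hk h
    have h2 : Nat.card (ConjClasses S) = Nat.card (ConjClasses (alternatingGroup (Fin m))) := by
      have hf1 : Function.Surjective (ConjClasses.map e1.toMonoidHom) :=
        ConjClasses.map_surjective e1.surjective
      have hf2 : Function.Surjective (ConjClasses.map e1.symm.toMonoidHom) :=
        ConjClasses.map_surjective e1.symm.surjective
      exact le_antisymm (Nat.card_le_card_of_surjective _ hf2) (Nat.card_le_card_of_surjective _ hf1)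
    obtain ⟨h3, h4⟩ := S4198.result m hm
    have hk1 : k < 2 ^ (m - 2) := by omega
    have hk2 : k ≤ 2 ^ m := hk1.le.trans (Nat.pow_le_pow_right (by norm_num) (by omega))
    have hM : 2 * Nat.card L = k * m.factorial := by rw [hk, ← hc]; ring
    have hpm : p ≤ m := (hp.dvd_factorial).1 (hpS.trans ⟨2, by rw [← hc, mul_comm]⟩)
    rcases t3 hn hL hm hM hk2 hpm with h5 | ⟨rfl, rfl, -, -⟩
    · exact h42 h5
    · norm_num at hk1
  · -- Lie type
    have hrp := hc.hp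
    have := Fact.mk hrp
    obtain ⟨θ, hθ, -⟩ := H761.LieExt.lie_ext hna' (lieChar hg hr hc)
    have hθP : charDegree (θ : S → ℂ) = Art.P r (Nat.card S) := hθ
    have hlt := hc.lt_cube
    have hP1 : 1 < Art.P r (Nat.card S) := by
      by_contra hcon
      have h5 : Art.P r (Nat.card S) ^ 3 ≤ 1 ^ 3 := Nat.pow_le_pow_left (by omega) 3
      have h6 : 1 < Nat.card S := Finite.one_lt_card
      omega
    have hθ1 : θ ≠ one S := hne_one θ (by rw [hθP]; exact hP1)
    by_cases hrq : r = p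
    · subst hrq
      obtain ⟨a, ha⟩ := CodK.mult_pow hp hF hn e hk0 hk h θ hθ1 hθ
      have hM := t2 hn hL hc (by rw [hk, ha])
      rw [hM] at hL
      rcases Art.same_char hL hc with ⟨h5, h6⟩ | h5
      · subst h5
        subst h6
        have hgn : g = .psl n (r ^ f) := by
          cases hg
          rfl
        rw [hgn] at hr
        exact Iso.real_unique _ hr hLr
      · exfalso
        rw [h5] at hL
        exact h42 (ne20160 hn hL)
    · exfalso
      obtain ⟨h5, h6⟩ := CodK.lt_four hk h θ hθ1 hθP hlt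
      have h7 : Art.P r (Nat.card S) ≤ Art.P r (Nat.card L) :=
        Art.P_mono hrp Nat.card_pos.ne' (by rw [hk]; exact dvd_mul_left _ _)
      by_cases h43 : n = 4 ∧ p ^ f = 3
      · obtain ⟨rfl, hq⟩ := h43
        have h8 := card43 hL hq
        have hp3 : p = 3 := by
          have h9 : p ∣ 3 := by rw [← hq]; exact dvd_pow_self p (by omega)
          exact (Nat.prime_dvd_prime_iff_eq hp Nat.prime_three).1 h9
        rw [h8] at h6 hk
        refine no43 hc hk (by rw [← hp3]; exact hrq) ?_ h6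
        have h9 := CodK.mult_sq_lt (hk.symm ▸ h8) h θ hθ1
        rwa [hθP] at h9
      · have h8 := t1 hn hL h43 hrp hrq
        have h9 : Art.P r (Nat.card S) ^ 4 ≤ Art.P r (Nat.card L) ^ 4 := Nat.pow_le_pow_left h7 4
        omega
  · -- sporadic
    exfalso
    obtain ⟨χ, hχ⟩ := exists_ne_one (L := S)
    have h2 := CodK.two_le hna χ hχ
    have h3 := CodK.mult_sq_lt hk h χ hχ
    have h4 : k * 2 ^ 2 ≤ k * charDegree (χ : S → ℂ) ^ 2 := Nat.mul_le_mul_left _ (Nat.pow_le_pow_left h2 2)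
    obtain ⟨h5, h6, -, -⟩ := H82.SporNum.spor_num hx hn hL (by rw [hk, hc]) (by rw [← hc]; omega) (by rw [← hc]; exact hpS)
    rw [h5] at hr
    obtain ⟨χ', hχ'⟩ := hJ hr
    have h7 := CodK.mult_sq_lt hk h χ' (hne_one χ' (by omega))
    have h8 := j2_val x hx h5
    rw [hc, h8, h6] at h7
    have h9 : 1632 * 20 ^ 2 ≤ 1632 * charDegree (χ' : S → ℂ) ^ 2 := Nat.mul_le_mul_left _ (Nat.pow_le_pow_left hχ' 2)
    omega

end Cfsg.Agent.H78.CodL
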