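import Mathlib
import Cfsg.Agent.H78.CodL
import Cfsg.Agent.H941.Cod52
import Cfsg.Agent.H124.Cod.SameP
import Cfsg.Agent.S4797
import Cfsg.Agent.S0249

/-!
# Codegrees of `L_n(q)`: assembly
-/

set_option autoImplicit false

namespace Cfsg.Agent.H78.CodM

open Cfsg Cfsg.Agent Cfsg.Agent.Characters Cfsg.Agent.H686.CharKit Cfsg.Agent.H677.CodMultiset
  Cfsg.Agent.H677.CodPrime Cfsg.Agent.H78.CodB Matrix Cfsg.Agent.H902

universe u v w

/-! ### codegrees and isomorphisms -/

section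

set_option linter.unusedSectionVars false

variable {G : Type u} [Group G] [Finite G]

/-- transport along an isomorphism -/
theorem cod_equiv {H : Type v} [Group H] [Finite H] (e : G ≃* H) (χ : IrrCharacter H) :
    ∃ ψ : IrrCharacter G, cod ψ = cod χ := by
  refine ⟨⟨(χ : H → ℂ) ∘ e.toMonoidHom, Core.isIrr_comp e.toMonoidHom e.surjective χ.2⟩, ?_⟩
  rw [cod_def, cod_def]
  have h1 : Nat.card {g : G // ((χ : H → ℂ) ∘ e.toMonoidHom) g = ((χ : H → ℂ) ∘ e.toMonoidHom) 1} =
      Nat.card {g : H // (χ : H → ℂ) g = (χ : H → ℂ) 1} := by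
    refine Nat.card_congr (e.toEquiv.subtypeEquiv fun g => ?_)
    simp
  have h2 : charDegree ((χ : H → ℂ) ∘ e.toMonoidHom) = charDegree (χ : H → ℂ) := by
    unfold charDegree
    simp
  change Nat.card G / (Nat.card {g : G // ((χ : H → ℂ) ∘ e.toMonoidHom) g = ((χ : H → ℂ) ∘ e.toMonoidHom) 1} *
    charDegree ((χ : H → ℂ) ∘ e.toMonoidHom)) = _
  rw [h1, h2, Nat.card_congr e.toEquiv]

theorem Sub.quot {L : Type v} [Group L] (h : Sub G L) (N : Subgroup G) [N.Normal] : Sub (G ⧸ N) L := by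
  intro χ
  obtain ⟨ψ, hψ⟩ := h (infl N χ)
  exact ⟨ψ, by rw [← hψ, cod_infl]⟩

theorem Sub.right {L : Type v} [Group L] [Finite L] {H : Type w} [Group H] [Finite H] (h : Sub G L) (e : H ≃* L) :
    Sub G H := by
  intro χ
  obtain ⟨ψ, hψ⟩ := h χ
  obtain ⟨ψ', hψ'⟩ := cod_equiv e ψ
  exact ⟨ψ', by rw [hψ, hψ']⟩

end

/-- the condition in the statement -/
theorem cod_iff {G : Type u} [Group G] [Finite G] (χ : IrrCharacter G) (c : ℕ) :
    (c : ℂ) * (χ : G → ℂ) 1 * (Nat.card {g : G // (χ : G → ℂ) g = (χ : G → ℂ) 1} : ℂ) = (Nat.card G : ℂ) ↔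
      cod χ = c := by
  have hpos : 0 < Nat.card (chKer χ) * charDegree (χ : G → ℂ) := Nat.mul_pos Nat.card_pos (charDegree_pos χ)
  have hdvd : Nat.card (chKer χ) * charDegree (χ : G → ℂ) ∣ Nat.card G := by
    obtain ⟨ψ, hψ⟩ := exists_infl (chKer χ) χ le_rfl
    have h1 : charDegree (χ : G → ℂ) = charDegree (ψ : G ⧸ chKer χ → ℂ) := by
      rw [← charDegree_infl, hψ]
    rw [h1, Subgroup.card_eq_card_quotient_mul_card_subgroup (chKer χ), mul_comm]
    exact Nat.mul_dvd_mul_right (charDegree_dvd_card ψ) _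
  have hker : Nat.card {g : G // (χ : G → ℂ) g = (χ : G → ℂ) 1} = Nat.card (chKer χ) := rfl
  rw [hker, ← charDegree_irr χ, cod_eq]
  constructor
  · intro h
    have h1 : c * charDegree (χ : G → ℂ) * Nat.card (chKer χ) = Nat.card G := by exact_mod_cast h
    rw [← h1, mul_assoc, mul_comm (charDegree (χ : G → ℂ))]
    exact Nat.mul_div_cancel _ hpos
  · rintro rfl
    have h1 := Nat.div_mul_cancel hdvd
    rw [mul_assoc, mul_comm (charDegree (χ : G → ℂ) : ℂ)]
    exact_mod_cast h1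

open scoped commutatorElement

theorem map_comm {G : Type u} [Group G] {H : Type v} [Group H] (f : G →* H) (hf : Function.Surjective f)
    (h : commutator G = ⊤) : commutator H = ⊤ := by
  have h1 := Subgroup.map_commutator (⊤ : Subgroup G) ⊤ f
  rw [Subgroup.map_top_of_surjective _ hf, ← commutator_def, ← commutator_def, h,
    Subgroup.map_top_of_surjective _ hf] at h1
  exact h1.symm

theorem not_comm {G : Type u} [Group G] [Nontrivial G] (h : commutator G = ⊤) : ¬ ∀ a b : G, a * b = b * a := by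
  intro hc
  have h1 : commutator G ≤ ⊥ := by
    rw [commutator_def, Subgroup.commutator_le]
    intro a _ b _
    rw [Subgroup.mem_bot, commutatorElement_eq_one_iff_mul_comm]
    exact hc a b
  rw [h, top_le_iff] at h1
  exact bot_ne_top h1

/-! ### a chief factor below a normal subgroup -/

theorem exists_chief {G : Type u} [Group G] [Finite G] {N₀ : Subgroup G} [N₀.Normal] (hN : N₀ ≠ ⊥) :
    ∃ (M : Subgroup G) (_ : M.Normal), M < N₀ ∧ ∀ J : Subgroup G, J.Normal → M ≤ J → J ≤ N₀ → J = M ∨ J = N₀ := by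
  classical
  let s : Set (Subgroup G) := {M | M.Normal ∧ M < N₀}
  have hs : s.Nonempty := ⟨⊥, inferInstance, bot_lt_iff_ne_bot.2 hN⟩
  obtain ⟨M, hM⟩ := (Set.toFinite s).exists_maximal hs
  refine ⟨M, hM.1.1, hM.1.2, fun J hJ hMJ hJN => ?_⟩
  by_cases h : J = N₀
  · exact Or.inr h
  · exact Or.inl (le_antisymm (hM.2 ⟨hJ, lt_of_le_of_ne hJN h⟩ hMJ) hMJ)

/-- **There is no proper cover.**  `G` perfect, `N₀` normal with `G/N₀ ≅ L = L_n(q)`, every codegree of `G` a
codegree of `L`; then `N₀ = 1`. -/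
theorem no_cover {G : Type u} [Group G] [Finite G] {F : Type w} [Field F] [Fintype F] {n : ℕ} (hn : 4 ≤ n)
    (h42 : ¬ (n = 4 ∧ Fintype.card F = 2)) [Finite (ProjectiveSpecialLinearGroup (Fin n) F)]
    (hperf : commutator G = ⊤) (hsub : Sub G (ProjectiveSpecialLinearGroup (Fin n) F)) {N₀ : Subgroup G} [N₀.Normal]
    [IsSimpleGroup (G ⧸ N₀)] (hna : ¬ ∀ a b : G ⧸ N₀, a * b = b * a)
    (e : G ⧸ N₀ ≃* ProjectiveSpecialLinearGroup (Fin n) F) : N₀ = ⊥ := by
  classical
  by_contra hN₀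
  obtain ⟨M, hMn, hMN, hchief⟩ := exists_chief hN₀
  let Gb := G ⧸ M
  let N : Subgroup Gb := N₀.map (QuotientGroup.mk' M)
  have hNn : N.Normal := (inferInstance : N₀.Normal).map _ (QuotientGroup.mk'_surjective M)
  let e₁ : Gb ⧸ N ≃* G ⧸ N₀ := QuotientGroup.quotientQuotientEquivQuotient M N₀ hMN.le
  have hcomap : N.comap (QuotientGroup.mk' M) = N₀ := by
    rw [Subgroup.comap_map_eq, QuotientGroup.ker_mk', sup_eq_left.2 hMN.le]
  have hN : N ≠ ⊥ := by
    intro h
    rw [Subgroup.map_eq_bot_iff, QuotientGroup.ker_mk'] at h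
    exact absurd h (not_le_of_gt hMN)
  have hsimple : IsSimpleGroup (Gb ⧸ N) := (MulEquiv.isSimpleGroup_congr e₁).2 inferInstance
  have hna' : ¬ ∀ a b : Gb ⧸ N, a * b = b * a := by
    intro h
    apply hna
    intro a b
    apply e₁.symm.injective
    rw [map_mul, map_mul]
    exact h _ _
  have hmin : ∀ J : Subgroup Gb, J.Normal → J ≤ N → J = ⊥ ∨ J = N := by
    intro J hJ hJN
    have hs := QuotientGroup.mk'_surjective M
    rcases hchief (J.comap (QuotientGroup.mk' M)) (hJ.comap _) (by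
      intro x hx
      rw [Subgroup.mem_comap]
      have h1 : QuotientGroup.mk' M x = 1 := (QuotientGroup.eq_one_iff x).2 hx
      rw [h1]
      exact J.one_mem) (by
      rw [← hcomap]
      exact Subgroup.comap_mono hJN) with h | h
    · left
      rw [← Subgroup.map_comap_eq_self_of_surjective hs J, h, Subgroup.map_eq_bot_iff, QuotientGroup.ker_mk']
    · right
      rw [← Subgroup.map_comap_eq_self_of_surjective hs J, h]
  have e' : Gb ⧸ N ≃* ProjectiveSpecialLinearGroup (Fin n) F := e₁.trans e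
  have hsub' : Sub Gb (Gb ⧸ N) := Sub.right (Sub.quot hsub M) e'
  have hperf' : commutator Gb = ⊤ := map_comm (QuotientGroup.mk' M) (QuotientGroup.mk'_surjective M) hperf
  obtain ⟨hB, -, hdeg, hab, r, hr, -, hexp⟩ := main_min hN hna' hmin hsub'
  -- the centraliser
  have hNC : N ≤ Subgroup.centralizer (N : Set Gb) := by
    intro x hx
    rw [Subgroup.mem_centralizer_iff]
    intro y hy
    exact hab y hy x hx
  by_cases hC : Subgroup.centralizer (N : Set Gb) ≤ N
  · obtain ⟨p, f, hp, hf, hF⟩ := CodL.exists_pp' F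
    by_cases hrp : r = p
    · subst hrp
      have := Fact.mk hr
      by_cases h52 : n = 5 ∧ Fintype.card F = 2
      · obtain ⟨rfl, hF2⟩ := h52
        have hr2 : r = 2 := by
          have h1 : r ∣ 2 := by rw [← hF2, hF]; exact dvd_pow_self r (by omega)
          exact (Nat.prime_dvd_prime_iff_eq hp Nat.prime_two).1 h1
        rw [hr2] at hexp
        exact H941.Cod52.exc52 hF2 hB hab hexp hN hmin hC e'
      · exact CodI.def_char hF hn h52 hB hab hexp hN hmin hC e'
    · have := Fact.mk hr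
      exact CodI.cross_char hp hrp hF hn hB hab hexp hC e'
  · have hCt : Subgroup.centralizer (N : Set Gb) = ⊤ := by
      have h1 := CodB.sup_eq_top (N := N) (K := Subgroup.centralizer (N : Set Gb)) hC
      rwa [sup_eq_left.2 hNC] at h1
    have hZ : N ≤ Subgroup.center Gb := by
      intro x hx
      rw [Subgroup.mem_center_iff]
      intro g
      have h1 : g ∈ Subgroup.centralizer (N : Set Gb) := by rw [hCt]; trivial
      rw [Subgroup.mem_centralizer_iff] at h1
      exact (h1 x hx).symm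
    exact CodJ.central hZ hN hperf' hn h42 e' hdeg

theorem nontrivial_of_cod {F : Type w} [Field F] [Fintype F] {n : ℕ} (hn : 3 ≤ n) {G : Type u} [Group G] [Finite G]
    [Finite (ProjectiveSpecialLinearGroup (Fin n) F)]
    (h2 : ∀ ψ : IrrCharacter (ProjectiveSpecialLinearGroup (Fin n) F), ∃ χ : IrrCharacter G, cod χ = cod ψ) :
    Nontrivial G := by
  have hLs : IsSimpleGroup (ProjectiveSpecialLinearGroup (Fin n) F) := S0249.result n hn
  by_contra hsub
  rw [not_nontrivial_iff_subsingleton] at hsub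
  obtain ⟨ψ, hψ⟩ := exists_ne_one (L := ProjectiveSpecialLinearGroup (Fin n) F)
  obtain ⟨χ, hχ⟩ := h2 ψ
  have h3 := one_lt_cod hψ
  rw [← hχ, cod_eq] at h3
  have h4 : Nat.card G / (Nat.card (chKer χ) * charDegree (χ : G → ℂ)) ≤ Nat.card G := Nat.div_le_self _ _
  rw [Nat.card_of_subsingleton (1 : G)] at h4 h3
  omega

/-- **Main theorem**, `(n, q) ≠ (4, 2)` -/
theorem main (t1 : CodL.T1) (t3 : CodL.T3) {F : Type w} [Field F] [Fintype F] {n : ℕ} (hn : 4 ≤ n)
    (h42 : ¬ (n = 4 ∧ Fintype.card F = 2)) {G : Type u} [Group G] [Finite G]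
    (hnam : ∀ N : Subgroup G, ∀ [N.Normal] [IsSimpleGroup (G ⧸ N)], (¬ ∀ a b : G ⧸ N, a * b = b * a) →
      Names.Nam (G ⧸ N))
    (hJ : ∀ N : Subgroup G, ∀ [N.Normal] [IsSimpleGroup (G ⧸ N)], Spor.IsoJ2 (G ⧸ N) →
      ∃ χ : IrrCharacter (G ⧸ N), 20 ≤ charDegree (χ : G ⧸ N → ℂ))
    [Finite (ProjectiveSpecialLinearGroup (Fin n) F)]
    (h1 : ∀ χ : IrrCharacter G, ∃ ψ : IrrCharacter (ProjectiveSpecialLinearGroup (Fin n) F), cod χ = cod ψ)
    (h2 : ∀ ψ : IrrCharacter (ProjectiveSpecialLinearGroup (Fin n) F), ∃ χ : IrrCharacter G, cod χ = cod ψ) :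
    Nonempty (G ≃* ProjectiveSpecialLinearGroup (Fin n) F) := by
  classical
  have hLs : IsSimpleGroup (ProjectiveSpecialLinearGroup (Fin n) F) := S0249.result n (by omega)
  have hLp : commutator (ProjectiveSpecialLinearGroup (Fin n) F) = ⊤ :=
    map_comm (QuotientGroup.mk' (Subgroup.center (SpecialLinearGroup (Fin n) F))) (QuotientGroup.mk'_surjective _)
      (LieClassical.SLGen.commutator_eq_top (by rw [Fintype.card_fin]; omega))
  -- `G` is nontrivial
  have hnt : Nontrivial G := nontrivial_of_cod (by omega) h2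
  -- `G` is perfect
  have hperf : commutator G = ⊤ := by
    rw [S4797.result]
    intro χ hpr
    obtain ⟨ψ, hψ⟩ := h1 χ
    have h3 := (S4797.result (G := ProjectiveSpecialLinearGroup (Fin n) F)).1 hLp ψ
    apply h3
    have h4 : cod χ = cod ψ := hψ
    rw [cod_def, cod_def] at h4
    rw [← h4]
    exact hpr
  obtain ⟨N₀, hNn, hNs⟩ := H677.CodMain.exists_simple_quotient (G := G)
  have hna : ¬ ∀ a b : G ⧸ N₀, a * b = b * a :=
    not_comm (map_comm (QuotientGroup.mk' N₀) (QuotientGroup.mk'_surjective N₀) hperf)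
  obtain ⟨e⟩ := CodL.simple_iso t1 (fun hn h h' hk => H124.Cod.SameP.same_p hn h h' hk) t3 hna (hnam N₀ hna)
    (hJ N₀) hn h42 (MulEquiv.refl (ProjectiveSpecialLinearGroup (Fin n) F)) (Sub.quot h1 N₀)
  have h3 := no_cover hn h42 hperf h1 hna e
  subst h3
  exact ⟨QuotientGroup.quotientBot.symm.trans e⟩

end Cfsg.Agent.H78.CodM
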